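import Mathlib.RingTheory.Smooth.StandardSmooth
import Mathlib.RingTheory.Localization.Away.Basic
import Mathlib.RingTheory.Localization.Away.Lemmas
import Mathlib.Algebra.MvPolynomial.PDeriv
import Mathlib.RingTheory.Ideal.IdempotentFG
import Mathlib.RingTheory.Localization.Algebra

/-!
# Standard smoothness of localizations of `R[X₁..Xₙ]/(v₁..v_c)` at multiples of a Jacobian minor
-/

namespace Groth.Agent.Lib.Helper9

open MvPolynomial

universe u

/-- `R[X₁..Xₙ]/(v₁..v_c)` localized at a multiple of the Jacobian minor of the `v_j` against the
variables `cols` is standard smooth over `R`. -/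
theorem isStandardSmooth_away_of_dvd {R : Type u} [CommRing R] {n c : ℕ}
    (v : Fin c → MvPolynomial (Fin n) R) (cols : Fin c → Fin n) (hcols : Function.Injective cols)
    (b : MvPolynomial (Fin n) R ⧸ Ideal.span (Set.range v))
    (hb : Ideal.Quotient.mk (Ideal.span (Set.range v))
      (Matrix.det (Matrix.of fun j k : Fin c => pderiv (cols k) (v j))) ∣ b) :
    Algebra.IsStandardSmooth R (Localization.Away b) := by
  classical
  let pres : Algebra.PreSubmersivePresentation R
      (MvPolynomial (Fin n) R ⧸ Ideal.span (Set.range v)) (Fin n) (Fin c) :=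
    Algebra.PreSubmersivePresentation.naive cols hcols
  have hjac : pres.jacobian = Ideal.Quotient.mk (Ideal.span (Set.range v))
      (Matrix.det (Matrix.of fun j k : Fin c => pderiv (cols k) (v j))) := by
    rw [Algebra.PreSubmersivePresentation.jacobian_eq_jacobiMatrix_det]
    have h1 : pres.jacobiMatrix = (Matrix.of fun j k : Fin c => pderiv (cols k) (v j)).transpose := by
      ext i j
      rw [Algebra.PreSubmersivePresentation.jacobiMatrix_naive]
      rfl
    rw [h1, Matrix.det_transpose]
    rfl
  have hbunit : IsUnit (algebraMap _ (Localization.Away b) b) :=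
    IsLocalization.Away.algebraMap_isUnit b
  have hδunit : IsUnit (algebraMap _ (Localization.Away b) pres.jacobian) := by
    rw [hjac]
    obtain ⟨w, hw⟩ := hb
    have h2 : algebraMap _ (Localization.Away b) b =
        algebraMap _ (Localization.Away b) (Ideal.Quotient.mk (Ideal.span (Set.range v))
          (Matrix.det (Matrix.of fun j k : Fin c => pderiv (cols k) (v j)))) *
        algebraMap _ (Localization.Away b) w := by
      rw [← map_mul, ← hw]
    rw [h2] at hbunit
    exact isUnit_of_mul_isUnit_left hbunit
  let P : Algebra.SubmersivePresentation R (Localization.Away b) _ _ :=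
    { toPreSubmersivePresentation :=
        .comp (.localizationAway (Localization.Away b) b) pres
      jacobian_isUnit := by
        rw [Algebra.PreSubmersivePresentation.comp_jacobian_eq_jacobian_smul_jacobian,
          Algebra.PreSubmersivePresentation.localizationAway_jacobian, Algebra.smul_def]
        exact hδunit.mul hbunit }
  exact P.isStandardSmooth

/-- A quotient of a standard smooth algebra by a finitely generated idempotent ideal is standard
smooth. -/
theorem isStandardSmooth_of_surjective_of_isIdempotentElem_ker {R D T : Type u} [CommRing R]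
    [CommRing D] [CommRing T] [Algebra R D] [Algebra D T] [Algebra R T] [IsScalarTower R D T]
    [Algebra.IsStandardSmooth R D] (hsurj : Function.Surjective (algebraMap D T))
    (hfg : (RingHom.ker (algebraMap D T)).FG)
    (hidem : IsIdempotentElem (RingHom.ker (algebraMap D T))) :
    Algebra.IsStandardSmooth R T := by
  obtain ⟨e, he, hker⟩ := (Ideal.isIdempotentElem_iff_of_fg _ hfg).mp hidem
  have : IsLocalization.Away (1 - e) T :=
    IsLocalization.away_of_isIdempotentElem he.one_sub (by simpa using hker) hsurj
  have : Algebra.IsStandardSmooth D T := Algebra.IsStandardSmooth.localization_away (1 - e)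
  exact Algebra.IsStandardSmooth.trans R D T

/-- The key step in "elementary standard ⟹ standard smooth after localization". -/
theorem isStandardSmooth_away_of_killsTail {R : Type u} [CommRing R] {n c : ℕ} {A : Type u}
    [CommRing A] [Algebra R A]
    (lead : Fin c → MvPolynomial (Fin n) R) (cols : Fin c → Fin n)
    (hcols : Function.Injective cols)
    (hom : MvPolynomial (Fin n) R →ₐ[R] A) (hsurj : Function.Surjective hom)
    (J : Ideal (MvPolynomial (Fin n) R)) (hJ : RingHom.ker hom.toRingHom = J) (hJfg : J.FG)
    (hlead : Ideal.span (Set.range lead) ≤ J)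
    (a' : MvPolynomial (Fin n) R)
    (hdvd : Matrix.det (Matrix.of fun j k : Fin c => pderiv (cols k) (lead j)) ∣ a')
    (hkill : ∀ x ∈ J, a' * x ∈ Ideal.span (Set.range lead) ⊔ J ^ 2) :
    Algebra.IsStandardSmooth R (Localization.Away (hom a')) := by
  classical
  set L : Ideal (MvPolynomial (Fin n) R) := Ideal.span (Set.range lead) with hL
  have hLker : ∀ x ∈ L, hom x = 0 := fun x hx => by
    have := hlead hx
    rwa [← hJ] at this
  let π : (MvPolynomial (Fin n) R ⧸ L) →ₐ[R] A := Ideal.Quotient.liftₐ L hom hLker
  have hπmk : ∀ x, π (Ideal.Quotient.mk L x) = hom x := fun x => rfl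
  have hπsurj : Function.Surjective π := fun y => by
    obtain ⟨x, rfl⟩ := hsurj y
    exact ⟨Ideal.Quotient.mk L x, rfl⟩
  set b : MvPolynomial (Fin n) R ⧸ L := Ideal.Quotient.mk L a' with hb
  have : Algebra.IsStandardSmooth R (Localization.Away b) :=
    isStandardSmooth_away_of_dvd lead cols hcols b (map_dvd (Ideal.Quotient.mk L) hdvd)
  have : IsLocalization.Away (π b) (Localization.Away (hom a')) :=
    (inferInstance : IsLocalization.Away (hom a') (Localization.Away (hom a')))
  let φ : Localization.Away b →ₐ[R] Localization.Away (hom a') :=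
    IsLocalization.Away.mapₐ (Localization.Away b) (Localization.Away (hom a')) π b
  have hφsurj : Function.Surjective φ :=
    IsLocalization.Away.mapₐ_surjective_of_surjective b hπsurj
  letI : Algebra (Localization.Away b) (Localization.Away (hom a')) := φ.toRingHom.toAlgebra
  have : IsScalarTower R (Localization.Away b) (Localization.Away (hom a')) :=
    IsScalarTower.of_algebraMap_eq (fun r => (φ.commutes r).symm)
  -- the kernel
  let ι : MvPolynomial (Fin n) R →+* Localization.Away b :=
    (algebraMap _ (Localization.Away b)).comp (Ideal.Quotient.mk L)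
  have hkerπ : RingHom.ker π.toRingHom = J.map (Ideal.Quotient.mk L) := by
    ext x
    obtain ⟨x, rfl⟩ := Ideal.Quotient.mk_surjective x
    rw [Ideal.mem_map_iff_of_surjective _ Ideal.Quotient.mk_surjective]
    constructor
    · intro hx
      refine ⟨x, ?_, rfl⟩
      rw [← hJ]
      exact hx
    · rintro ⟨y, hy, hyx⟩
      rw [← hyx]
      rw [← hJ] at hy
      exact hy
  have hker : RingHom.ker (algebraMap (Localization.Away b) (Localization.Away (hom a'))) =
      J.map ι := by
    have h1 := IsLocalization.ker_map (S := Localization.Away b) (Localization.Away (hom a'))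
      (M := Submonoid.powers b) (T := Submonoid.powers (π b)) π.toRingHom
      (Submonoid.map_powers _ _)
    rw [hkerπ, Ideal.map_map] at h1
    exact h1
  have hLι : L.map ι = ⊥ := by
    rw [← Ideal.map_map]
    simp
  have hunit : IsUnit (ι a') := IsLocalization.Away.algebraMap_isUnit b
  have hidem : J.map ι ≤ J.map ι * J.map ι := by
    rw [Ideal.map_le_iff_le_comap]
    intro x hx
    have h1 := Ideal.mem_map_of_mem ι (hkill x hx)
    rw [Ideal.map_sup, hLι, bot_sup_eq, Ideal.map_pow, pow_two, map_mul] at h1
    rw [Ideal.mem_comap]
    exact (Ideal.unit_mul_mem_iff_mem _ hunit).mp h1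
  refine isStandardSmooth_of_surjective_of_isIdempotentElem_ker (D := Localization.Away b)
    hφsurj ?_ ?_
  · rw [hker]
    exact hJfg.map ι
  · rw [hker]
    exact le_antisymm Ideal.mul_le_left hidem

end Groth.Agent.Lib.Helper9
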