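import Mathlib

/-! Core construction for `Smoothing.lift_once` (helper9). -/

set_option autoImplicit false
universe u

namespace Groth.Agent.Lib.Helper9.LiftOnce

open MvPolynomial

/-- index type of the auxiliary variables -/
abbrev Kap {R : Type u} {n : ℕ} (t : Fin n → Finset R) : Type u := Σ j : Fin n, {x // x ∈ t j}

theorem lift_once_core {R Λ A B Bb : Type u} [CommRing R] [CommRing Λ] [Algebra R Λ] (I : Ideal R)
    (hI : I ^ 2 = ⊥) [CommRing A] [Algebra R A] [Algebra.FinitePresentation R A] (φ : A →ₐ[R] Λ)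
    [CommRing B] [Algebra R B] [Algebra.Smooth R B]
    [CommRing Bb] [Algebra R Bb] (hIBb : ∀ i ∈ I, algebraMap R Bb i = 0)
    (π : B →ₐ[R] Bb) (hπ : Function.Surjective π)
    (hker : RingHom.ker π.toRingHom = I.map (algebraMap R B))
    (gb : A →ₐ[R] Bb) (hb : Bb →ₐ[R] Λ ⧸ I.map (algebraMap R Λ))
    (hcomp : hb.comp gb = (Ideal.Quotient.mkₐ R (I.map (algebraMap R Λ))).comp φ) :
    ∃ (B' : Type u) (_ : CommRing B') (_ : Algebra R B'), Algebra.Smooth R B' ∧
      ∃ J : Ideal B', J ≤ I.map (algebraMap R B') ∧ J.FG ∧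
        ∃ (g : A →ₐ[R] B' ⧸ J) (k : (B' ⧸ J) →ₐ[R] Λ), k.comp g = φ := by
  classical
  obtain ⟨n, f, hfsurj, hfker⟩ := Algebra.FinitePresentation.out (R := R) (A := A)
  have hnil : IsNilpotent (I.map (algebraMap R Λ)) := by
    refine ⟨2, ?_⟩
    rw [← Ideal.map_pow, hI, Ideal.map_bot]
    rfl
  let k₀ : B →ₐ[R] Λ := Algebra.FormallySmooth.lift (I.map (algebraMap R Λ)) hnil (hb.comp π)
  have hk₀ : ∀ x, Ideal.Quotient.mk (I.map (algebraMap R Λ)) (k₀ x) = hb (π x) :=
    Algebra.FormallySmooth.mk_lift (I.map (algebraMap R Λ)) hnil (hb.comp π)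
  choose b hb' using fun j : Fin n => hπ (gb (f (X j)))
  have hδ : ∀ j, φ (f (X j)) - k₀ (b j) ∈ I.map (algebraMap R Λ) := by
    intro j
    rw [← Ideal.Quotient.eq, hk₀, hb' j]
    have := congr($hcomp (f (X j)))
    simpa using this.symm
  have hdec : ∀ j, ∃ t : Finset R, (↑t : Set R) ⊆ (I : Set R) ∧ ∃ c : t → Λ,
      ∑ i, c i • algebraMap R Λ ↑i = φ (f (X j)) - k₀ (b j) := by
    intro j
    have h1 := hδ j
    rw [Ideal.map, Ideal.span] at h1
    exact (Submodule.mem_span_image_iff_exists_fun Λ).mp h1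
  choose t ht c hc using hdec
  -- the map `k' : B' → Λ`
  let k'r : MvPolynomial (Kap t) B →+* Λ := eval₂Hom (k₀ : B →+* Λ) (fun p : Kap t => c p.1 p.2)
  have hk'rC : ∀ x : B, k'r (C x) = k₀ x := fun x => eval₂Hom_C _ _ x
  have hk'rX : ∀ p : Kap t, k'r (X p) = c p.1 p.2 := fun p => eval₂Hom_X' _ _ p
  let k' : MvPolynomial (Kap t) B →ₐ[R] Λ :=
    { toRingHom := k'r
      commutes' := fun r => by
        show k'r (algebraMap R (MvPolynomial (Kap t) B) r) = _
        rw [MvPolynomial.algebraMap_apply, hk'rC, AlgHom.commutes] }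
  let b' : Fin n → MvPolynomial (Kap t) B :=
    fun j => C (b j) + ∑ i : {x // x ∈ t j}, C (algebraMap R B ↑i) * X (⟨j, i⟩ : Kap t)
  have hk'b' : ∀ j, k' (b' j) = φ (f (X j)) := by
    intro j
    show k'r (b' j) = _
    have h1 : k'r (b' j) = k₀ (b j) + ∑ i : {x // x ∈ t j}, c j i • algebraMap R Λ ↑i := by
      show k'r (C (b j) + ∑ i : {x // x ∈ t j}, C (algebraMap R B ↑i) * X (⟨j, i⟩ : Kap t)) = _
      rw [map_add, map_sum, hk'rC]
      congr 1
      refine Finset.sum_congr rfl (fun i _ => ?_)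
      rw [map_mul, hk'rC, hk'rX, AlgHom.commutes, smul_eq_mul, mul_comm]
    rw [h1, hc j]
    ring
  let g' : MvPolynomial (Fin n) R →ₐ[R] MvPolynomial (Kap t) B := aeval b'
  have hk'g' : k'.comp g' = φ.comp f := by
    apply MvPolynomial.algHom_ext
    intro j
    simp [g', hk'b']
  let J : Ideal (MvPolynomial (Kap t) B) := (RingHom.ker f.toRingHom).map g'.toRingHom
  have hJfg : J.FG := hfker.map _
  have hJk' : ∀ x ∈ J, k' x = 0 := by
    have : J ≤ RingHom.ker k'.toRingHom := by
      rw [Ideal.map_le_iff_le_comap]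
      intro x hx
      rw [Ideal.mem_comap, RingHom.mem_ker]
      have := congr($hk'g' x)
      simp only [AlgHom.comp_apply] at this
      show k' (g' x) = 0
      rw [this]
      have hx' : f x = 0 := hx
      rw [hx', map_zero]
    exact fun x hx => this hx
  -- `J ≤ I B'`
  have hJI : J ≤ I.map (algebraMap R (MvPolynomial (Kap t) B)) := by
    let π' : MvPolynomial (Kap t) B →ₐ[R] MvPolynomial (Kap t) Bb := mapAlgHom π
    have hπ'C : ∀ x : B, π' (C x) = C (π x) := fun x => by
      show MvPolynomial.map _ (C x) = _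
      rw [map_C]; rfl
    have hπ'X : ∀ p : Kap t, π' (X p) = X p := fun p => by
      show MvPolynomial.map _ (X p) = _
      rw [map_X]
    have hkerπ' : RingHom.ker π'.toRingHom = I.map (algebraMap R (MvPolynomial (Kap t) B)) := by
      have h1 : RingHom.ker π'.toRingHom
          = RingHom.ker (MvPolynomial.map (σ := Kap t) π.toRingHom) := rfl
      rw [h1, MvPolynomial.ker_map, hker, Ideal.map_map]
      rfl
    rw [← hkerπ', Ideal.map_le_iff_le_comap]
    intro x hx
    rw [Ideal.mem_comap, RingHom.mem_ker]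
    show π' (g' x) = 0
    let F2 : MvPolynomial (Fin n) R →ₐ[R] MvPolynomial (Kap t) Bb :=
      ((IsScalarTower.toAlgHom R Bb (MvPolynomial (Kap t) Bb)).comp gb).comp f
    have hF : π'.comp g' = F2 := by
      apply MvPolynomial.algHom_ext
      intro j
      have h0 : ∀ i : {x // x ∈ t j}, π (algebraMap R B ↑i) = 0 := by
        intro i
        rw [AlgHom.commutes]
        exact hIBb _ (ht j i.2)
      have h1 : π' (b' j) = C (π (b j)) := by
        show π' (C (b j) + ∑ i : {x // x ∈ t j}, C (algebraMap R B ↑i) * X (⟨j, i⟩ : Kap t)) = _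
        rw [map_add, map_sum, hπ'C]
        have : ∀ i ∈ (Finset.univ : Finset {x // x ∈ t j}),
            π' (C (algebraMap R B ↑i) * X (⟨j, i⟩ : Kap t)) = 0 := by
          intro i _
          rw [map_mul, hπ'C, h0 i, map_zero, zero_mul]
        rw [Finset.sum_eq_zero this, add_zero]
      have h2 : (π'.comp g') (X j) = π' (b' j) := by
        simp [g']
      rw [h2, h1, hb' j]
      simp [F2, MvPolynomial.algebraMap_eq]
    have := congr($hF x)
    simp only [AlgHom.comp_apply] at this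
    rw [this]
    have hx' : f x = 0 := hx
    simp [F2, hx']
  refine ⟨MvPolynomial (Kap t) B, inferInstance, inferInstance, ?_, J, hJI, hJfg, ?_⟩
  · haveI : Algebra.Smooth B (MvPolynomial (Kap t) B) := {}
    exact Algebra.Smooth.comp R B (MvPolynomial (Kap t) B)
  · let g : A →ₐ[R] MvPolynomial (Kap t) B ⧸ J :=
      AlgHom.liftOfSurjective f hfsurj ((Ideal.Quotient.mkₐ R J).comp g') (by
        intro x hx
        rw [RingHom.mem_ker]
        show Ideal.Quotient.mk J (g' x) = 0
        rw [Ideal.Quotient.eq_zero_iff_mem]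
        exact Ideal.mem_map_of_mem _ hx)
    let k : (MvPolynomial (Kap t) B ⧸ J) →ₐ[R] Λ := Ideal.Quotient.liftₐ J k' hJk'
    refine ⟨g, k, ?_⟩
    ext a
    obtain ⟨x, rfl⟩ := hfsurj a
    have h1 : g (f x) = Ideal.Quotient.mk J (g' x) :=
      AlgHom.liftOfSurjective_apply f hfsurj _ _ x
    rw [AlgHom.comp_apply, h1]
    have h2 : k (Ideal.Quotient.mk J (g' x)) = k' (g' x) := rfl
    rw [h2]
    exact congr($hk'g' x)

end Groth.Agent.Lib.Helper9.LiftOnce
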