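import Mathlib

/-! Lifting standard smooth algebras along a surjection `R → R/I` (helper9).
Adapted from helper48's proof of S9436 (the étale case). -/

set_option autoImplicit false
universe u

namespace Groth.Agent.Lib.Helper9.StdSmoothLift

open TensorProduct

/-- Standard smooth algebras lift along surjections: for an ideal `I` of `R` and a standard smooth
`(R/I)`-algebra `Sb` there is a standard smooth `R`-algebra `S` with `(R/I) ⊗_R S ≅ Sb` over `R/I`. -/
theorem exists_standardSmooth_lift_tensor (R : Type u) [CommRing R] (I : Ideal R) (Sb : Type u)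
    [CommRing Sb] [Algebra (R ⧸ I) Sb] [Algebra.IsStandardSmooth (R ⧸ I) Sb] :
    ∃ (S : Type u) (_ : CommRing S) (_ : Algebra R S), Algebra.IsStandardSmooth R S ∧
      Nonempty (((R ⧸ I) ⊗[R] S) ≃ₐ[R ⧸ I] Sb) := by
  classical
  obtain ⟨ι, σ, _, _, ⟨P⟩⟩ := (inferInstance : Algebra.IsStandardSmooth (R ⧸ I) Sb).out
  letI : Algebra R Sb := ((algebraMap (R ⧸ I) Sb).comp (Ideal.Quotient.mk I)).toAlgebra
  haveI : IsScalarTower R (R ⧸ I) Sb := IsScalarTower.of_algebraMap_eq' rfl
  haveI : P.HasCoeffs R := ⟨by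
    intro x _
    obtain ⟨r, rfl⟩ := Ideal.Quotient.mk_surjective x
    exact ⟨r, rfl⟩⟩
  let M₀ := P.toPresentation.ModelOfHasCoeffs R
  let P₀ : Algebra.PreSubmersivePresentation R M₀ ι σ := P.toPreSubmersivePresentation.ofHasCoeffs R
  obtain ⟨j, hj⟩ : ∃ j : M₀, j = P₀.jacobian := ⟨_, rfl⟩
  let S := Localization.Away j
  let Q₀ : Algebra.SubmersivePresentation M₀ S Unit Unit :=
    Algebra.SubmersivePresentation.localizationAway S j
  let PS : Algebra.SubmersivePresentation R S (Unit ⊕ ι) (Unit ⊕ σ) :=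
    { toPreSubmersivePresentation := Q₀.toPreSubmersivePresentation.comp P₀
      jacobian_isUnit := by
        rw [Algebra.PreSubmersivePresentation.comp_jacobian_eq_jacobian_smul_jacobian,
          Algebra.smul_def, IsUnit.mul_iff]
        refine ⟨?_, Q₀.jacobian_isUnit⟩
        rw [← hj]
        exact IsLocalization.Away.algebraMap_isUnit j }
  have hstd : Algebra.IsStandardSmooth R S := PS.isStandardSmooth
  refine ⟨S, inferInstance, inferInstance, hstd, ?_⟩
  let e₀ : TensorProduct R (R ⧸ I) M₀ ≃ₐ[R ⧸ I] Sb := P.toPresentation.tensorModelOfHasCoeffsEquiv R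
  -- `1 ⊗ j` is a unit
  letI : Fintype σ := Fintype.ofFinite σ
  have hj' : j = Ideal.Quotient.mk _ (P.jacobianOfHasCoeffs R) := by
    rw [hj, Algebra.PreSubmersivePresentation.jacobian_eq_jacobiMatrix_det]
    rfl
  have hunit : IsUnit ((1 : R ⧸ I) ⊗ₜ[R] j : TensorProduct R (R ⧸ I) M₀) := by
    have h1 : e₀ ((1 : R ⧸ I) ⊗ₜ[R] j) = P.jacobian := by
      rw [hj']
      refine (Algebra.Presentation.tensorModelOfHasCoeffsEquiv_tmul (P := P.toPresentation) R
        (1 : R ⧸ I) (P.jacobianOfHasCoeffs R)).trans ?_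
      rw [map_one, one_mul]
      exact P.aeval_jacobianOfHasCoeffs R
    have h2 : IsUnit (e₀ ((1 : R ⧸ I) ⊗ₜ[R] j)) := h1 ▸ P.jacobian_isUnit
    have h3 := h2.map e₀.symm
    simpa using h3
  let ψ : TensorProduct R (R ⧸ I) M₀ →ₐ[R ⧸ I] TensorProduct R (R ⧸ I) S :=
    Algebra.TensorProduct.map (AlgHom.id (R ⧸ I) (R ⧸ I)) (IsScalarTower.toAlgHom R M₀ S)
  letI alg : Algebra (TensorProduct R (R ⧸ I) M₀) (TensorProduct R (R ⧸ I) S) := ψ.toRingHom.toAlgebra
  haveI : IsScalarTower (R ⧸ I) (TensorProduct R (R ⧸ I) M₀) (TensorProduct R (R ⧸ I) S) :=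
    IsScalarTower.of_algebraMap_eq' (R := R ⧸ I) (S := TensorProduct R (R ⧸ I) M₀)
      (A := TensorProduct R (R ⧸ I) S) (by
      ext x
      simp [RingHom.algebraMap_toAlgebra, ψ, Algebra.TensorProduct.algebraMap_apply])
  have hloc := IsLocalization.tensorProduct_tensorProduct_right R (R ⧸ I) (Submonoid.powers j) S (by
      refine RingHom.ext fun x => ?_
      simp [RingHom.algebraMap_toAlgebra, ψ])
  have hunits : (Submonoid.powers j).map
      (Algebra.TensorProduct.includeRight (R := R) (A := R ⧸ I)) ≤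
      IsUnit.submonoid (TensorProduct R (R ⧸ I) M₀) := by
    rintro _ ⟨_, ⟨n, rfl⟩, rfl⟩
    simp only [map_pow, Algebra.TensorProduct.includeRight_apply]
    exact hunit.pow n
  have hbij : Function.Bijective ψ :=
    (IsLocalization.atUnits (TensorProduct R (R ⧸ I) M₀) _ hunits
      (S := TensorProduct R (R ⧸ I) S)).bijective
  let e₁ : TensorProduct R (R ⧸ I) M₀ ≃ₐ[R ⧸ I] TensorProduct R (R ⧸ I) S :=
    AlgEquiv.ofBijective ψ hbij
  exact ⟨e₁.symm.trans e₀⟩

/-- Quotient form of `exists_standardSmooth_lift_tensor`. -/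
theorem exists_standardSmooth_lift (R : Type u) [CommRing R] (I : Ideal R) (Sb : Type u)
    [CommRing Sb] [Algebra (R ⧸ I) Sb] [Algebra.IsStandardSmooth (R ⧸ I) Sb] :
    ∃ (S : Type u) (_ : CommRing S) (_ : Algebra R S), Algebra.IsStandardSmooth R S ∧
      Nonempty ((S ⧸ I.map (algebraMap R S)) ≃ₐ[R ⧸ I] Sb) := by
  obtain ⟨S, _, _, hS, ⟨e⟩⟩ := exists_standardSmooth_lift_tensor R I Sb
  exact ⟨S, inferInstance, inferInstance, hS,
    ⟨(Algebra.TensorProduct.quotIdealMapEquivQuotTensor S I).trans e⟩⟩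

end Groth.Agent.Lib.Helper9.StdSmoothLift
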