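import Mathlib
import Groth.Agent.S2023

/-! `Smoothing.lift_twice` core (helper9): killing a finitely generated ideal `J ⊆ IB` with `φ(J)=0`
by passing to another smooth algebra, using `lift_once` and the equational criterion of flatness. -/

set_option autoImplicit false
universe u

namespace Groth.Agent.Lib.Helper9.LiftTwice

open MvPolynomial

variable {R Λ : Type u} [CommRing R] [CommRing Λ] [Algebra R Λ]

theorem algebraMap_mul_mem_bot {B : Type u} [CommRing B] [Algebra R B] (I : Ideal R)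
    (hI : I ^ 2 = ⊥) {ε : R} (hε : ε ∈ I) {θ : B} (hθ : θ ∈ I.map (algebraMap R B)) :
    algebraMap R B ε * θ = 0 := by
  have h1 : algebraMap R B ε * θ ∈ I.map (algebraMap R B) * I.map (algebraMap R B) :=
    Ideal.mul_mem_mul (Ideal.mem_map_of_mem _ hε) hθ
  rw [← Ideal.map_mul, ← pow_two, hI, Ideal.map_bot] at h1
  exact h1

/-- one generator -/
theorem lift_twice_single [Module.Flat R Λ] (I : Ideal R) (hI : I ^ 2 = ⊥)
    (h : Smoothing.IndSmooth (R ⧸ I) (Λ ⧸ I.map (algebraMap R Λ)))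
    (B : Type u) [CommRing B] [Algebra R B] [Algebra.Smooth R B] (φ : B →ₐ[R] Λ) (x : B)
    (hx : x ∈ I.map (algebraMap R B)) (hφx : φ x = 0) :
    ∃ (B' : Type u) (_ : CommRing B') (_ : Algebra R B'), Algebra.Smooth R B' ∧
      ∃ (α : B →ₐ[R] B') (β : B' →ₐ[R] Λ), α x = 0 ∧ β.comp α = φ := by
  classical
  -- decompose `x`
  rw [Ideal.map, Ideal.span] at hx
  obtain ⟨t, ht, bb, hbb⟩ := (Submodule.mem_span_image_iff_exists_fun B).mp hx
  have hrel : ∑ i : {y // y ∈ t}, (i : R) • φ (bb i) = 0 := by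
    have h1 : φ x = ∑ i : {y // y ∈ t}, (i : R) • φ (bb i) := by
      rw [← hbb, map_sum]
      refine Finset.sum_congr rfl (fun i _ => ?_)
      rw [smul_eq_mul, map_mul, AlgHom.commutes, Algebra.smul_def, mul_comm]
    rw [← h1, hφx]
  obtain ⟨k, a, y, hxy, hay⟩ := Module.Flat.isTrivialRelation_of_sum_smul_eq_zero (R := R) (M := Λ)
    (f := fun i : {y // y ∈ t} => (i : R)) (x := fun i => φ (bb i)) hrel
  have hxy : ∀ i : {y // y ∈ t}, φ (bb i) = ∑ j, a i j • y j := hxy
  have hay : ∀ j, ∑ i : {y // y ∈ t}, (i : R) * a i j = 0 := hay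
  -- the algebra `C`
  let rel : {y // y ∈ t} → MvPolynomial (Fin k) B :=
    fun i => C (bb i) - ∑ j, C (algebraMap R B (a i j)) * X j
  let K : Ideal (MvPolynomial (Fin k) B) := Ideal.span (Set.range rel)
  have hKfg : K.FG := ⟨(Finset.univ.image rel), by simp [K]⟩
  haveI : Algebra.FinitePresentation R (MvPolynomial (Fin k) B) :=
    Algebra.FinitePresentation.trans R B (MvPolynomial (Fin k) B)
  haveI : Algebra.FinitePresentation R (MvPolynomial (Fin k) B ⧸ K) :=
    Algebra.FinitePresentation.quotient hKfg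
  -- the map to Λ
  let χr : MvPolynomial (Fin k) B →+* Λ := eval₂Hom (φ : B →+* Λ) y
  have hχrC : ∀ b : B, χr (C b) = φ b := fun b => eval₂Hom_C _ _ b
  have hχrX : ∀ j, χr (X j) = y j := fun j => eval₂Hom_X' _ _ j
  let χ₀ : MvPolynomial (Fin k) B →ₐ[R] Λ :=
    { toRingHom := χr
      commutes' := fun r => by
        show χr (algebraMap R (MvPolynomial (Fin k) B) r) = _
        rw [MvPolynomial.algebraMap_apply, hχrC, AlgHom.commutes] }
  have hχ₀K : ∀ z ∈ K, χ₀ z = 0 := by
    have : K ≤ RingHom.ker χ₀.toRingHom := by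
      rw [Ideal.span_le]
      rintro _ ⟨i, rfl⟩
      show χr (rel i) = 0
      show χr (C (bb i) - ∑ j, C (algebraMap R B (a i j)) * X j) = 0
      rw [map_sub, map_sum, hχrC, hxy i, sub_eq_zero]
      refine Finset.sum_congr rfl (fun j _ => ?_)
      rw [map_mul, hχrC, hχrX, AlgHom.commutes, Algebra.smul_def]
    exact fun z hz => this hz
  let χ : (MvPolynomial (Fin k) B ⧸ K) →ₐ[R] Λ := Ideal.Quotient.liftₐ K χ₀ hχ₀K
  obtain ⟨B', _, _, hB', J', hJ'I, hJ'fg, g, kk, hkg⟩ := Groth.Agent.S2023.result I hI h χ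
  have hJ'nil : IsNilpotent J' := by
    refine ⟨2, ?_⟩
    have : J' ^ 2 ≤ (I.map (algebraMap R B')) ^ 2 := Ideal.pow_right_mono hJ'I 2
    rw [← Ideal.map_pow, hI, Ideal.map_bot] at this
    exact le_bot_iff.mp this
  let ιB : B →ₐ[R] (MvPolynomial (Fin k) B ⧸ K) :=
    (Ideal.Quotient.mkₐ R K).comp (IsScalarTower.toAlgHom R B (MvPolynomial (Fin k) B))
  let α : B →ₐ[R] B' := Algebra.FormallySmooth.lift J' hJ'nil (g.comp ιB)
  have hα : ∀ b, Ideal.Quotient.mk J' (α b) = g (ιB b) :=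
    Algebra.FormallySmooth.mk_lift J' hJ'nil (g.comp ιB)
  let β : B' →ₐ[R] Λ := kk.comp (Ideal.Quotient.mkₐ R J')
  refine ⟨B', inferInstance, inferInstance, hB', α, β, ?_, ?_⟩
  · -- `α x = 0`
    choose ξ hξ using fun j : Fin k =>
      Ideal.Quotient.mk_surjective (g (Ideal.Quotient.mk K (X j)))
    have hθ : ∀ i : {y // y ∈ t},
        α (bb i) - ∑ j, algebraMap R B' (a i j) * ξ j ∈ I.map (algebraMap R B') := by
      intro i
      apply hJ'I
      rw [← Ideal.Quotient.eq, hα, map_sum]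
      have h1 : ιB (bb i) = Ideal.Quotient.mk K (∑ j, C (algebraMap R B (a i j)) * X j) := by
        show Ideal.Quotient.mk K (algebraMap B (MvPolynomial (Fin k) B) (bb i)) = _
        rw [Ideal.Quotient.eq, MvPolynomial.algebraMap_eq]
        exact Ideal.subset_span ⟨i, rfl⟩
      rw [h1, map_sum, map_sum]
      refine Finset.sum_congr rfl (fun j _ => ?_)
      rw [map_mul, map_mul, map_mul, hξ j]
      congr 1
      have h2 : (C (algebraMap R B (a i j)) : MvPolynomial (Fin k) B)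
          = algebraMap R (MvPolynomial (Fin k) B) (a i j) := by
        rw [MvPolynomial.algebraMap_apply]
      rw [h2]
      have h3 : Ideal.Quotient.mk K (algebraMap R (MvPolynomial (Fin k) B) (a i j))
          = algebraMap R (MvPolynomial (Fin k) B ⧸ K) (a i j) := rfl
      rw [h3, AlgHom.commutes]
      rfl
    have hx' : α x = ∑ i : {y // y ∈ t}, algebraMap R B' (i : R) * α (bb i) := by
      rw [← hbb, map_sum]
      refine Finset.sum_congr rfl (fun i _ => ?_)
      rw [smul_eq_mul, map_mul, AlgHom.commutes, mul_comm]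
    rw [hx']
    have h4 : ∀ i : {y // y ∈ t}, algebraMap R B' (i : R) * α (bb i)
        = ∑ j, algebraMap R B' ((i : R) * a i j) * ξ j := by
      intro i
      have h5 := algebraMap_mul_mem_bot (B := B') I hI (ht i.2) (hθ i)
      rw [mul_sub, sub_eq_zero] at h5
      rw [h5, Finset.mul_sum]
      refine Finset.sum_congr rfl (fun j _ => ?_)
      rw [map_mul, mul_assoc]
    rw [Finset.sum_congr rfl (fun i _ => h4 i), Finset.sum_comm]
    refine Finset.sum_eq_zero (fun j _ => ?_)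
    rw [← Finset.sum_mul, ← map_sum, hay j, map_zero, zero_mul]
  · -- `β ∘ α = φ`
    ext b
    show kk (Ideal.Quotient.mk J' (α b)) = φ b
    rw [hα]
    have := congr($hkg (ιB b))
    rw [AlgHom.comp_apply] at this
    rw [this]
    show χr (algebraMap B (MvPolynomial (Fin k) B) b) = φ b
    rw [MvPolynomial.algebraMap_eq, hχrC]

/-- finitely many generators -/
theorem lift_twice_fin [Module.Flat R Λ] (I : Ideal R) (hI : I ^ 2 = ⊥)
    (h : Smoothing.IndSmooth (R ⧸ I) (Λ ⧸ I.map (algebraMap R Λ))) (n : ℕ) :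
    ∀ (B : Type u) [CommRing B] [Algebra R B] [Algebra.Smooth R B] (φ : B →ₐ[R] Λ)
      (s : Fin n → B), (∀ i, s i ∈ I.map (algebraMap R B)) → (∀ i, φ (s i) = 0) →
    ∃ (B' : Type u) (_ : CommRing B') (_ : Algebra R B'), Algebra.Smooth R B' ∧
      ∃ (α : B →ₐ[R] B') (β : B' →ₐ[R] Λ), (∀ i, α (s i) = 0) ∧ β.comp α = φ := by
  induction n with
  | zero =>
    intro B _ _ _ φ s _ _
    exact ⟨B, inferInstance, inferInstance, inferInstance, AlgHom.id R B, φ,
      fun i => i.elim0, AlgHom.comp_id φ⟩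
  | succ n ih =>
    intro B _ _ _ φ s hs hφs
    obtain ⟨B₁, _, _, hB₁, α₁, β₁, hα₁, hβ₁⟩ :=
      lift_twice_single I hI h B φ (s 0) (hs 0) (hφs 0)
    have hmap : ∀ z ∈ I.map (algebraMap R B), α₁ z ∈ I.map (algebraMap R B₁) := by
      intro z hz
      have h1 : α₁ z ∈ (I.map (algebraMap R B)).map α₁.toRingHom := Ideal.mem_map_of_mem _ hz
      have h2 : α₁.toRingHom.comp (algebraMap R B) = algebraMap R B₁ := α₁.comp_algebraMap
      rw [Ideal.map_map, h2] at h1
      exact h1
    obtain ⟨B₂, _, _, hB₂, α₂, β₂, hα₂, hβ₂⟩ :=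
      ih B₁ β₁ (fun i => α₁ (s i.succ)) (fun i => hmap _ (hs i.succ)) (fun i => by
        have := congr($hβ₁ (s i.succ))
        rw [AlgHom.comp_apply] at this
        rw [this, hφs])
    refine ⟨B₂, inferInstance, inferInstance, hB₂, α₂.comp α₁, β₂, ?_, ?_⟩
    · intro i
      refine Fin.cases ?_ (fun j => ?_) i
      · rw [AlgHom.comp_apply, hα₁, map_zero]
      · exact hα₂ j
    · rw [← AlgHom.comp_assoc, hβ₂, hβ₁]

end Groth.Agent.Lib.Helper9.LiftTwice
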