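import Mathlib
import Groth.Agent.S2023
import Groth.Agent.Lib.Helper9.LiftTwice

/-! Ind-smoothness lifts along flat nilpotent deformations (helper9). -/

set_option autoImplicit false
universe u

namespace Groth.Agent.Lib.Helper9.IndSmoothNilp

/-- transfer of ind-smoothness along compatible ring isomorphisms -/
theorem indSmooth_of_ringEquiv {R R' Λ Λ' : Type u} [CommRing R] [CommRing R'] [CommRing Λ]
    [CommRing Λ'] [Algebra R Λ] [Algebra R' Λ'] (e : R ≃+* R') (eΛ : Λ ≃+* Λ')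
    (he : ∀ r, eΛ (algebraMap R Λ r) = algebraMap R' Λ' (e r))
    (h : Smoothing.IndSmooth R Λ) : Smoothing.IndSmooth R' Λ' := by
  intro A' _ _ hfp f'
  letI algRA' : Algebra R A' := ((algebraMap R' A').comp e.toRingHom).toAlgebra
  have hfpR : Algebra.FinitePresentation R A' := by
    have h1 : (algebraMap R' A').FinitePresentation :=
      RingHom.finitePresentation_algebraMap.mpr hfp
    have h2 : (e.toRingHom).FinitePresentation :=
      RingHom.FinitePresentation.of_bijective e.bijective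
    exact h1.comp h2
  let f : A' →ₐ[R] Λ :=
    { toRingHom := eΛ.symm.toRingHom.comp f'.toRingHom
      commutes' := fun r => by
        show eΛ.symm (f' (algebraMap R' A' (e r))) = algebraMap R Λ r
        rw [f'.commutes, ← he, RingEquiv.symm_apply_apply] }
  obtain ⟨B, _, _, hB, g, k, hkg⟩ := h A' hfpR f
  letI algR'B : Algebra R' B := ((algebraMap R B).comp e.symm.toRingHom).toAlgebra
  have hsm : Algebra.Smooth R' B := by
    have h1 : (algebraMap R B).Smooth := RingHom.smooth_algebraMap.mpr hB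
    have h2 : (e.symm.toRingHom).Smooth := RingHom.Smooth.of_bijective e.symm.bijective
    exact h2.comp h1
  let g' : A' →ₐ[R'] B :=
    { toRingHom := g.toRingHom
      commutes' := fun r => by
        show g (algebraMap R' A' r) = algebraMap R B (e.symm r)
        rw [← g.commutes]
        show g (algebraMap R' A' r) = g (algebraMap R' A' (e (e.symm r)))
        rw [RingEquiv.apply_symm_apply] }
  let k' : B →ₐ[R'] Λ' :=
    { toRingHom := eΛ.toRingHom.comp k.toRingHom
      commutes' := fun r => by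
        show eΛ (k (algebraMap R B (e.symm r))) = algebraMap R' Λ' r
        rw [k.commutes, he, RingEquiv.apply_symm_apply] }
  refine ⟨B, inferInstance, algR'B, hsm, g', k', ?_⟩
  ext a
  show eΛ (k (g a)) = f' a
  have := congr($hkg a)
  rw [AlgHom.comp_apply] at this
  rw [this]
  show eΛ (eΛ.symm (f' a)) = f' a
  rw [RingEquiv.apply_symm_apply]

/-- the square-zero case -/
theorem indSmooth_of_sq_zero {R Λ : Type u} [CommRing R] [CommRing Λ] [Algebra R Λ] (I : Ideal R)
    (hI : I ^ 2 = ⊥) [Module.Flat R Λ]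
    (h : Smoothing.IndSmooth (R ⧸ I) (Λ ⧸ I.map (algebraMap R Λ))) :
    Smoothing.IndSmooth R Λ := by
  intro A _ _ hfp φ
  obtain ⟨B, _, _, hB, J, hJI, hJfg, g, k, hkg⟩ := Groth.Agent.S2023.result I hI h φ
  obtain ⟨n, s, hs⟩ := Submodule.fg_iff_exists_fin_generating_family.mp hJfg
  have hsJ : ∀ i, s i ∈ J := fun i => by
    rw [← hs]
    exact Submodule.subset_span ⟨i, rfl⟩
  let φB : B →ₐ[R] Λ := k.comp (Ideal.Quotient.mkₐ R J)
  have hφB : ∀ x ∈ J, φB x = 0 := by
    intro x hx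
    show k (Ideal.Quotient.mk J x) = 0
    rw [Ideal.Quotient.eq_zero_iff_mem.mpr hx, map_zero]
  obtain ⟨B', _, _, hB', α, β, hα, hβ⟩ :=
    Groth.Agent.Lib.Helper9.LiftTwice.lift_twice_fin I hI h n B φB s
      (fun i => hJI (hsJ i)) (fun i => hφB _ (hsJ i))
  have hαJ : ∀ x ∈ J, α x = 0 := by
    have : J ≤ RingHom.ker α.toRingHom := by
      rw [← hs]
      apply Ideal.span_le.mpr
      rintro _ ⟨i, rfl⟩
      exact hα i
    exact fun x hx => this hx
  let αb : (B ⧸ J) →ₐ[R] B' := Ideal.Quotient.liftₐ J α hαJ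
  refine ⟨B', inferInstance, inferInstance, hB', αb.comp g, β, ?_⟩
  have h1 : β.comp αb = k := by
    apply AlgHom.cancel_right (f := Ideal.Quotient.mkₐ R J) (Ideal.Quotient.mkₐ_surjective R J) |>.mp
    ext b
    show β (α b) = k (Ideal.Quotient.mk J b)
    have := congr($hβ b)
    rw [AlgHom.comp_apply] at this
    rw [this]
    rfl
  rw [← AlgHom.comp_assoc, h1, hkg]

theorem indSmooth_of_pow_eq_bot (n : ℕ) : ∀ {R Λ : Type u} [CommRing R] [CommRing Λ] [Algebra R Λ]
    (I : Ideal R) (_ : I ^ n = ⊥) [Module.Flat R Λ]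
    (_ : Smoothing.IndSmooth (R ⧸ I) (Λ ⧸ I.map (algebraMap R Λ))),
    Smoothing.IndSmooth R Λ := by
  induction n using Nat.strong_induction_on with
  | _ n ih =>
    intro R Λ _ _ _ I hI _ h
    by_cases hn : n ≤ 2
    · have hI2 : I ^ 2 = ⊥ := le_bot_iff.mp (hI ▸ Ideal.pow_le_pow_right hn)
      exact indSmooth_of_sq_zero I hI2 h
    · push_neg at hn
      -- `K = I^(n-1)`
      set K : Ideal R := I ^ (n - 1) with hK
      have hK2 : K ^ 2 = ⊥ := by
        rw [hK, ← pow_mul]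
        exact le_bot_iff.mp (hI ▸ Ideal.pow_le_pow_right (by omega))
      have hKI : K ≤ I := by
        rw [hK]
        exact Ideal.pow_le_self (by omega)
      set KΛ : Ideal Λ := K.map (algebraMap R Λ) with hKΛ
      set IΛ : Ideal Λ := I.map (algebraMap R Λ) with hIΛ
      have hKΛIΛ : KΛ ≤ IΛ := Ideal.map_mono hKI
      -- flatness of `Λ/KΛ` over `R/K`
      haveI : Module.Flat (R ⧸ K) (Λ ⧸ KΛ) :=
        Module.Flat.of_linearEquiv
          (Algebra.TensorProduct.quotIdealMapEquivQuotTensor Λ K).toLinearEquiv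
      -- the ideal `Ī`
      set Ib : Ideal (R ⧸ K) := I.map (Ideal.Quotient.mk K) with hIb
      have hIbn : Ib ^ (n - 1) = ⊥ := by
        rw [hIb, ← Ideal.map_pow, ← hK]
        exact Ideal.map_quotient_self K
      -- `Ī (Λ/KΛ) = (IΛ) / KΛ`
      have hideal : Ib.map (algebraMap (R ⧸ K) (Λ ⧸ KΛ)) = IΛ.map (Ideal.Quotient.mk KΛ) := by
        rw [hIb, hIΛ, Ideal.map_map, Ideal.map_map]
        congr 1
      -- transfer
      let e : (R ⧸ I) ≃+* ((R ⧸ K) ⧸ Ib) := (DoubleQuot.quotQuotEquivQuotOfLE hKI).symm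
      let eΛ : (Λ ⧸ IΛ) ≃+* ((Λ ⧸ KΛ) ⧸ Ib.map (algebraMap (R ⧸ K) (Λ ⧸ KΛ))) :=
        (DoubleQuot.quotQuotEquivQuotOfLE hKΛIΛ).symm.trans (Ideal.quotEquivOfEq hideal.symm)
      have he : ∀ r, eΛ (algebraMap (R ⧸ I) (Λ ⧸ IΛ) r)
          = algebraMap ((R ⧸ K) ⧸ Ib) ((Λ ⧸ KΛ) ⧸ Ib.map (algebraMap (R ⧸ K) (Λ ⧸ KΛ))) (e r) := by
        intro r
        obtain ⟨r, rfl⟩ := Ideal.Quotient.mk_surjective r
        rfl
      have h' : Smoothing.IndSmooth ((R ⧸ K) ⧸ Ib)
          ((Λ ⧸ KΛ) ⧸ Ib.map (algebraMap (R ⧸ K) (Λ ⧸ KΛ))) :=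
        indSmooth_of_ringEquiv e eΛ he h
      have h'' : Smoothing.IndSmooth (R ⧸ K) (Λ ⧸ KΛ) :=
        ih (n - 1) (by omega) Ib hIbn h'
      exact indSmooth_of_sq_zero K hK2 h''

end Groth.Agent.Lib.Helper9.IndSmoothNilp
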