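import Mathlib.RingTheory.Flat.Basic
import Mathlib.RingTheory.Ideal.Maps
import Mathlib.RingTheory.Ideal.Quotient.Operations
import Mathlib.LinearAlgebra.TensorProduct.Basic
import Mathlib.RingTheory.TensorProduct.Basic
import Mathlib.LinearAlgebra.TensorProduct.Pi
import Mathlib.Algebra.Module.Torsion.Basic
import Mathlib.RingTheory.Finiteness.Ideal

/-!
# Torsion modules and base change along `R → S` with `R/J ≅ S/JS`

Main result `bijective_mk_of_torsion`: let `J n` be a decreasing family of ideals of `R` with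
`R/J n → S/(J n)S` bijective for all `n` (stated elementwise). If every element of the `R`-module
`M` is killed by some `J n`, then `m ↦ 1 ⊗ m : M → S ⊗[R] M` is bijective.
-/

namespace Groth.Agent.Lib.Helper9

open TensorProduct

section

variable {R S M : Type*} [CommRing R] [CommRing S] [Algebra R S] [AddCommGroup M] [Module R M]

/-- If `J` kills `m` then `x ⊗ m = 0` for all `x ∈ J S`. -/
theorem tmul_eq_zero_of_mem_map {J : Ideal R} {m : M} (hm : ∀ a ∈ J, a • m = 0) {x : S}
    (hx : x ∈ J.map (algebraMap R S)) : x ⊗ₜ[R] m = 0 := by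
  induction hx using Submodule.span_induction with
  | mem x h =>
    obtain ⟨a, ha, rfl⟩ := h
    rw [Algebra.algebraMap_eq_smul_one, TensorProduct.smul_tmul, hm a ha, tmul_zero]
  | zero => exact zero_tmul _ _
  | add x y _ _ hx hy => rw [add_tmul, hx, hy, add_zero]
  | smul c x _ hx =>
    have : (c • x) ⊗ₜ[R] m = c • (x ⊗ₜ[R] m) := (TensorProduct.smul_tmul' c x m).symm
    rw [this, hx, smul_zero]

variable (J : ℕ → Ideal R) (hmono : Antitone J)
  (hsurj : ∀ n (s : S), ∃ r : R, s - algebraMap R S r ∈ (J n).map (algebraMap R S))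
  (hinj : ∀ n (r : R), algebraMap R S r ∈ (J n).map (algebraMap R S) → r ∈ J n)
  (hM : ∀ m : M, ∃ n, ∀ a ∈ J n, a • m = 0)

include hsurj hM in
theorem surjective_mk_of_torsion : Function.Surjective (TensorProduct.mk R S M 1) := by
  intro z
  induction z using TensorProduct.induction_on with
  | zero => exact ⟨0, map_zero _⟩
  | add x y hx hy =>
    obtain ⟨a, rfl⟩ := hx
    obtain ⟨b, rfl⟩ := hy
    exact ⟨a + b, map_add _ _ _⟩
  | tmul s m =>
    obtain ⟨n, hn⟩ := hM m
    obtain ⟨r, hr⟩ := hsurj n s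
    refine ⟨r • m, ?_⟩
    have h0 := tmul_eq_zero_of_mem_map hn hr
    rw [sub_tmul, sub_eq_zero] at h0
    rw [h0, TensorProduct.mk_apply, Algebra.algebraMap_eq_smul_one, TensorProduct.smul_tmul]

/-- The action of `S` on a torsion module (auxiliary). -/
noncomputable def torsionAct (s : S) (m : M) : M :=
  (Classical.choose (hsurj (Classical.choose (hM m)) s)) • m

include hmono hinj in
theorem torsionAct_eq (s : S) (m : M) (n : ℕ) (r : R) (hn : ∀ a ∈ J n, a • m = 0)
    (hr : s - algebraMap R S r ∈ (J n).map (algebraMap R S)) :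
    torsionAct J hsurj hM s m = r • m := by
  unfold torsionAct
  set n₀ := Classical.choose (hM m) with hn₀def
  have hn₀ : ∀ a ∈ J n₀, a • m = 0 := Classical.choose_spec (hM m)
  set r₀ := Classical.choose (hsurj n₀ s) with hr₀def
  have hr₀ : s - algebraMap R S r₀ ∈ (J n₀).map (algebraMap R S) :=
    Classical.choose_spec (hsurj n₀ s)
  rw [← sub_eq_zero, ← sub_smul]
  rcases le_total n n₀ with h | h
  · -- `J n₀ ≤ J n`
    have h1 : algebraMap R S (r₀ - r) ∈ (J n).map (algebraMap R S) := by
      have : algebraMap R S (r₀ - r) = (s - algebraMap R S r) - (s - algebraMap R S r₀) := by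
        rw [map_sub]; ring
      rw [this]
      exact Ideal.sub_mem _ hr (Ideal.map_mono (hmono h) hr₀)
    exact hn _ (hinj n _ h1)
  · have h1 : algebraMap R S (r₀ - r) ∈ (J n₀).map (algebraMap R S) := by
      have : algebraMap R S (r₀ - r) = (s - algebraMap R S r) - (s - algebraMap R S r₀) := by
        rw [map_sub]; ring
      rw [this]
      exact Ideal.sub_mem _ (Ideal.map_mono (hmono h) hr) hr₀
    exact hn₀ _ (hinj n₀ _ h1)

include hmono hsurj hinj hM in
/-- The retraction `S ⊗[R] M → M` of `m ↦ 1 ⊗ m` for a torsion module. -/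
theorem exists_retraction_of_torsion :
    ∃ ρ : S ⊗[R] M →ₗ[R] M, ∀ m : M, ρ (1 ⊗ₜ[R] m) = m := by
  have key := torsionAct_eq J hmono hsurj hinj hM
  -- common level for two elements
  have hcommon : ∀ m m' : M, ∃ n, (∀ a ∈ J n, a • m = 0) ∧ (∀ a ∈ J n, a • m' = 0) := by
    intro m m'
    obtain ⟨n, hn⟩ := hM m
    obtain ⟨n', hn'⟩ := hM m'
    exact ⟨max n n', fun a ha => hn a (hmono (le_max_left n n') ha),
      fun a ha => hn' a (hmono (le_max_right n n') ha)⟩
  let μ : S →ₗ[R] M →ₗ[R] M := LinearMap.mk₂ R (torsionAct J hsurj hM)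
    (by
      intro s s' m
      obtain ⟨n, hn⟩ := hM m
      obtain ⟨r, hr⟩ := hsurj n s
      obtain ⟨r', hr'⟩ := hsurj n s'
      rw [key s m n r hn hr, key s' m n r' hn hr', key (s + s') m n (r + r') hn, add_smul]
      have : s + s' - algebraMap R S (r + r') = (s - algebraMap R S r) + (s' - algebraMap R S r') := by
        rw [map_add]; ring
      rw [this]
      exact Ideal.add_mem _ hr hr')
    (by
      intro c s m
      obtain ⟨n, hn⟩ := hM m
      obtain ⟨r, hr⟩ := hsurj n s
      rw [key s m n r hn hr, key (c • s) m n (c * r) hn, mul_smul]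
      have : c • s - algebraMap R S (c * r) = algebraMap R S c * (s - algebraMap R S r) := by
        rw [map_mul, Algebra.smul_def]; ring
      rw [this]
      exact Ideal.mul_mem_left _ _ hr)
    (by
      intro s m m'
      obtain ⟨n, hn, hn'⟩ := hcommon m m'
      obtain ⟨r, hr⟩ := hsurj n s
      have hadd : ∀ a ∈ J n, a • (m + m') = 0 := fun a ha => by
        rw [smul_add, hn a ha, hn' a ha, add_zero]
      rw [key s m n r hn hr, key s m' n r hn' hr, key s (m + m') n r hadd hr, smul_add])
    (by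
      intro c s m
      obtain ⟨n, hn⟩ := hM m
      obtain ⟨r, hr⟩ := hsurj n s
      have hc : ∀ a ∈ J n, a • (c • m) = 0 := fun a ha => by
        rw [smul_comm, hn a ha, smul_zero]
      rw [key s m n r hn hr, key s (c • m) n r hc hr, smul_comm])
  refine ⟨TensorProduct.lift μ, fun m => ?_⟩
  obtain ⟨n, hn⟩ := hM m
  rw [TensorProduct.lift.tmul]
  change torsionAct J hsurj hM 1 m = m
  rw [key 1 m n 1 hn (by simp), one_smul]

include hmono hsurj hinj hM in
/-- **Torsion modules are unchanged by base change.** -/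
theorem bijective_mk_of_torsion : Function.Bijective (TensorProduct.mk R S M 1) := by
  refine ⟨?_, surjective_mk_of_torsion J hsurj hM⟩
  obtain ⟨ρ, hρ⟩ := exists_retraction_of_torsion J hmono hsurj hinj hM
  intro m m' h
  have := congrArg ρ h
  simpa [hρ] using this

end

section Powers

variable {R S : Type*} [CommRing R] [CommRing S] [Algebra R S] (I : Ideal R)

/-- If `S = R + I S` then every element of `I^n S` is congruent to an element of `I^n` modulo
`I^(n+1) S`. -/
theorem exists_sub_mem_map_pow_succ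
    (hsurj : ∀ s : S, ∃ r : R, s - algebraMap R S r ∈ I.map (algebraMap R S)) (n : ℕ) {x : S}
    (hx : x ∈ (I ^ n).map (algebraMap R S)) :
    ∃ r ∈ I ^ n, x - algebraMap R S r ∈ (I ^ (n + 1)).map (algebraMap R S) := by
  induction hx using Submodule.span_induction with
  | mem x h =>
    obtain ⟨a, ha, rfl⟩ := h
    exact ⟨a, ha, by simp⟩
  | zero => exact ⟨0, Ideal.zero_mem _, by simp⟩
  | add x y _ _ hx hy =>
    obtain ⟨r, hr, hxr⟩ := hx
    obtain ⟨r', hr', hyr⟩ := hy
    refine ⟨r + r', Ideal.add_mem _ hr hr', ?_⟩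
    have : x + y - algebraMap R S (r + r') = (x - algebraMap R S r) + (y - algebraMap R S r') := by
      rw [map_add]; ring
    rw [this]
    exact Ideal.add_mem _ hxr hyr
  | smul c x _ hx =>
    obtain ⟨r, hr, hxr⟩ := hx
    obtain ⟨rc, hrc⟩ := hsurj c
    refine ⟨rc * r, Ideal.mul_mem_left _ _ hr, ?_⟩
    have : c • x - algebraMap R S (rc * r) =
        c * (x - algebraMap R S r) + (c - algebraMap R S rc) * algebraMap R S r := by
      rw [map_mul, smul_eq_mul]; ring
    rw [this]
    refine Ideal.add_mem _ (Ideal.mul_mem_left _ _ hxr) ?_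
    have h1 : (c - algebraMap R S rc) * algebraMap R S r ∈
        I.map (algebraMap R S) * (I ^ n).map (algebraMap R S) :=
      Ideal.mul_mem_mul hrc (Ideal.mem_map_of_mem _ hr)
    rwa [← Ideal.map_mul, ← pow_succ'] at h1

/-- If `S = R + I S` then `S = R + I^n S` for all `n`. -/
theorem exists_sub_mem_map_pow
    (hsurj : ∀ s : S, ∃ r : R, s - algebraMap R S r ∈ I.map (algebraMap R S)) (n : ℕ) (s : S) :
    ∃ r : R, s - algebraMap R S r ∈ (I ^ n).map (algebraMap R S) := by
  induction n with
  | zero => exact ⟨0, by rw [pow_zero, Ideal.one_eq_top, Ideal.map_top]; trivial⟩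
  | succ n ih =>
    obtain ⟨r, hr⟩ := ih
    obtain ⟨r', -, hr'⟩ := exists_sub_mem_map_pow_succ I hsurj n hr
    refine ⟨r + r', ?_⟩
    have : s - algebraMap R S (r + r') = s - algebraMap R S r - algebraMap R S r' := by
      rw [map_add]; ring
    rwa [this]

/-- For `R → S` flat with `R/I → S/IS` bijective, `R ∩ I^n S = I^n` for all `n`. -/
theorem mem_pow_of_algebraMap_mem_map_pow [Module.Flat R S]
    (hsurj : ∀ s : S, ∃ r : R, s - algebraMap R S r ∈ I.map (algebraMap R S))
    (hinj : ∀ r : R, algebraMap R S r ∈ I.map (algebraMap R S) → r ∈ I) (n : ℕ) (r : R)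
    (hr : algebraMap R S r ∈ (I ^ n).map (algebraMap R S)) : r ∈ I ^ n := by
  induction n with
  | zero => simp
  | succ n ih =>
    have hrn : r ∈ I ^ n := ih (Ideal.map_mono (Ideal.pow_le_pow_right (Nat.le_succ n)) hr)
    -- the submodule `I^n / I^(n+1)` of `R / I^(n+1)`
    let P' : Submodule R (R ⧸ I ^ (n + 1)) := Submodule.map (Submodule.mkQ (I ^ (n + 1))) (I ^ n)
    have hkill : ∀ p : P', ∀ a ∈ I, a • p = 0 := by
      rintro ⟨p, b, hb, rfl⟩ a ha
      apply Subtype.ext
      change a • Submodule.mkQ (I ^ (n + 1)) b = 0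
      rw [← map_smul, Submodule.mkQ_apply, Submodule.Quotient.mk_eq_zero, smul_eq_mul, pow_succ']
      exact Ideal.mul_mem_mul ha hb
    let rbar : P' := ⟨Submodule.mkQ (I ^ (n + 1)) r, r, hrn, rfl⟩
    -- `1 ⊗ r̄ = 0` in `S ⊗ R/I^(n+1)`
    have h1 : (1 : S) ⊗ₜ[R] (rbar : R ⧸ I ^ (n + 1)) = 0 := by
      have h2 : (1 : S) ⊗ₜ[R] (rbar : R ⧸ I ^ (n + 1)) =
          algebraMap R S r ⊗ₜ[R] (Submodule.mkQ (I ^ (n + 1)) (1 : R)) := by
        rw [Algebra.algebraMap_eq_smul_one, TensorProduct.smul_tmul, ← map_smul, smul_eq_mul,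
          mul_one]
      rw [h2]
      apply tmul_eq_zero_of_mem_map (J := I ^ (n + 1)) _ hr
      intro a ha
      rw [← map_smul, Submodule.mkQ_apply, Submodule.Quotient.mk_eq_zero, smul_eq_mul, mul_one]
      exact ha
    -- by flatness `1 ⊗ r̄ = 0` in `S ⊗ P'`
    have h3 : (1 : S) ⊗ₜ[R] rbar = 0 := by
      have hflat : Function.Injective (P'.subtype.lTensor S) :=
        Module.Flat.lTensor_preserves_injective_linearMap _ Subtype.val_injective
      apply hflat
      rw [LinearMap.lTensor_tmul, map_zero]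
      exact h1
    -- `P'` is killed by `I`, so `P' → S ⊗ P'` is injective
    have hbij := bijective_mk_of_torsion (M := P') (fun _ => I) (fun _ _ _ => le_rfl)
      (fun _ => hsurj) (fun _ => hinj) (fun m => ⟨0, hkill m⟩)
    have h4 : rbar = 0 := hbij.1 (by rw [TensorProduct.mk_apply, h3, map_zero])
    have h5 : Submodule.mkQ (I ^ (n + 1)) r = 0 := congrArg Subtype.val h4
    rwa [Submodule.mkQ_apply, Submodule.Quotient.mk_eq_zero] at h5

/-- **I-power torsion modules are unchanged by flat base change with `R/I ≅ S/IS`.** -/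
theorem bijective_mk_of_powerTorsion_of_flat [Module.Flat R S]
    (hsurj : ∀ s : S, ∃ r : R, s - algebraMap R S r ∈ I.map (algebraMap R S))
    (hinj : ∀ r : R, algebraMap R S r ∈ I.map (algebraMap R S) → r ∈ I)
    {M : Type*} [AddCommGroup M] [Module R M] (hM : ∀ m : M, ∃ n : ℕ, ∀ a ∈ I ^ n, a • m = 0) :
    Function.Bijective (TensorProduct.mk R S M 1) :=
  bijective_mk_of_torsion (fun n => I ^ n) (fun _ _ h => Ideal.pow_le_pow_right h)
    (exists_sub_mem_map_pow I hsurj) (mem_pow_of_algebraMap_mem_map_pow I hsurj hinj) hM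

/-- Translation: bijectivity of the quotient map in elementwise form. -/
theorem quotientMap_bijective_iff :
    Function.Bijective (Ideal.quotientMap (I.map (algebraMap R S)) (algebraMap R S)
      Ideal.le_comap_map) ↔
    (∀ s : S, ∃ r : R, s - algebraMap R S r ∈ I.map (algebraMap R S)) ∧
    (∀ r : R, algebraMap R S r ∈ I.map (algebraMap R S) → r ∈ I) := by
  constructor
  · rintro ⟨hi, hs⟩
    constructor
    · intro s
      obtain ⟨x, hx⟩ := hs (Ideal.Quotient.mk _ s)
      obtain ⟨r, rfl⟩ := Ideal.Quotient.mk_surjective x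
      refine ⟨r, ?_⟩
      rw [Ideal.quotientMap_mk] at hx
      exact Ideal.Quotient.eq.mp hx.symm
    · intro r hr
      have : Ideal.quotientMap (I.map (algebraMap R S)) (algebraMap R S) Ideal.le_comap_map
          (Ideal.Quotient.mk I r) = 0 := by
        rw [Ideal.quotientMap_mk]; exact Ideal.Quotient.eq_zero_iff_mem.mpr hr
      have h0 := hi (this.trans (map_zero _).symm)
      exact Ideal.Quotient.eq_zero_iff_mem.mp h0
  · rintro ⟨hs, hi⟩
    constructor
    · rw [injective_iff_map_eq_zero]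
      intro x hx
      obtain ⟨r, rfl⟩ := Ideal.Quotient.mk_surjective x
      rw [Ideal.quotientMap_mk, Ideal.Quotient.eq_zero_iff_mem] at hx
      exact Ideal.Quotient.eq_zero_iff_mem.mpr (hi r hx)
    · intro y
      obtain ⟨s, rfl⟩ := Ideal.Quotient.mk_surjective y
      obtain ⟨r, hr⟩ := hs s
      refine ⟨Ideal.Quotient.mk I r, ?_⟩
      rw [Ideal.quotientMap_mk]
      exact (Ideal.Quotient.eq.mpr hr).symm

end Powers

section FlatTorsion

variable {R S : Type*} [CommRing R] [CommRing S] [Algebra R S]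

/-- Flat base change of the `J`-torsion for a finitely generated ideal `J`: an element of
`S ⊗ N` killed by `J` comes from `S ⊗ N[J]`. -/
theorem mem_range_lTensor_torsionBySet_of_flat [Module.Flat R S] {J : Ideal R} (hJ : J.FG)
    {N : Type*} [AddCommGroup N] [Module R N] (z : S ⊗[R] N) (hz : ∀ a ∈ J, a • z = 0) :
    z ∈ LinearMap.range ((Submodule.torsionBySet R N (J : Set R)).subtype.lTensor S) := by
  classical
  obtain ⟨s, hs⟩ := hJ
  let φ : N →ₗ[R] (s → N) := LinearMap.pi (fun a => (a : R) • LinearMap.id)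
  have hker : LinearMap.ker φ = Submodule.torsionBySet R N (J : Set R) := by
    ext y
    rw [LinearMap.mem_ker, ← hs, ← Submodule.torsionBySet_eq_torsionBySet_span,
      Submodule.mem_torsionBySet_iff]
    constructor
    · intro h a
      have := congrFun h ⟨a.1, a.2⟩
      simpa [φ] using this
    · intro h
      ext a
      simpa [φ] using h ⟨a.1, a.2⟩
  have hexact : Function.Exact ((LinearMap.ker φ).subtype.lTensor S) (φ.lTensor S) :=
    Module.Flat.lTensor_exact S (LinearMap.exact_subtype_ker_map φ)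
  have hφz : φ.lTensor S z = 0 := by
    apply (TensorProduct.piRight R R S (fun _ : s => N)).injective
    rw [map_zero]
    ext a
    have hcomp : ∀ w : S ⊗[R] N,
        (TensorProduct.piRight R R S (fun _ : s => N)) (φ.lTensor S w) a = (a : R) • w := by
      intro w
      induction w using TensorProduct.induction_on with
      | zero => simp
      | tmul x y => simp [φ, TensorProduct.tmul_smul]
      | add x y hx hy => rw [map_add, map_add, Pi.add_apply, hx, hy, smul_add]
    rw [hcomp, Pi.zero_apply]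
    exact hz _ (hs ▸ Submodule.subset_span a.2)
  have := (hexact z).mp hφz
  rw [hker] at this
  exact this

variable (I : Ideal R)

/-- The `I`-power torsion submodule. -/
def powerTorsion (N : Type*) [AddCommGroup N] [Module R N] : Submodule R N where
  carrier := {y | ∃ n : ℕ, ∀ a ∈ I ^ n, a • y = 0}
  zero_mem' := ⟨0, fun a _ => smul_zero a⟩
  add_mem' := by
    rintro x y ⟨n, hn⟩ ⟨n', hn'⟩
    refine ⟨max n n', fun a ha => ?_⟩
    rw [smul_add, hn a (Ideal.pow_le_pow_right (le_max_left _ _) ha),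
      hn' a (Ideal.pow_le_pow_right (le_max_right _ _) ha), add_zero]
  smul_mem' := by
    rintro c x ⟨n, hn⟩
    exact ⟨n, fun a ha => by rw [smul_comm, hn a ha, smul_zero]⟩

theorem mem_powerTorsion {N : Type*} [AddCommGroup N] [Module R N] {y : N} :
    y ∈ powerTorsion I N ↔ ∃ n : ℕ, ∀ a ∈ I ^ n, a • y = 0 := Iff.rfl

variable [Module.Flat R S]
  (hsurj : ∀ s : S, ∃ r : R, s - algebraMap R S r ∈ I.map (algebraMap R S))
  (hinj : ∀ r : R, algebraMap R S r ∈ I.map (algebraMap R S) → r ∈ I)

include hsurj hinj in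
/-- On `I`-power torsion elements, `y ↦ 1 ⊗ y` is injective (flat case). -/
theorem eq_of_one_tmul_eq_of_powerTorsion {N : Type*} [AddCommGroup N] [Module R N] {y y' : N}
    (hy : y ∈ powerTorsion I N) (hy' : y' ∈ powerTorsion I N)
    (h : (1 : S) ⊗ₜ[R] y = (1 : S) ⊗ₜ[R] y') : y = y' := by
  let T := powerTorsion I N
  have hT : ∀ t : T, ∃ n : ℕ, ∀ a ∈ I ^ n, a • t = 0 := by
    rintro ⟨t, n, hn⟩
    exact ⟨n, fun a ha => Subtype.ext (hn a ha)⟩
  have hbij := bijective_mk_of_powerTorsion_of_flat (S := S) I hsurj hinj hT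
  have hflat : Function.Injective (T.subtype.lTensor S) :=
    Module.Flat.lTensor_preserves_injective_linearMap _ Subtype.val_injective
  have h1 : (1 : S) ⊗ₜ[R] (⟨y, hy⟩ : T) = (1 : S) ⊗ₜ[R] (⟨y', hy'⟩ : T) := by
    apply hflat
    rw [LinearMap.lTensor_tmul, LinearMap.lTensor_tmul]
    exact h
  have h2 := hbij.1 (by simpa using h1 :
    TensorProduct.mk R S T 1 ⟨y, hy⟩ = TensorProduct.mk R S T 1 ⟨y', hy'⟩)
  exact congrArg Subtype.val h2

include hsurj hinj in
/-- An element of `S ⊗ N` killed by `I^n` (with `I` finitely generated) is `1 ⊗ y` for some `y`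
killed by `I^n` (flat case). -/
theorem exists_one_tmul_eq_of_smul_eq_zero (hI : I.FG) {N : Type*} [AddCommGroup N] [Module R N]
    (z : S ⊗[R] N) (n : ℕ) (hz : ∀ a ∈ I ^ n, a • z = 0) :
    ∃ y : N, (∀ a ∈ I ^ n, a • y = 0) ∧ (1 : S) ⊗ₜ[R] y = z := by
  obtain ⟨w, hw⟩ := mem_range_lTensor_torsionBySet_of_flat (Ideal.FG.pow (n := n) hI) z hz
  let K := Submodule.torsionBySet R N ((I ^ n : Ideal R) : Set R)
  have hK : ∀ t : K, ∃ k : ℕ, ∀ a ∈ I ^ k, a • t = 0 := by
    rintro ⟨t, ht⟩
    refine ⟨n, fun a ha => Subtype.ext ?_⟩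
    exact (Submodule.mem_torsionBySet_iff _ _).mp ht ⟨a, ha⟩
  have hbij := bijective_mk_of_powerTorsion_of_flat (S := S) I hsurj hinj hK
  obtain ⟨t, ht⟩ := hbij.2 w
  refine ⟨t.1, fun a ha => (Submodule.mem_torsionBySet_iff _ _).mp t.2 ⟨a, ha⟩, ?_⟩
  rw [← hw, ← ht, TensorProduct.mk_apply, LinearMap.lTensor_tmul]
  rfl

end FlatTorsion

end Groth.Agent.Lib.Helper9
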