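import Mathlib.RingTheory.Etale.Basic
import Mathlib.RingTheory.TensorProduct.Quotient
import Mathlib.RingTheory.Ideal.IdempotentFG
import Mathlib.RingTheory.Ideal.Over
import Mathlib.RingTheory.FinitePresentation
import Mathlib.RingTheory.Localization.Away.Basic

/-!
# Lifting a map `U → A/I` from an étale `A`-algebra `U` to an étale neighbourhood of `V(I)`

Main result `exists_etale_lift`: if `U` is étale over `A`, `I` an ideal of `A` and
`φ : U →ₐ[A] A ⧸ I`, then a localization `A' = U_d` of `U` is étale over `A`, has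
`A/I → A'/IA'` bijective, and the canonical `U → A'` lifts `φ`.
-/

namespace Groth.Agent.Lib.Helper9

universe u

/-- The kernel of a retraction of an étale algebra is generated by an idempotent. -/
theorem exists_idempotent_ker_eq_span_of_etale {R B : Type*} [CommRing R] [CommRing B]
    [Algebra R B] [Algebra.Etale R B] (σ : B →ₐ[R] R) :
    ∃ e : B, IsIdempotentElem e ∧ RingHom.ker σ.toRingHom = Ideal.span {e} := by
  letI : Algebra B R := σ.toRingHom.toAlgebra
  have htower : IsScalarTower R B R := .of_algebraMap_eq (fun r => (σ.commutes r).symm)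
  have hsurj : Function.Surjective (algebraMap B R) := fun r => ⟨algebraMap R B r, σ.commutes r⟩
  have hE : Algebra.FormallyEtale B R := Algebra.FormallyEtale.of_restrictScalars (R := R)
  have hidem : IsIdempotentElem (RingHom.ker (algebraMap B R)) :=
    (Algebra.FormallyEtale.iff_of_surjective hsurj).mp hE
  have hfg : (RingHom.ker σ.toRingHom).FG :=
    Algebra.FinitePresentation.ker_fG_of_surjective σ hsurj
  have hker : RingHom.ker (algebraMap B R) = RingHom.ker σ.toRingHom := rfl
  rw [hker] at hidem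
  obtain ⟨e, he, hspan⟩ := (Ideal.isIdempotentElem_iff_of_fg _ hfg).mp hidem
  exact ⟨e, he, hspan⟩

/-- Key lemma: for `φ : U →ₐ[A] A ⧸ I` with `U` étale over `A`, there is `d : U` with `φ d = 1`
such that `ker φ · d ⊆ I U`. -/
theorem exists_mul_mem_map_of_etale {A U : Type*} [CommRing A] [CommRing U] [Algebra A U]
    [Algebra.Etale A U] (I : Ideal A) (φ : U →ₐ[A] A ⧸ I) :
    ∃ d : U, φ d = 1 ∧ ∀ x : U, φ x = 0 → x * d ∈ I.map (algebraMap A U) := by
  have hE : Algebra.Etale (A ⧸ I) (U ⧸ I.map (algebraMap A U)) :=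
    Algebra.Etale.of_equiv (Algebra.TensorProduct.quotIdealMapEquivQuotTensor U I).symm
  have hle : I.map (algebraMap A U) ≤ RingHom.ker φ.toRingHom := by
    rw [Ideal.map_le_iff_le_comap]
    intro a ha
    rw [Ideal.mem_comap, RingHom.mem_ker]
    change φ (algebraMap A U a) = 0
    rw [φ.commutes]
    exact Ideal.Quotient.eq_zero_iff_mem.mpr ha
  let σ₀ : U ⧸ I.map (algebraMap A U) →+* A ⧸ I :=
    Ideal.Quotient.lift _ φ.toRingHom (fun x hx => RingHom.mem_ker.mp (hle hx))
  let σ : U ⧸ I.map (algebraMap A U) →ₐ[A ⧸ I] A ⧸ I :=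
    { σ₀ with
      commutes' := by
        intro r
        obtain ⟨a, rfl⟩ := Ideal.Quotient.mk_surjective r
        change σ₀ (Ideal.Quotient.mk _ (algebraMap A U a)) = _
        simp only [σ₀, Ideal.Quotient.lift_mk]
        exact φ.commutes a }
  have hσ : ∀ x : U, σ (Ideal.Quotient.mk _ x) = φ x := fun x => rfl
  obtain ⟨ebar, hebar, hker⟩ := exists_idempotent_ker_eq_span_of_etale σ
  obtain ⟨e, rfl⟩ := Ideal.Quotient.mk_surjective ebar
  have heker : φ e = 0 := by
    rw [← hσ]
    have : Ideal.Quotient.mk (I.map (algebraMap A U)) e ∈ RingHom.ker σ.toRingHom := by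
      rw [hker]; exact Ideal.mem_span_singleton_self _
    exact RingHom.mem_ker.mp this
  refine ⟨1 - e, by rw [map_sub, map_one, heker, sub_zero], ?_⟩
  intro x hx
  have hxker : Ideal.Quotient.mk (I.map (algebraMap A U)) x ∈ RingHom.ker σ.toRingHom := by
    rw [RingHom.mem_ker]; exact (hσ x).trans hx
  rw [hker, Ideal.mem_span_singleton'] at hxker
  obtain ⟨c, hc⟩ := hxker
  rw [← Ideal.Quotient.eq_zero_iff_mem, map_mul, map_sub, map_one, ← hc, mul_assoc, mul_sub,
    mul_one, hebar.eq, sub_self, mul_zero]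

/-- **Étale lifting.** Let `U` be an étale `A`-algebra, `I` an ideal of `A` and
`φ : U →ₐ[A] A ⧸ I`. Then there is an étale `A`-algebra `A'` (a principal localization of `U`)
such that `A/I → A'/IA'` is bijective, with an `A`-algebra map `ι : U → A'` lifting `φ`. -/
theorem exists_etale_lift {A U : Type u} [CommRing A] [CommRing U] [Algebra A U]
    [Algebra.Etale A U] (I : Ideal A) (φ : U →ₐ[A] A ⧸ I) :
    ∃ (A' : Type u) (_ : CommRing A') (_ : Algebra A A') (_ : Algebra.Etale A A')
      (ι : U →ₐ[A] A'),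
      Function.Bijective (algebraMap (A ⧸ I) (A' ⧸ I.map (algebraMap A A'))) ∧
      ∀ x : U, Ideal.Quotient.mk (I.map (algebraMap A A')) (ι x) =
        algebraMap (A ⧸ I) (A' ⧸ I.map (algebraMap A A')) (φ x) := by
  obtain ⟨d, hd1, hd2⟩ := exists_mul_mem_map_of_etale I φ
  let A' := Localization.Away d
  have hunit : IsUnit (φ.toRingHom d) := by
    change IsUnit (φ d); rw [hd1]; exact isUnit_one
  let ψ : A' →+* A ⧸ I := IsLocalization.Away.lift d hunit
  have hψ : ∀ x : U, ψ (algebraMap U A' x) = φ x := fun x => IsLocalization.Away.lift_eq d hunit x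
  have hψA : ∀ a : A, ψ (algebraMap A A' a) = Ideal.Quotient.mk I a := by
    intro a
    rw [IsScalarTower.algebraMap_apply A U A', hψ, φ.commutes]
    rfl
  have hle : I.map (algebraMap A A') ≤ RingHom.ker ψ := by
    rw [Ideal.map_le_iff_le_comap]
    intro a ha
    rw [Ideal.mem_comap, RingHom.mem_ker, hψA]
    exact Ideal.Quotient.eq_zero_iff_mem.mpr ha
  let ψbar : A' ⧸ I.map (algebraMap A A') →+* A ⧸ I :=
    Ideal.Quotient.lift _ ψ (fun x hx => RingHom.mem_ker.mp (hle hx))
  have hψbar : ∀ y : A', ψbar (Ideal.Quotient.mk _ y) = ψ y := fun y => rfl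
  have hcomp : ∀ r : A ⧸ I, ψbar (algebraMap (A ⧸ I) (A' ⧸ I.map (algebraMap A A')) r) = r := by
    intro r
    obtain ⟨a, rfl⟩ := Ideal.Quotient.mk_surjective r
    change ψbar (Ideal.Quotient.mk _ (algebraMap A A' a)) = _
    rw [hψbar, hψA]
  have hψbar_inj : Function.Injective ψbar := by
    rw [injective_iff_map_eq_zero]
    intro z hz
    obtain ⟨y, rfl⟩ := Ideal.Quotient.mk_surjective z
    rw [hψbar] at hz
    obtain ⟨n, x, hx⟩ := IsLocalization.Away.surj d y
    have hφx : φ x = 0 := by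
      rw [← hψ, ← hx, map_mul, hz, zero_mul]
    have hmem : algebraMap U A' (x * d) ∈ I.map (algebraMap A A') := by
      have h1 := Ideal.mem_map_of_mem (algebraMap U A') (hd2 x hφx)
      rwa [Ideal.map_map, ← IsScalarTower.algebraMap_eq] at h1
    have hdunit : IsUnit (algebraMap U A' d) := IsLocalization.Away.algebraMap_isUnit d
    obtain ⟨v, hv⟩ := hdunit
    have hy : y = algebraMap U A' (x * d) * ↑((v ^ (n + 1))⁻¹) := by
      rw [map_mul, ← hx, mul_assoc y, ← pow_succ, ← hv, ← Units.val_pow_eq_pow_val,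
        mul_assoc, Units.mul_inv, mul_one]
    rw [Ideal.Quotient.eq_zero_iff_mem, hy]
    exact Ideal.mul_mem_right _ _ hmem
  have hbij : Function.Bijective (algebraMap (A ⧸ I) (A' ⧸ I.map (algebraMap A A'))) := by
    refine ⟨fun a b hab => ?_, fun z => ⟨ψbar z, hψbar_inj ?_⟩⟩
    · rw [← hcomp a, ← hcomp b, hab]
    · rw [hcomp]
  refine ⟨A', inferInstance, inferInstance, inferInstance, IsScalarTower.toAlgHom A U A', hbij, ?_⟩
  intro x
  apply hψbar_inj
  rw [hcomp, hψbar]
  exact hψ x

/-- Variant of `exists_etale_lift` where a given element `s : U` with `φ s` a unit becomes a unit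
in `A'`. -/
theorem exists_etale_lift_isUnit {A U : Type u} [CommRing A] [CommRing U] [Algebra A U]
    [Algebra.Etale A U] (I : Ideal A) (φ : U →ₐ[A] A ⧸ I) (s : U) (hs : IsUnit (φ s)) :
    ∃ (A' : Type u) (_ : CommRing A') (_ : Algebra A A') (_ : Algebra.Etale A A')
      (ι : U →ₐ[A] A'),
      Function.Bijective (algebraMap (A ⧸ I) (A' ⧸ I.map (algebraMap A A'))) ∧
      (∀ x : U, Ideal.Quotient.mk (I.map (algebraMap A A')) (ι x) =
        algebraMap (A ⧸ I) (A' ⧸ I.map (algebraMap A A')) (φ x)) ∧ IsUnit (ι s) := by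
  let φ₂ : Localization.Away s →ₐ[A] A ⧸ I := IsLocalization.Away.liftAlgHom (f := φ) s hs
  have hφ₂ : ∀ x : U, φ₂ (algebraMap U (Localization.Away s) x) = φ x := fun x =>
    IsLocalization.Away.lift_eq s hs x
  obtain ⟨A', _, _, hEt, ι₂, hbij, hlift⟩ := exists_etale_lift I φ₂
  refine ⟨A', inferInstance, inferInstance, hEt,
    ι₂.comp (IsScalarTower.toAlgHom A U (Localization.Away s)), hbij, ?_, ?_⟩
  · intro x
    rw [← hφ₂ x, ← hlift]
    rfl
  · exact (IsLocalization.Away.algebraMap_isUnit s).map ι₂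

end Groth.Agent.Lib.Helper9
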