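import Mathlib.RingTheory.Henselian
import Mathlib.Dynamics.Newton
import Mathlib.RingTheory.Jacobson.Ideal
import Mathlib.RingTheory.Nilpotent.Lemmas

/-!
# Helper lemmas on henselian pairs (`HenselianRing`)

* `isUnit_add_of_mem_jacobson_bot`: unit + element of the Jacobson radical is a unit.
* `sub_mem_of_isRoot_of_eval_mem`: if `a` is a root of `f`, `a₀ - a` lies in the Jacobson radical and
  `f'(a₀)` is a unit, then `f(a₀) ∈ I → a₀ - a ∈ I`.
* `henselianRing_of_le`: if `(R, J)` is henselian and `I ≤ J` then `(R, I)` is henselian.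
* `henselianRing_of_le_radical`: if `(R, I)` is henselian, `I ≤ J ≤ √I` then `(R, J)` is henselian.
* `henselianRing_iff_of_radical_eq`: being henselian only depends on the radical.
* `exists_root_of_isNilpotent_eval`: Newton's method for a nilpotent value.
-/

namespace Groth.Agent.Lib.Helper9

open Polynomial

variable {R : Type*} [CommRing R]

theorem isUnit_add_of_mem_jacobson_bot {u j : R} (hu : IsUnit u)
    (hj : j ∈ Ideal.jacobson (⊥ : Ideal R)) : IsUnit (u + j) := by
  obtain ⟨u, rfl⟩ := hu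
  have h := Ideal.mem_jacobson_bot.mp hj (↑u⁻¹ : R)
  have : (u : R) + j = u * (j * ↑u⁻¹ + 1) := by
    rw [mul_add, mul_one, mul_comm j, ← mul_assoc, Units.mul_inv, one_mul, add_comm]
  rw [this]
  exact u.isUnit.mul h

/-- If `a` is a root of `f`, `a₀ - a` lies in the Jacobson radical and `f'(a₀)` is a unit,
then `f(a₀)` is a unit multiple of `a₀ - a`. -/
theorem exists_unit_eval_eq_mul_sub (f : R[X]) {a a₀ : R} (ha : f.eval a = 0)
    (hj : a₀ - a ∈ Ideal.jacobson (⊥ : Ideal R)) (hu : IsUnit (f.derivative.eval a₀)) :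
    ∃ u : Rˣ, f.eval a₀ = u * (a₀ - a) := by
  obtain ⟨k, hk⟩ := Polynomial.binomExpansion f a₀ (a - a₀)
  rw [add_sub_cancel, ha] at hk
  have hunit : IsUnit (f.derivative.eval a₀ + k * (a - a₀)) := by
    apply isUnit_add_of_mem_jacobson_bot hu
    have : k * (a - a₀) = (-k) * (a₀ - a) := by ring
    rw [this]
    exact Ideal.mul_mem_left _ _ hj
  refine ⟨hunit.unit, ?_⟩
  rw [IsUnit.unit_spec]
  linear_combination (-1 : R) * hk

theorem sub_mem_of_isRoot_of_eval_mem (f : R[X]) {a a₀ : R} (ha : f.eval a = 0)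
    (hj : a₀ - a ∈ Ideal.jacobson (⊥ : Ideal R)) (hu : IsUnit (f.derivative.eval a₀))
    (I : Ideal R) (hI : f.eval a₀ ∈ I) : a₀ - a ∈ I := by
  obtain ⟨u, hu'⟩ := exists_unit_eval_eq_mul_sub f ha hj hu
  have : a₀ - a = ↑u⁻¹ * f.eval a₀ := by rw [hu', ← mul_assoc, Units.inv_mul, one_mul]
  rw [this]
  exact Ideal.mul_mem_left _ _ hI

theorem isUnit_of_isUnit_mk_of_le_jacobson_bot {I : Ideal R} (hI : I ≤ Ideal.jacobson ⊥) {x : R}
    (hx : IsUnit (Ideal.Quotient.mk I x)) : IsUnit x :=
  (isLocalHom_of_le_jacobson_bot I hI).map_nonunit x hx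

/-- If `(R, J)` is henselian and `I ≤ J` then `(R, I)` is henselian. -/
theorem henselianRing_of_le {I J : Ideal R} (hJ : HenselianRing R J) (hIJ : I ≤ J) :
    HenselianRing R I where
  jac := hIJ.trans hJ.jac
  is_henselian f hf a₀ h₁ h₂ := by
    have h₂' : IsUnit (Ideal.Quotient.mk J (f.derivative.eval a₀)) := by
      have := h₂.map (Ideal.Quotient.factor hIJ)
      simpa using this
    obtain ⟨a, ha, haJ⟩ := hJ.is_henselian f hf a₀ (hIJ h₁) h₂'
    refine ⟨a, ha, ?_⟩
    have hu : IsUnit (f.derivative.eval a₀) :=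
      isUnit_of_isUnit_mk_of_le_jacobson_bot (hIJ.trans hJ.jac) h₂
    have hj : a₀ - a ∈ Ideal.jacobson (⊥ : Ideal R) := by
      rw [← neg_sub]; exact Ideal.neg_mem_iff _ |>.mpr (hJ.jac haJ)
    have := sub_mem_of_isRoot_of_eval_mem f ha hj hu I h₁
    rw [← neg_sub]; exact (Ideal.neg_mem_iff _).mpr this

theorem radical_le_jacobson_bot_of_le {I : Ideal R} (hI : I ≤ Ideal.jacobson ⊥) :
    I.radical ≤ Ideal.jacobson ⊥ := by
  calc I.radical ≤ I.jacobson := Ideal.radical_le_jacobson
    _ ≤ (Ideal.jacobson ⊥).jacobson := Ideal.jacobson_mono hI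
    _ = Ideal.jacobson ⊥ := Ideal.jacobson_idem

/-- Newton's method: if `f(x)` is nilpotent and `f'(x)` is a unit there is a root `r` with `x - r`
nilpotent. -/
theorem exists_root_of_isNilpotent_eval (f : R[X]) {x : R} (h : IsNilpotent (f.eval x))
    (h' : IsUnit (f.derivative.eval x)) : ∃ r : R, IsNilpotent (x - r) ∧ f.eval r = 0 := by
  have h1 : IsNilpotent (aeval x f) := by simpa [Polynomial.coe_aeval_eq_eval] using h
  have h2 : IsUnit (aeval x (derivative f)) := by simpa [Polynomial.coe_aeval_eq_eval] using h'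
  obtain ⟨r, ⟨hr1, hr2⟩, -⟩ := Polynomial.existsUnique_nilpotent_sub_and_aeval_eq_zero h1 h2
  exact ⟨r, hr1, by simpa [Polynomial.coe_aeval_eq_eval] using hr2⟩

/-- If `(R, I)` is henselian and `I ≤ J ≤ √I` then `(R, J)` is henselian. -/
theorem henselianRing_of_le_radical {I J : Ideal R} (hI : HenselianRing R I) (_hIJ : I ≤ J)
    (hJI : J ≤ I.radical) : HenselianRing R J where
  jac := hJI.trans (radical_le_jacobson_bot_of_le hI.jac)
  is_henselian f hf a₀ h₁ h₂ := by
    have hJjac : J ≤ Ideal.jacobson ⊥ := hJI.trans (radical_le_jacobson_bot_of_le hI.jac)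
    have hu : IsUnit (f.derivative.eval a₀) := isUnit_of_isUnit_mk_of_le_jacobson_bot hJjac h₂
    -- work in `R ⧸ I`
    let q := Ideal.Quotient.mk I
    have hnil : IsNilpotent ((f.map q).eval (q a₀)) := by
      rw [Polynomial.eval_map, Polynomial.eval₂_hom]
      obtain ⟨n, hn⟩ := hJI h₁
      exact ⟨n, by rw [← map_pow]; exact Ideal.Quotient.eq_zero_iff_mem.mpr hn⟩
    have hunit : IsUnit ((f.map q).derivative.eval (q a₀)) := by
      rw [Polynomial.derivative_map, Polynomial.eval_map, Polynomial.eval₂_hom]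
      exact hu.map q
    obtain ⟨r, hr1, hr2⟩ := exists_root_of_isNilpotent_eval (f.map q) hnil hunit
    obtain ⟨a₁, rfl⟩ := Ideal.Quotient.mk_surjective r
    have ha₁I : f.eval a₁ ∈ I := by
      rw [Polynomial.eval_map, Polynomial.eval₂_hom] at hr2
      exact Ideal.Quotient.eq_zero_iff_mem.mp hr2
    have ha₀a₁ : a₀ - a₁ ∈ I.radical := by
      obtain ⟨n, hn⟩ := hr1
      refine ⟨n, ?_⟩
      rw [← map_sub, ← map_pow] at hn
      exact Ideal.Quotient.eq_zero_iff_mem.mp hn
    have hu₁ : IsUnit (f.derivative.eval a₁) := by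
      have hj : a₁ - a₀ ∈ Ideal.jacobson (⊥ : Ideal R) := by
        rw [← neg_sub]
        exact (Ideal.neg_mem_iff _).mpr (radical_le_jacobson_bot_of_le hI.jac ha₀a₁)
      obtain ⟨k, hk⟩ := Polynomial.evalSubFactor f.derivative a₁ a₀
      have : f.derivative.eval a₁ = f.derivative.eval a₀ + k * (a₁ - a₀) := by
        linear_combination hk
      rw [this]
      exact isUnit_add_of_mem_jacobson_bot hu (Ideal.mul_mem_left _ _ hj)
    obtain ⟨a, ha, haI⟩ := hI.is_henselian f hf a₁ ha₁I (hu₁.map _)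
    refine ⟨a, ha, ?_⟩
    have hrad : a₀ - a ∈ I.radical := by
      have : a₀ - a = (a₀ - a₁) - (a - a₁) := by ring
      rw [this]
      exact Ideal.sub_mem _ ha₀a₁ (Ideal.le_radical haI)
    have := sub_mem_of_isRoot_of_eval_mem f ha (radical_le_jacobson_bot_of_le hI.jac hrad) hu J h₁
    rw [← neg_sub]; exact (Ideal.neg_mem_iff _).mpr this

theorem henselianRing_radical {I : Ideal R} (hI : HenselianRing R I) : HenselianRing R I.radical :=
  henselianRing_of_le_radical hI Ideal.le_radical le_rfl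

/-- Being a henselian pair only depends on the radical of the ideal. -/
theorem henselianRing_iff_of_radical_eq {I J : Ideal R} (h : I.radical = J.radical) :
    HenselianRing R I ↔ HenselianRing R J :=
  ⟨fun hI => henselianRing_of_le (h ▸ henselianRing_radical hI) Ideal.le_radical,
   fun hJ => henselianRing_of_le (h ▸ henselianRing_radical hJ) Ideal.le_radical⟩

theorem mem_jacobson_bot_of_isNilpotent {x : R} (hx : IsNilpotent x) :
    x ∈ Ideal.jacobson (⊥ : Ideal R) := by
  have : x ∈ (⊥ : Ideal R).radical := by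
    obtain ⟨n, hn⟩ := hx
    exact ⟨n, by simp [hn]⟩
  exact Ideal.radical_le_jacobson this

/-- An ideal consisting of nilpotent elements gives a henselian pair. -/
theorem henselianRing_of_forall_isNilpotent {I : Ideal R} (h : ∀ x ∈ I, IsNilpotent x) :
    HenselianRing R I where
  jac := fun x hx => mem_jacobson_bot_of_isNilpotent (h x hx)
  is_henselian f _ a₀ h₁ h₂ := by
    have hjac : I ≤ Ideal.jacobson ⊥ := fun x hx => mem_jacobson_bot_of_isNilpotent (h x hx)
    have hu : IsUnit (f.derivative.eval a₀) := isUnit_of_isUnit_mk_of_le_jacobson_bot hjac h₂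
    obtain ⟨r, hr1, hr2⟩ := exists_root_of_isNilpotent_eval f (h _ h₁) hu
    refine ⟨r, hr2, ?_⟩
    have := sub_mem_of_isRoot_of_eval_mem f hr2 (mem_jacobson_bot_of_isNilpotent hr1) hu I h₁
    rw [← neg_sub]; exact (Ideal.neg_mem_iff _).mpr this

/-- A surjective ring map whose kernel consists of nilpotent elements reflects units. -/
theorem isUnit_of_isUnit_map_of_nil_ker {S T : Type*} [CommRing S] [CommRing T] (t : S →+* T)
    (ht : Function.Surjective t) (hnil : ∀ x : S, t x = 0 → IsNilpotent x) {s : S}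
    (hs : IsUnit (t s)) : IsUnit s := by
  obtain ⟨u, hu⟩ := hs
  obtain ⟨s', hs'⟩ := ht (↑u⁻¹ : T)
  have h0 : t (s * s' - 1) = 0 := by
    rw [map_sub, map_mul, map_one, hs', ← hu, Units.mul_inv, sub_self]
  have hn : IsNilpotent (s * s' - 1) := hnil _ h0
  have h1 : IsUnit (s * s') := by
    have : s * s' = (s * s' - 1) + 1 := by ring
    rw [this]
    exact hn.isUnit_add_one
  exact isUnit_of_mul_isUnit_left h1

end Groth.Agent.Lib.Helper9
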