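import Mathlib.RingTheory.Flat.FaithfullyFlat.Basic
import Mathlib.RingTheory.RingHom.Flat
import Mathlib.RingTheory.RingHom.FaithfullyFlat

/-!
# Flatness descends along a faithfully flat second map

If `R → S → T` with `S → T` faithfully flat and `R → T` flat then `R → S` is flat.
-/

namespace Groth.Agent.Lib.Helper9

open TensorProduct

/-- If `R → S → T` are ring maps with `S → T` faithfully flat and `R → T` flat, then `R → S`
is flat. -/
theorem flat_of_faithfullyFlat_of_flat_comp (R S T : Type*) [CommRing R] [CommRing S] [CommRing T]
    [Algebra R S] [Algebra S T] [Algebra R T] [IsScalarTower R S T] [Module.FaithfullyFlat S T]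
    [Module.Flat R T] : Module.Flat R S := by
  rw [Module.Flat.iff_lTensor_preserves_injective_linearMap]
  intro N P _ _ _ _ f hf
  have h1 : Function.Injective (f.lTensor T) :=
    Module.Flat.lTensor_preserves_injective_linearMap f hf
  have h2 : Function.Injective (f.baseChange S) ↔ Function.Injective (f.lTensor S) := Iff.rfl
  rw [← h2, ← Module.FaithfullyFlat.lTensor_injective_iff_injective S T]
  have h3 : (TensorProduct.AlgebraTensorModule.cancelBaseChange R S T T P).toLinearMap.restrictScalars S ∘ₗ
      (f.baseChange S).lTensor T =
      ((f.baseChange T).restrictScalars S) ∘ₗ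
        (TensorProduct.AlgebraTensorModule.cancelBaseChange R S T T N).toLinearMap.restrictScalars S := by
    ext t n
    simp
  have h4 : Function.Injective ((TensorProduct.AlgebraTensorModule.cancelBaseChange R S T T P).toLinearMap.restrictScalars S ∘ₗ
      (f.baseChange S).lTensor T) := by
    rw [h3]
    exact (show Function.Injective (f.baseChange T) from h1).comp
      (TensorProduct.AlgebraTensorModule.cancelBaseChange R S T T N).injective
  rw [LinearMap.coe_comp] at h4
  exact Function.Injective.of_comp h4

/-- Ring hom version: if `g ∘ f` is flat and `g` is faithfully flat then `f` is flat. -/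
theorem _root_.RingHom.Flat.of_comp_of_faithfullyFlat_helper9 {R S T : Type*} [CommRing R] [CommRing S]
    [CommRing T] {f : R →+* S} {g : S →+* T} (hg : g.FaithfullyFlat) (hgf : (g.comp f).Flat) :
    f.Flat := by
  algebraize [f, g, g.comp f]
  exact flat_of_faithfullyFlat_of_flat_comp R S T

end Groth.Agent.Lib.Helper9
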