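import Mathlib
import Groth.Prelude.Def_EtRam

/-!
# Common extension of two valuation rings dominating a DVR

Given a DVR `B` with fraction field `L`, a field extension `M / L` with a valuation subring `W`
dominating `B`, and an extension of DVRs `B → C` with `M₀ = Frac C`, we construct a field `M'`
receiving `M` and `M₀` compatibly over `L`, generated by the two images, and a valuation
subring `W'` of `M'` with `W' ∩ M = W` which dominates `C`.
-/

universe u

open TensorProduct

namespace Groth.Agent.Lib.Helper9.CommonExt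

open EtRam

/-- Two valuation subrings `V ≤ V'` such that non-units of `V` stay non-units in `V'` are equal. -/
theorem valuationSubring_eq_of_le_of_dominates {M : Type*} [Field M] (V V' : ValuationSubring M)
    (h : V ≤ V') (hm : ∀ x ∈ V, x⁻¹ ∉ V → x⁻¹ ∉ V') : V = V' := by
  refine le_antisymm h ?_
  intro y hy
  by_contra hyV
  have hinv : y⁻¹ ∈ V := (V.mem_or_inv_mem y).resolve_left hyV
  have := hm y⁻¹ hinv (by rwa [inv_inv])
  rw [inv_inv] at this
  exact this hy

/-- For primes `𝔭 ≤ 𝔮` of a ring `R` there is a field `M'` with a ring map `ψ : R → M'` of kernel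
`𝔭`, generating `M'` as a field, and a valuation subring of `M'` containing `ψ R` in which
`ψ 𝔮` consists of non-units. -/
theorem exists_valuationSubring_of_primes {R : Type u} [CommRing R] (𝔭 𝔮 : Ideal R)
    [h𝔭 : 𝔭.IsPrime] [h𝔮 : 𝔮.IsPrime] (hle : 𝔭 ≤ 𝔮) :
    ∃ (M' : Type u) (_ : Field M') (ψ : R →+* M') (W' : ValuationSubring M'),
      (∀ r, ψ r = 0 ↔ r ∈ 𝔭) ∧ (∀ r, ψ r ∈ W') ∧ (∀ r ∈ 𝔮, W'.valuation (ψ r) < 1) ∧
      (∀ E : Subfield M', Set.range ψ ⊆ E → E = ⊤) := by
  classical
  let ψ : R →+* FractionRing (R ⧸ 𝔭) :=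
    (algebraMap (R ⧸ 𝔭) (FractionRing (R ⧸ 𝔭))).comp (Ideal.Quotient.mk 𝔭)
  have hψker : ∀ r, ψ r = 0 ↔ r ∈ 𝔭 := by
    intro r
    show algebraMap (R ⧸ 𝔭) (FractionRing (R ⧸ 𝔭)) (Ideal.Quotient.mk 𝔭 r) = 0 ↔ _
    rw [IsFractionRing.to_map_eq_zero_iff, Ideal.Quotient.eq_zero_iff_mem]
  have hunit : ∀ y : 𝔮.primeCompl, IsUnit (ψ y) := by
    intro y
    rw [isUnit_iff_ne_zero, Ne, hψker]
    exact fun hy => y.2 (hle hy)
  let f : Localization.AtPrime 𝔮 →+* FractionRing (R ⧸ 𝔭) :=
    IsLocalization.lift (M := 𝔮.primeCompl) hunit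
  have hf : ∀ r, f (algebraMap R (Localization.AtPrime 𝔮) r) = ψ r :=
    fun r => IsLocalization.lift_eq hunit r
  obtain ⟨W', hW'mem, hW'loc⟩ := IsLocalRing.exists_factor_valuationRing f
  refine ⟨FractionRing (R ⧸ 𝔭), inferInstance, ψ, W', hψker, ?_, ?_, ?_⟩
  · intro r
    rw [← hf]
    exact hW'mem _
  · intro r hr
    have hmem : (⟨ψ r, by rw [← hf]; exact hW'mem _⟩ : W') ∈ IsLocalRing.maximalIdeal W' := by
      rw [IsLocalRing.mem_maximalIdeal, mem_nonunits_iff]
      intro hu
      have hu' : IsUnit ((f.codRestrict W'.toSubring hW'mem)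
          (algebraMap R (Localization.AtPrime 𝔮) r)) := by
        convert hu using 1
        exact Subtype.ext (hf r)
      have := hW'loc.map_nonunit _ hu'
      have h2 : algebraMap R (Localization.AtPrime 𝔮) r ∈
          IsLocalRing.maximalIdeal (Localization.AtPrime 𝔮) := by
        rw [← Localization.AtPrime.comap_maximalIdeal (I := 𝔮)] at hr
        exact hr
      exact h2 this
    exact (W'.valuation_lt_one_iff _).mp hmem
  · intro E hE
    rw [eq_top_iff]
    intro x _
    obtain ⟨a, b, hb, rfl⟩ := IsFractionRing.div_surjective (A := R ⧸ 𝔭) x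
    obtain ⟨a, rfl⟩ := Ideal.Quotient.mk_surjective a
    obtain ⟨b, rfl⟩ := Ideal.Quotient.mk_surjective b
    exact E.div_mem (hE ⟨a, rfl⟩) (hE ⟨b, rfl⟩)

set_option maxHeartbeats 1600000 in
/-- **Common extension.** -/
theorem exists_common_extension
    {B L M M₀ C : Type u} [CommRing B] [IsDomain B] [IsDiscreteValuationRing B]
    [Field L] [Field M] [Field M₀] [Algebra B L] [IsFractionRing B L] [Algebra L M] [Algebra L M₀]
    [CommRing C] [IsDomain C] [IsDiscreteValuationRing C] [Algebra B C]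
    [IsLocalHom (algebraMap B C)] (hinj : Function.Injective (algebraMap B C))
    [Algebra C M₀] [IsFractionRing C M₀] [Algebra B M₀] [IsScalarTower B C M₀]
    [IsScalarTower B L M₀]
    (W : ValuationSubring M) (hW : Dominates B ((algebraMap L M).comp (algebraMap B L)) W) :
    ∃ (M' : Type u) (_ : Field M') (j : M →+* M') (j₀ : M₀ →+* M') (W' : ValuationSubring M'),
      j.comp (algebraMap L M) = j₀.comp (algebraMap L M₀) ∧ W'.comap j = W ∧
      Dominates C (j₀.comp (algebraMap C M₀)) W' ∧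
      (∀ E : Subfield M', Set.range j ⊆ E → Set.range j₀ ⊆ E → E = ⊤) := by
  classical
  let g : B →+* M := (algebraMap L M).comp (algebraMap B L)
  have hginj : Function.Injective g :=
    (algebraMap L M).injective.comp (IsFractionRing.injective B L)
  let φ : B →+* W := RingHom.codRestrict g W hW.1
  letI : Algebra B W := φ.toAlgebra
  have hφ_apply : ∀ b : B, ((algebraMap B W b : W) : M) = g b := fun b => rfl
  have hφinj : Function.Injective (algebraMap B W) :=
    fun a b h => hginj (congrArg Subtype.val h)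
  have : Module.IsTorsionFree B W := Module.isTorsionFree_iff_algebraMap_injective.mpr hφinj
  have : Module.IsTorsionFree B C := Module.isTorsionFree_iff_algebraMap_injective.mpr hinj
  have : Module.Flat B W := inferInstance
  have : Module.Flat B C := inferInstance
  have : Module.FaithfullyFlat B C := Module.FaithfullyFlat.of_flat_of_isLocalHom
  have : Module.FaithfullyFlat W (W ⊗[B] C) := inferInstance
  obtain ⟨𝔮, h𝔮p, h𝔮o⟩ := Ideal.exists_isPrime_liesOver_of_faithfullyFlat (B := W ⊗[B] C)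
    (IsLocalRing.maximalIdeal W)
  -- non-zero-divisors
  have hnzW : ∀ w : W, w ≠ 0 → (w ⊗ₜ[B] (1 : C)) ∈ nonZeroDivisors (W ⊗[B] C) := by
    intro w hw
    have hinjw : Function.Injective (LinearMap.mulLeft B w) := by
      intro a b hab
      exact mul_left_cancel₀ hw hab
    have h2 := Module.Flat.rTensor_preserves_injective_linearMap (M := C) _ hinjw
    have h3 : ∀ x : W ⊗[B] C, LinearMap.rTensor C (LinearMap.mulLeft B w) x = x * (w ⊗ₜ[B] 1) := by
      intro x
      induction x using TensorProduct.induction_on with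
      | zero => simp
      | tmul a c => simp [Algebra.TensorProduct.tmul_mul_tmul, mul_comm]
      | add a b ha hb => rw [map_add, add_mul, ha, hb]
    rw [mem_nonZeroDivisors_iff_right]
    intro x hx
    apply h2
    rw [map_zero, h3, hx]
  have hnzC : ∀ c : C, c ≠ 0 → ((1 : W) ⊗ₜ[B] c) ∈ nonZeroDivisors (W ⊗[B] C) := by
    intro c hc
    have hinjc : Function.Injective (LinearMap.mulLeft B c) := by
      intro a b hab
      exact mul_left_cancel₀ hc hab
    have h2 := Module.Flat.lTensor_preserves_injective_linearMap (M := W) _ hinjc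
    have h3 : ∀ x : W ⊗[B] C, LinearMap.lTensor W (LinearMap.mulLeft B c) x = x * (1 ⊗ₜ[B] c) := by
      intro x
      induction x using TensorProduct.induction_on with
      | zero => simp
      | tmul a c => simp [Algebra.TensorProduct.tmul_mul_tmul, mul_comm]
      | add a b ha hb => rw [map_add, add_mul, ha, hb]
    rw [mem_nonZeroDivisors_iff_right]
    intro x hx
    apply h2
    rw [map_zero, h3, hx]
  obtain ⟨𝔭, h𝔭min, h𝔭le⟩ := Ideal.exists_minimalPrimes_le (I := ⊥) (J := 𝔮) bot_le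
  have h𝔭p : 𝔭.IsPrime := h𝔭min.1.1
  have hdisj := Ideal.disjoint_nonZeroDivisors_of_mem_minimalPrimes
    (h𝔭min : 𝔭 ∈ minimalPrimes (W ⊗[B] C))
  have hW𝔭 : ∀ w : W, w ⊗ₜ[B] (1 : C) ∈ 𝔭 → w = 0 := by
    intro w hw
    by_contra hw0
    exact Set.disjoint_left.mp hdisj hw (hnzW w hw0)
  have hC𝔭 : ∀ c : C, (1 : W) ⊗ₜ[B] c ∈ 𝔭 → c = 0 := by
    intro c hc
    by_contra hc0
    exact Set.disjoint_left.mp hdisj hc (hnzC c hc0)
  -- the field `M'`
  obtain ⟨M', _, ψ, W', hψker, hψmem, hψlt, hgen⟩ := exists_valuationSubring_of_primes 𝔭 𝔮 h𝔭le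
  let ψW : W →+* M' :=
    ψ.comp (Algebra.TensorProduct.includeLeft (R := B) (S := B) (A := W) (B := C)).toRingHom
  let ψC : C →+* M' :=
    ψ.comp (Algebra.TensorProduct.includeRight (R := B) (A := W) (B := C)).toRingHom
  have hψW_apply : ∀ w : W, ψW w = ψ (w ⊗ₜ[B] 1) := fun w => rfl
  have hψC_apply : ∀ c : C, ψC c = ψ (1 ⊗ₜ[B] c) := fun c => rfl
  have hψWinj : Function.Injective ψW := by
    rw [injective_iff_map_eq_zero]
    intro w hw
    rw [hψW_apply, hψker] at hw
    exact hW𝔭 w hw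
  have hψCinj : Function.Injective ψC := by
    rw [injective_iff_map_eq_zero]
    intro c hc
    rw [hψC_apply, hψker] at hc
    exact hC𝔭 c hc
  let j : M →+* M' := IsFractionRing.lift (A := W) (K := M) hψWinj
  let j₀ : M₀ →+* M' :=
    IsFractionRing.lift (A := C) (K := M₀) hψCinj
  have hj : ∀ w : W, j (w : M) = ψW w := fun w => IsFractionRing.lift_algebraMap hψWinj w
  have hj₀ : ∀ c : C, j₀ (algebraMap C M₀ c) = ψC c :=
    fun c => IsFractionRing.lift_algebraMap hψCinj c
  -- `𝔮` contains `𝔪_W ⊗ 1` and `1 ⊗ 𝔪_C`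
  have h𝔮W : ∀ w : W, w ∈ IsLocalRing.maximalIdeal W → w ⊗ₜ[B] (1 : C) ∈ 𝔮 := by
    intro w hw
    rw [h𝔮o.over] at hw
    exact hw
  have hsm : ∀ b : B, (algebraMap B W b) ⊗ₜ[B] (1 : C) = (1 : W) ⊗ₜ[B] (algebraMap B C b) := by
    intro b
    rw [Algebra.algebraMap_eq_smul_one, Algebra.algebraMap_eq_smul_one, TensorProduct.smul_tmul]
  have h𝔮C : ∀ c : C, c ∈ IsLocalRing.maximalIdeal C → (1 : W) ⊗ₜ[B] c ∈ 𝔮 := by
    let 𝔠 : Ideal C := 𝔮.comap
      (Algebra.TensorProduct.includeRight (R := B) (A := W) (B := C)).toRingHom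
    have h𝔠p : 𝔠.IsPrime := Ideal.comap_isPrime _ 𝔮
    obtain ⟨π, hπ⟩ := IsDiscreteValuationRing.exists_irreducible B
    have hπm : π ∈ IsLocalRing.maximalIdeal B := by
      rw [IsLocalRing.mem_maximalIdeal, mem_nonunits_iff]
      exact hπ.not_isUnit
    have hπW : algebraMap B W π ∈ IsLocalRing.maximalIdeal W := by
      rw [ValuationSubring.valuation_lt_one_iff]
      exact hW.2 π hπm
    have hπ𝔠 : algebraMap B C π ∈ 𝔠 := by
      show (1 : W) ⊗ₜ[B] (algebraMap B C π) ∈ 𝔮
      rw [← hsm]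
      exact h𝔮W _ hπW
    have h𝔠0 : 𝔠 ≠ ⊥ := by
      intro h0
      rw [h0, Ideal.mem_bot] at hπ𝔠
      exact hπ.ne_zero (hinj (by rw [hπ𝔠, map_zero]))
    have h𝔠max : 𝔠.IsMaximal := h𝔠p.isMaximal h𝔠0
    have h𝔠eq : 𝔠 = IsLocalRing.maximalIdeal C := IsLocalRing.eq_maximalIdeal h𝔠max
    intro c hc
    rw [← h𝔠eq] at hc
    exact hc
  refine ⟨M', inferInstance, j, j₀, W', ?_, ?_, ?_, ?_⟩
  · -- compatibility on `L`
    apply IsLocalization.ringHom_ext (nonZeroDivisors B)
    ext b
    show j (algebraMap L M (algebraMap B L b)) = j₀ (algebraMap L M₀ (algebraMap B L b))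
    have h1 : algebraMap L M (algebraMap B L b) = ((algebraMap B W b : W) : M) := rfl
    have h2 : algebraMap L M₀ (algebraMap B L b) = algebraMap C M₀ (algebraMap B C b) := by
      rw [← IsScalarTower.algebraMap_apply B L M₀, ← IsScalarTower.algebraMap_apply B C M₀]
    rw [h1, h2, hj, hj₀, hψW_apply, hψC_apply, hsm]
  · -- `W' ∩ M = W`
    symm
    apply valuationSubring_eq_of_le_of_dominates
    · intro x hx
      rw [ValuationSubring.mem_comap]
      have := hj ⟨x, hx⟩
      simp only at this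
      rw [this]
      exact hψmem _
    · intro x hx hxinv
      rw [ValuationSubring.mem_comap, map_inv₀]
      have hmem : (⟨x, hx⟩ : W) ∈ IsLocalRing.maximalIdeal W := by
        rw [IsLocalRing.mem_maximalIdeal, mem_nonunits_iff]
        intro hu
        obtain ⟨u, hu⟩ := hu
        apply hxinv
        have h3 : ((u⁻¹ : Wˣ) : W) * ⟨x, hx⟩ = 1 := by rw [← hu]; exact u.inv_mul
        have h4 : (((u⁻¹ : Wˣ) : W) : M) * x = 1 := congrArg Subtype.val h3
        have h5 : x⁻¹ = (((u⁻¹ : Wˣ) : W) : M) := (eq_inv_of_mul_eq_one_left h4).symm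
        rw [h5]
        exact ((u⁻¹ : Wˣ) : W).2
      have hlt : W'.valuation (j x) < 1 := by
        have := hj ⟨x, hx⟩
        simp only at this
        rw [this, hψW_apply]
        exact hψlt _ (h𝔮W _ hmem)
      intro hin
      have hle : W'.valuation ((j x)⁻¹) ≤ 1 := (W'.valuation_le_one_iff _).mpr hin
      rw [map_inv₀] at hle
      by_cases h0 : W'.valuation (j x) = 0
      · rw [map_eq_zero] at h0
        have hx0 : x = 0 := by
          have := j.injective (a₁ := x) (a₂ := 0) (by rw [h0, map_zero])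
          exact this
        apply hxinv
        rw [hx0, inv_zero]
        exact W.zero_mem
      · have h1 : 1 < (W'.valuation (j x))⁻¹ := (one_lt_inv₀ (zero_lt_iff.mpr h0)).mpr hlt
        exact absurd hle (not_le.mpr h1)
  · -- domination of `C`
    refine ⟨fun c => ?_, fun c hc => ?_⟩
    · show j₀ (algebraMap C M₀ c) ∈ W'
      rw [hj₀, hψC_apply]
      exact hψmem _
    · show W'.valuation (j₀ (algebraMap C M₀ c)) < 1
      rw [hj₀, hψC_apply]
      exact hψlt _ (h𝔮C c hc)
  · -- generation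
    intro E hE hE₀
    apply hgen
    rintro _ ⟨r, rfl⟩
    induction r using TensorProduct.induction_on with
    | zero => rw [map_zero]; exact E.zero_mem
    | tmul w c =>
      have : w ⊗ₜ[B] c = (w ⊗ₜ[B] (1 : C)) * ((1 : W) ⊗ₜ[B] c) := by
        rw [Algebra.TensorProduct.tmul_mul_tmul, mul_one, one_mul]
      rw [this, map_mul, ← hψW_apply, ← hψC_apply, ← hj, ← hj₀]
      exact E.mul_mem (hE ⟨_, rfl⟩) (hE₀ ⟨_, rfl⟩)
    | add a b ha hb => rw [map_add]; exact E.add_mem ha hb

end Groth.Agent.Lib.Helper9.CommonExt
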