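import Groth.Agent.Lib.Helper24.SmoothNormal

/-!
# Étale algebras over Dedekind domains (helper9)

* `isDiscreteValuationRing_localization_of_etale`: for `B` étale over a Dedekind domain `A`, every
  localization of `B` at a prime is a field or a discrete valuation ring;
* `isDedekindDomain_of_etale_of_isDomain`: an étale `A`-algebra which is a domain is Dedekind;
* `exists_ringEquiv_pi_dedekind_of_etale`: `B` is a finite product of Dedekind domains.
-/

set_option autoImplicit false

namespace Groth.Agent.Lib.Helper9

universe u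

section

variable (A B : Type u) [CommRing A] [IsDedekindDomain A] [CommRing B] [Algebra A B]
  [Algebra.Etale A B]

include A

theorem isDomain_localization_of_etale (q : Ideal B) [q.IsPrime] :
    IsDomain (Localization.AtPrime q) :=
  (Groth.Agent.Lib.Helper24.isNormalRing_of_etale A B q).1

theorem maximalIdeal_eq_map_under_of_etale (q : Ideal B) [q.IsPrime] :
    IsLocalRing.maximalIdeal (Localization.AtPrime q) =
      (q.under A).map (algebraMap A (Localization.AtPrime q)) := by
  letI := Localization.AtPrime.algebraOfLiesOver (q.under A) q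
  have h : Algebra.IsUnramifiedAt A q := inferInstance
  exact ((Algebra.isUnramifiedAt_iff_map_eq A (q.under A) q).mp h).2.symm

theorem isNoetherianRing_of_etale_dedekind : IsNoetherianRing B :=
  Algebra.FiniteType.isNoetherianRing A B

theorem isDiscreteValuationRing_localization_of_etale (q : Ideal B) [q.IsPrime]
    (hq : ¬ IsField (Localization.AtPrime q)) :
    ∃ _ : IsDomain (Localization.AtPrime q), IsDiscreteValuationRing (Localization.AtPrime q) := by
  have hdom := isDomain_localization_of_etale A B q
  refine ⟨hdom, ?_⟩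
  have hnoeth : IsNoetherianRing B := isNoetherianRing_of_etale_dedekind A B
  have : IsNoetherianRing (Localization.AtPrime q) :=
    IsLocalization.isNoetherianRing q.primeCompl _ hnoeth
  have hmax := maximalIdeal_eq_map_under_of_etale A B q
  by_cases hp : q.under A = ⊥
  · exfalso
    apply hq
    rw [IsLocalRing.isField_iff_maximalIdeal_eq, hmax, hp, Ideal.map_bot]
  · have hdvr : IsDiscreteValuationRing (Localization.AtPrime (q.under A)) :=
      IsLocalization.AtPrime.isDiscreteValuationRing_of_dedekind_domain A hp _
    obtain ⟨ϖ, hϖ⟩ := (IsPrincipalIdealRing.principal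
      (IsLocalRing.maximalIdeal (Localization.AtPrime (q.under A)))).principal
    have h1 : IsLocalRing.maximalIdeal (Localization.AtPrime (q.under A)) =
        (q.under A).map (algebraMap A (Localization.AtPrime (q.under A))) :=
      (IsLocalization.AtPrime.map_eq_maximalIdeal (q.under A) _).symm
    letI := Localization.AtPrime.algebraOfLiesOver (q.under A) q
    have h2 : IsLocalRing.maximalIdeal (Localization.AtPrime q) =
        (IsLocalRing.maximalIdeal (Localization.AtPrime (q.under A))).map
          (algebraMap (Localization.AtPrime (q.under A)) (Localization.AtPrime q)) := by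
      rw [h1, Ideal.map_map, ← IsScalarTower.algebraMap_eq, hmax]
    apply ((IsDiscreteValuationRing.TFAE (Localization.AtPrime q) hq).out 0 4).mpr
    rw [h2, hϖ, Ideal.submodule_span_eq, Ideal.map_span, Set.image_singleton]
    exact ⟨⟨_, rfl⟩⟩

end

section Domain

variable (A D : Type u) [CommRing A] [IsDedekindDomain A] [CommRing D] [IsDomain D] [Algebra A D]
  [Algebra.Etale A D]

include A

theorem isDedekindDomain_of_etale_of_isDomain : IsDedekindDomain D := by
  have hnoeth : IsNoetherianRing D := isNoetherianRing_of_etale_dedekind A D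
  have : IsDedekindDomainDvr D :=
    { toIsNoetherian := hnoeth
      is_dvr_at_nonzero_prime := fun P hP hPprime => by
        obtain ⟨_, h⟩ := isDiscreteValuationRing_localization_of_etale A D P
          (IsLocalization.AtPrime.not_isField D hP _)
        exact h }
  infer_instance

end Domain

end Groth.Agent.Lib.Helper9

namespace Groth.Agent.Lib.Helper9

universe u

section Product

theorem minimalPrimes_eq_ker_of_le {B : Type u} [CommRing B] (q : Ideal B) [q.IsPrime]
    [IsDomain (Localization.AtPrime q)] {P : Ideal B} (hP : P ∈ minimalPrimes B) (hPq : P ≤ q) :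
    P = RingHom.ker (algebraMap B (Localization.AtPrime q)) := by
  have hK : (RingHom.ker (algebraMap B (Localization.AtPrime q))).IsPrime := RingHom.ker_isPrime _
  have hKP : RingHom.ker (algebraMap B (Localization.AtPrime q)) ≤ P := by
    intro x hx
    rw [RingHom.mem_ker, IsLocalization.map_eq_zero_iff q.primeCompl] at hx
    obtain ⟨m, hm⟩ := hx
    have hmem : (m : B) * x ∈ P := by rw [hm]; exact P.zero_mem
    exact (hP.1.1.mem_or_mem hmem).resolve_left (fun h => m.2 (hPq h))
  exact le_antisymm (hP.2 ⟨hK, bot_le⟩ hKP) hKP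

/-- A Noetherian ring all of whose localizations at maximal ideals are domains is a finite
product of domains `B ⧸ P i`, each `P i` being generated by an idempotent. -/
theorem exists_ringEquiv_pi_of_isDomain_localization (B : Type u) [CommRing B] [IsNoetherianRing B]
    (h : ∀ (q : Ideal B) [q.IsMaximal], IsDomain (Localization.AtPrime q)) :
    ∃ (n : ℕ) (P : Fin n → Ideal B), (∀ i, (P i).IsPrime) ∧
      (∀ i, ∃ e : B, IsIdempotentElem e ∧ P i = Ideal.span {1 - e}) ∧
      Nonempty (B ≃+* ∀ i, B ⧸ P i) := by
  classical
  have hred : IsReduced B := by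
    refine isReduced_ofLocalizationMaximal B (fun J hJ => ?_)
    have : IsDomain (Localization.AtPrime J) := h J
    infer_instance
  have hfin : (minimalPrimes B).Finite := minimalPrimes.finite_of_isNoetherianRing B
  have : Finite ↥(minimalPrimes B) := hfin
  obtain ⟨n, ⟨σ⟩⟩ := Finite.exists_equiv_fin ↥(minimalPrimes B)
  let P : Fin n → Ideal B := fun i => (σ.symm i).1
  have hPmem : ∀ i, P i ∈ minimalPrimes B := fun i => (σ.symm i).2
  have hPinj : Function.Injective P := fun i j hij =>
    σ.symm.injective (Subtype.ext hij)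
  have hPprime : ∀ i, (P i).IsPrime := fun i => (hPmem i).1.1
  have hcop : Pairwise (Function.onFun IsCoprime P) := by
    intro i j hij
    show IsCoprime (P i) (P j)
    rw [Ideal.isCoprime_iff_sup_eq]
    by_contra hne
    obtain ⟨q, hqmax, hq⟩ := Ideal.exists_le_maximal _ hne
    have : IsDomain (Localization.AtPrime q) := h q
    have h1 := minimalPrimes_eq_ker_of_le q (hPmem i) (le_sup_left.trans hq)
    have h2 := minimalPrimes_eq_ker_of_le q (hPmem j) (le_sup_right.trans hq)
    exact hij (hPinj (h1.trans h2.symm))
  have hinf : ⨅ i, P i = ⊥ := by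
    have h1 : ⨅ i, P i = sInf (minimalPrimes B) := by
      apply le_antisymm
      · refine le_sInf (fun Q hQ => ?_)
        have : P (σ ⟨Q, hQ⟩) = Q := by simp [P]
        exact this ▸ iInf_le P (σ ⟨Q, hQ⟩)
      · exact le_iInf (fun i => sInf_le (hPmem i))
    rw [h1]
    show sInf (⊥ : Ideal B).minimalPrimes = ⊥
    rw [Ideal.sInf_minimalPrimes]
    exact nilradical_eq_zero B
  let φ : B ≃+* ∀ i, B ⧸ P i :=
    (RingEquiv.quotientBot B).symm.trans
      ((Ideal.quotEquivOfEq hinf.symm).trans (Ideal.quotientInfRingEquivPiQuotient P hcop))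
  have hφ : ∀ (x : B) (i : Fin n), φ x i = Ideal.Quotient.mk (P i) x := fun x i => rfl
  refine ⟨n, P, hPprime, fun i => ?_, ⟨φ⟩⟩
  let s : ∀ j, B ⧸ P j := Pi.single (M := fun j => B ⧸ P j) i 1
  have hsi : s i = 1 := Pi.single_eq_same (M := fun j => B ⧸ P j) i 1
  have hsj : ∀ j, j ≠ i → s j = 0 := fun j hj =>
    Pi.single_eq_of_ne (M := fun j => B ⧸ P j) hj 1
  have hsingle : IsIdempotentElem s := by
    show s * s = s
    funext j
    by_cases hj : j = i
    · subst hj
      rw [Pi.mul_apply, hsi, one_mul]
    · rw [Pi.mul_apply, hsj j hj, mul_zero]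
  refine ⟨φ.symm s, hsingle.map φ.symm, ?_⟩
  have he : ∀ j, Ideal.Quotient.mk (P j) (φ.symm s) = s j := by
    intro j
    rw [← hφ, RingEquiv.apply_symm_apply]
  apply le_antisymm
  · intro x hx
    have hx0 : x * φ.symm s = 0 := by
      apply φ.injective
      rw [map_zero]
      funext j
      rw [hφ, map_mul, he j]
      by_cases hj : j = i
      · subst hj
        rw [Ideal.Quotient.eq_zero_iff_mem.mpr hx, zero_mul]
        rfl
      · rw [hsj j hj, mul_zero]
        rfl
    have hx1 : x = x * (1 - φ.symm s) := by
      rw [mul_sub, mul_one, hx0, sub_zero]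
    rw [hx1]
    exact Ideal.mul_mem_left _ _ (Ideal.mem_span_singleton_self _)
  · rw [Ideal.span_le, Set.singleton_subset_iff, SetLike.mem_coe, ← Ideal.Quotient.eq_zero_iff_mem,
      map_sub, map_one, he i, hsi, sub_self]

end Product

section Main

variable (A B : Type u) [CommRing A] [IsDedekindDomain A] [CommRing B] [Algebra A B]
  [Algebra.Etale A B]

include A

theorem exists_ringEquiv_pi_dedekind_of_etale :
    ∃ (n : ℕ) (D : Fin n → Type u) (_ : ∀ i, CommRing (D i)) (_ : ∀ i, IsDedekindDomain (D i)),
      Nonempty (B ≃+* ∀ i, D i) := by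
  have hnoeth : IsNoetherianRing B := isNoetherianRing_of_etale_dedekind A B
  obtain ⟨n, P, hPprime, hPe, ⟨φ⟩⟩ := exists_ringEquiv_pi_of_isDomain_localization B
    (fun q _ => isDomain_localization_of_etale A B q)
  refine ⟨n, fun i => B ⧸ P i, fun i => inferInstance, fun i => ?_, ⟨φ⟩⟩
  have := hPprime i
  obtain ⟨e, he, hP⟩ := hPe i
  have hloc : IsLocalization.Away e (B ⧸ Ideal.span {1 - e}) :=
    IsLocalization.Away.quotient_of_isIdempotentElem he
  have h1 : Algebra.Etale B (B ⧸ Ideal.span {1 - e}) := Algebra.Etale.of_isLocalizationAway e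
  have h2 : Algebra.Etale A (B ⧸ Ideal.span {1 - e}) := Algebra.Etale.comp A B _
  have h3 : Algebra.Etale A (B ⧸ P i) :=
    Algebra.Etale.of_equiv (Ideal.quotientEquivAlgOfEq A hP.symm)
  exact isDedekindDomain_of_etale_of_isDomain A (B ⧸ P i)

end Main

end Groth.Agent.Lib.Helper9
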