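import Mathlib
import Groth.Prelude.Def_EtRam
import Groth.Agent.Lib.Helper9.DedekindEtale

/-!
# Bridge between valuation-theoretic unramifiedness (`EtRam.IsUnramifiedExt`) and étale algebras
-/

universe u

open IsLocalRing

namespace Groth.Agent.Lib.Helper9.UnramBridge

open EtRam

section ValSub

variable (R : Type u) [CommRing R] [IsDomain R] [ValuationRing R] (K' : Type u) [Field K']
  [Algebra R K'] [IsFractionRing R K']

/-- The valuation subring of `K' = Frac R` attached to the valuation ring `R`. -/
noncomputable def valSub : ValuationSubring K' := (ValuationRing.valuation R K').valuationSubring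

theorem mem_valSub_iff (x : K') : x ∈ valSub R K' ↔ ∃ r : R, algebraMap R K' r = x := by
  unfold valSub
  rw [Valuation.mem_valuationSubring_iff]
  exact ValuationRing.mem_integer_iff R K' x

/-- `R ≃ valSub R K'`. -/
noncomputable def valSubEquiv : R ≃+* valSub R K' :=
  RingEquiv.ofBijective ((algebraMap R K').codRestrict (valSub R K')
    (fun r => (mem_valSub_iff R K' _).mpr ⟨r, rfl⟩))
    ⟨fun a b hab => IsFractionRing.injective R K' (congrArg Subtype.val hab),
      fun ⟨x, hx⟩ => by
        obtain ⟨r, hr⟩ := (mem_valSub_iff R K' x).mp hx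
        exact ⟨r, Subtype.ext hr⟩⟩

theorem valSubEquiv_coe (r : R) : ((valSubEquiv R K' r : valSub R K') : K') = algebraMap R K' r :=
  rfl

end ValSub

section LocalBridge

variable (A : Type u) [CommRing A] [IsDomain A] [IsDiscreteValuationRing A] {K' : Type u} [Field K']
  [Algebra A K']

set_option maxHeartbeats 1000000 in
/-- Local bridge: a valuation ring `R` of `K'` dominating `A` is formally unramified over `A` when
`K'` is unramified with respect to `A` in the valuation-theoretic sense. -/
theorem formallyUnramified_of_isUnramifiedExt
    (h : IsUnramifiedExt A (algebraMap A K'))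
    (R : Type u) [CommRing R] [IsDomain R] [ValuationRing R]
    [Algebra A R] [Algebra R K'] [IsScalarTower A R K'] [IsFractionRing R K']
    [IsLocalHom (algebraMap A R)] [Algebra.EssFiniteType A R] :
    Algebra.FormallyUnramified A R := by
  classical
  have hdom : Dominates A (algebraMap A K') (valSub R K') := by
    refine ⟨fun a => ?_, fun a ha => ?_⟩
    · rw [mem_valSub_iff]
      exact ⟨algebraMap A R a, (IsScalarTower.algebraMap_apply A R K' a).symm⟩
    · have hmem : (valSubEquiv R K' (algebraMap A R a)) ∈ maximalIdeal (valSub R K') := by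
        rw [mem_maximalIdeal, mem_nonunits_iff]
        intro hu
        have hu' : IsUnit (algebraMap A R a) := by
          have := hu.map (valSubEquiv R K').symm
          rwa [RingEquiv.symm_apply_apply] at this
        have hu'' : IsUnit a := isUnit_of_map_unit (algebraMap A R) a hu'
        exact ha hu''
      have := (ValuationSubring.valuation_lt_one_iff (valSub R K') _).mp hmem
      rw [valSubEquiv_coe, ← IsScalarTower.algebraMap_apply] at this
      exact this
  letI algV : Algebra A (valSub R K') :=
    (RingHom.codRestrict (algebraMap A K') (valSub R K') hdom.1).toAlgebra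
  have hcomm : ∀ a : A, valSubEquiv R K' (algebraMap A R a) = algebraMap A (valSub R K') a := by
    intro a
    apply Subtype.ext
    rw [valSubEquiv_coe, ← IsScalarTower.algebraMap_apply]
    rfl
  haveI hlocV : IsLocalHom (algebraMap A (valSub R K')) := by
    refine ⟨fun a ha => ?_⟩
    rw [← hcomm] at ha
    have hu' : IsUnit (algebraMap A R a) := by
      have := ha.map (valSubEquiv R K').symm
      rwa [RingEquiv.symm_apply_apply] at this
    exact isUnit_of_map_unit (algebraMap A R) a hu'
  obtain ⟨hwu, hsep⟩ := @h (valSub R K') hdom hlocV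
  -- transfer to `R`
  have hmax : (maximalIdeal A).map (algebraMap A R) = maximalIdeal R := by
    apply le_antisymm
    · exact Ideal.map_le_iff_le_comap.mpr (fun a ha => map_nonunit (algebraMap A R) a ha)
    · intro r hr
      have h1 : valSubEquiv R K' r ∈ maximalIdeal (valSub R K') := by
        rw [mem_maximalIdeal, mem_nonunits_iff] at hr ⊢
        intro hu
        apply hr
        have := hu.map (valSubEquiv R K').symm
        rwa [RingEquiv.symm_apply_apply] at this
      have hwu' : (maximalIdeal A).map (algebraMap A (valSub R K')) =
          maximalIdeal (valSub R K') := hwu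
      rw [← hwu'] at h1
      have h2 : (valSubEquiv R K').symm (valSubEquiv R K' r) ∈
          ((maximalIdeal A).map (algebraMap A (valSub R K'))).map
            ((valSubEquiv R K').symm : valSub R K' →+* R) := Ideal.mem_map_of_mem _ h1
      rw [RingEquiv.symm_apply_apply, Ideal.map_map] at h2
      have h3 : ((valSubEquiv R K').symm : valSub R K' →+* R).comp (algebraMap A (valSub R K')) =
          algebraMap A R := by
        ext a
        rw [RingHom.comp_apply, ← hcomm]
        exact RingEquiv.symm_apply_apply _ _
      rw [h3] at h2
      exact h2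
  haveI hsepR : Algebra.IsSeparable (ResidueField A) (ResidueField R) := by
    let f : ResidueField R →ₐ[ResidueField A] ResidueField (valSub R K') :=
      { toRingHom := ResidueField.map ((valSubEquiv R K' : R ≃+* valSub R K') : R →+* valSub R K')
        commutes' := by
          intro x
          obtain ⟨a, rfl⟩ := residue_surjective x
          show ResidueField.map _ (ResidueField.map (algebraMap A R) (residue A a)) =
            ResidueField.map (algebraMap A (valSub R K')) (residue A a)
          rw [ResidueField.map_residue, ResidueField.map_residue, ResidueField.map_residue]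
          congr 1
          exact hcomm a }
    exact Algebra.IsSeparable.of_algHom (ResidueField A) (ResidueField (valSub R K')) f
  exact Algebra.FormallyUnramified.of_map_maximalIdeal hmax

end LocalBridge

section GlobalBridge

variable (A : Type u) [CommRing A] [IsDomain A] [IsDiscreteValuationRing A] {K' : Type u} [Field K']
  [Algebra A K'] (A' : Type u) [CommRing A'] [IsDomain A'] [IsDedekindDomain A'] [Algebra A A']
  [Algebra A' K'] [IsScalarTower A A' K'] [IsFractionRing A' K'] [Module.Finite A A']

set_option maxHeartbeats 1000000 in
/-- At a maximal ideal of `A'` the localization is formally unramified over `A`. -/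
theorem isUnramifiedAt_of_isUnramifiedExt (hinj : Function.Injective (algebraMap A A'))
    (h : IsUnramifiedExt A (algebraMap A K')) (𝔫 : Ideal A') [h𝔫 : 𝔫.IsMaximal] :
    Algebra.FormallyUnramified A (Localization.AtPrime 𝔫) := by
  classical
  haveI : Algebra.IsIntegral A A' := inferInstance
  have hnf : ¬ IsField A' := fun hf =>
    (IsDiscreteValuationRing.not_isField A) (isField_of_isIntegral_of_isField hinj hf)
  have hn0 : 𝔫 ≠ ⊥ := Ring.ne_bot_of_isMaximal_of_not_isField h𝔫 hnf
  haveI hdvr : IsDiscreteValuationRing (Localization.AtPrime 𝔫) :=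
    IsLocalization.AtPrime.isDiscreteValuationRing_of_dedekind_domain A' hn0 _
  -- the map to `K'`
  have hunits : ∀ y : 𝔫.primeCompl, IsUnit (algebraMap A' K' y) := by
    intro y
    apply IsUnit.mk0
    rw [Ne, IsFractionRing.to_map_eq_zero_iff]
    rintro h0
    exact y.2 (by rw [h0]; exact 𝔫.zero_mem)
  letI algRK : Algebra (Localization.AtPrime 𝔫) K' :=
    (IsLocalization.lift (M := 𝔫.primeCompl) (S := Localization.AtPrime 𝔫) hunits).toAlgebra
  haveI tow1 : IsScalarTower A' (Localization.AtPrime 𝔫) K' :=
    IsScalarTower.of_algebraMap_eq (fun x => (IsLocalization.lift_eq hunits x).symm)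
  haveI : IsFractionRing (Localization.AtPrime 𝔫) K' :=
    IsFractionRing.isFractionRing_of_isDomain_of_isLocalization 𝔫.primeCompl
      (Localization.AtPrime 𝔫) K'
  haveI tow2 : IsScalarTower A (Localization.AtPrime 𝔫) K' :=
    IsScalarTower.of_algebraMap_eq (fun a => by
      rw [IsScalarTower.algebraMap_apply A A' K', IsScalarTower.algebraMap_apply A A'
        (Localization.AtPrime 𝔫), ← IsScalarTower.algebraMap_apply A' (Localization.AtPrime 𝔫) K'])
  haveI hloc : IsLocalHom (algebraMap A (Localization.AtPrime 𝔫)) := by
    refine ⟨fun a ha => ?_⟩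
    rw [IsScalarTower.algebraMap_apply A A' (Localization.AtPrime 𝔫),
      IsLocalization.AtPrime.isUnit_to_map_iff (Localization.AtPrime 𝔫) 𝔫] at ha
    have hmax : (𝔫.comap (algebraMap A A')).IsMaximal :=
      Ideal.isMaximal_comap_of_isIntegral_of_isMaximal 𝔫
    have heq : 𝔫.comap (algebraMap A A') = maximalIdeal A := IsLocalRing.eq_maximalIdeal hmax
    by_contra hnu
    have : a ∈ maximalIdeal A := hnu
    rw [← heq] at this
    exact ha this
  haveI : Algebra.EssFiniteType A' (Localization.AtPrime 𝔫) :=
    Algebra.EssFiniteType.of_isLocalization _ 𝔫.primeCompl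
  haveI : Algebra.EssFiniteType A (Localization.AtPrime 𝔫) :=
    Algebra.EssFiniteType.comp A A' (Localization.AtPrime 𝔫)
  exact formallyUnramified_of_isUnramifiedExt A h (Localization.AtPrime 𝔫)

/-- Global bridge: the integral closure is formally unramified. -/
theorem formallyUnramified_of_isUnramifiedExt_global
    (hinj : Function.Injective (algebraMap A A'))
    (h : IsUnramifiedExt A (algebraMap A K')) : Algebra.FormallyUnramified A A' := by
  classical
  rw [← Algebra.unramifiedLocus_eq_univ_iff]
  by_contra hne
  have hopen : IsOpen (Algebra.unramifiedLocus A A') := Algebra.isOpen_unramifiedLocus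
  have hclosed : IsClosed (Algebra.unramifiedLocus A A')ᶜ := hopen.isClosed_compl
  obtain ⟨I, hI⟩ := (PrimeSpectrum.isClosed_iff_zeroLocus_ideal _).mp hclosed
  have hInt : I ≠ ⊤ := by
    rintro rfl
    apply hne
    have : (Algebra.unramifiedLocus A A')ᶜ = ∅ := by
      rw [hI]
      exact PrimeSpectrum.zeroLocus_empty_iff_eq_top.mpr rfl
    rw [Set.compl_empty_iff] at this
    exact this
  obtain ⟨𝔫, h𝔫, hle⟩ := Ideal.exists_le_maximal I hInt
  have hmem : (⟨𝔫, h𝔫.isPrime⟩ : PrimeSpectrum A') ∈ (Algebra.unramifiedLocus A A')ᶜ := by
    rw [hI, PrimeSpectrum.mem_zeroLocus]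
    exact hle
  apply hmem
  show Algebra.FormallyUnramified A (Localization.AtPrime 𝔫)
  exact isUnramifiedAt_of_isUnramifiedExt A A' hinj h 𝔫

end GlobalBridge

end Groth.Agent.Lib.Helper9.UnramBridge
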