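import Mathlib
import Groth.Prelude.Def_EtRam
import Groth.Agent.Lib.Helper9.UnramBridge
import Groth.Agent.Lib.Helper9.CommonExt

/-!
# Extensions of discrete valuation rings: valuation subrings dominating a DVR

* `bijective_of_generates`: a local injective map from a DVR `D` to a valuation subring `V` of a
  field `F` whose image generates `F` is bijective.
* `exists_equiv_localization`: a valuation subring of a finite separable extension `L / K`
  dominating the DVR `A` is the localization of the integral closure of `A` at a maximal ideal;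
  in particular it is a DVR.
-/

universe u

open IsLocalRing

namespace Groth.Agent.Lib.Helper9.DVRExt

open EtRam Groth.Agent.Lib.Helper9.UnramBridge Groth.Agent.Lib.Helper9.CommonExt

section LocalIso

/-- A ring map from a DVR to a local ring sending a uniformizer to a non-unit is local. -/
theorem isLocalHom_of_uniformizer {D R : Type*} [CommRing D] [IsDomain D]
    [IsDiscreteValuationRing D] [CommRing R] (χ : D →+* R) {ϖ : D} (hϖ : Irreducible ϖ)
    (h : ¬ IsUnit (χ ϖ)) : IsLocalHom χ := by
  refine ⟨fun c hc => ?_⟩
  by_contra hnu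
  have hcm : c ∈ maximalIdeal D := hnu
  rw [hϖ.maximalIdeal_eq, Ideal.mem_span_singleton] at hcm
  obtain ⟨c', rfl⟩ := hcm
  rw [map_mul] at hc
  exact h (isUnit_of_mul_isUnit_left hc)

/-- A ring map from a DVR to a domain which does not kill a uniformizer is injective. -/
theorem injective_of_uniformizer {D R : Type*} [CommRing D] [IsDomain D]
    [IsDiscreteValuationRing D] [CommRing R] [IsDomain R] (χ : D →+* R) {ϖ : D}
    (hϖ : Irreducible ϖ) (h : χ ϖ ≠ 0) : Function.Injective χ := by
  rw [injective_iff_map_eq_zero]
  intro c hc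
  by_contra hc0
  obtain ⟨n, u, hu⟩ := IsDiscreteValuationRing.eq_unit_mul_pow_irreducible hc0 hϖ
  rw [hu, map_mul, map_pow] at hc
  rcases mul_eq_zero.mp hc with h1 | h1
  · exact (u.isUnit.map χ).ne_zero h1
  · exact h (pow_eq_zero_iff (M₀ := R) (n := n) (fun hn => by
      rw [hn, pow_zero] at h1; exact one_ne_zero h1) |>.mp h1)

/-- A local injective map from a DVR `D` to a valuation subring `V` of `F` whose image generates
`F` as a field is bijective. -/
theorem bijective_of_generates {D F : Type u} [CommRing D] [IsDomain D]
    [IsDiscreteValuationRing D] [Field F] (V : ValuationSubring F) (χ : D →+* V) [IsLocalHom χ]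
    (hχinj : Function.Injective χ)
    (hgen : ∀ E : Subfield F, (∀ d : D, ((χ d : V) : F) ∈ E) → E = ⊤) :
    Function.Bijective χ := by
  classical
  refine ⟨hχinj, ?_⟩
  let χF : D →+* F := V.subtype.comp χ
  have hχF : ∀ c, χF c = ((χ c : V) : F) := fun c => rfl
  have hχFinj : Function.Injective χF := fun a b hab => hχinj (Subtype.ext hab)
  let χK : FractionRing D →+* F := IsFractionRing.lift hχFinj
  have hχK : ∀ c, χK (algebraMap D _ c) = χF c :=
    fun c => IsFractionRing.lift_algebraMap hχFinj c
  have htop : χK.fieldRange = ⊤ := by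
    apply hgen
    intro c
    exact ⟨algebraMap D _ c, by rw [hχK, hχF]⟩
  intro v
  have hv : (v : F) ∈ χK.fieldRange := by rw [htop]; trivial
  obtain ⟨x, hx⟩ := hv
  rcases ValuationRing.isInteger_or_isInteger D x with ⟨c, hc⟩ | ⟨c, hc⟩
  · refine ⟨c, Subtype.ext ?_⟩
    rw [← hx, ← hc, hχK, hχF]
  · by_cases hx0 : x = 0
    · refine ⟨0, Subtype.ext ?_⟩
      rw [map_zero, ← hx, hx0, map_zero]
      rfl
    · have h1 : χF c * (v : F) = 1 := by
        rw [← hx, ← hχK, hc, ← map_mul, inv_mul_cancel₀ hx0, map_one]
      have hunit : IsUnit (χ c) := by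
        refine IsUnit.of_mul_eq_one v (Subtype.ext ?_)
        exact h1
      have hcu : IsUnit c := isUnit_of_map_unit χ c hunit
      obtain ⟨d, hd⟩ := hcu.exists_right_inv
      refine ⟨d, Subtype.ext ?_⟩
      have h2 : χF c * χF d = 1 := by rw [← map_mul, hd, map_one]
      have hc0 : χF c ≠ 0 := left_ne_zero_of_mul_eq_one h1
      exact mul_left_cancel₀ hc0 (h2.trans h1.symm)

end LocalIso

section Dominating


/-- Elements of `L` integral over `A` lie in every valuation subring containing the image of `A`. -/
theorem mem_of_isIntegral {A : Type*} [CommRing A] {L : Type*} [Field L] [Algebra A L]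
    (V : ValuationSubring L) (hV : ∀ a : A, algebraMap A L a ∈ V) {x : L} (hx : IsIntegral A x) :
    x ∈ V := by
  obtain ⟨p, hp, hpx⟩ := hx
  let φ : A →+* V := (algebraMap A L).codRestrict V hV
  have hVint : IsIntegral V x := by
    refine ⟨p.map φ, hp.map _, ?_⟩
    rw [Polynomial.eval₂_map]
    have : (algebraMap V L).comp φ = algebraMap A L := by
      ext a
      rfl
    rw [this]
    exact hpx
  obtain ⟨y, hy⟩ := (isIntegrallyClosed_iff L).mp (inferInstance : IsIntegrallyClosed V) hVint
  rw [← hy]
  exact y.2

theorem algebraMap_injective_of_tower (A K : Type*) {L : Type*} [CommRing A] [Field K]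
    [Algebra A K] [IsDomain A] [IsFractionRing A K] [Field L] [Algebra K L] [Algebra A L]
    [IsScalarTower A K L] : Function.Injective (algebraMap A L) := by
  rw [IsScalarTower.algebraMap_eq A K L]
  exact (algebraMap K L).injective.comp (IsFractionRing.injective A K)

set_option maxHeartbeats 1000000 in
/-- A valuation subring `V` of a finite separable extension `L / K` dominating the DVR `A` is the
localization of the integral closure `B` of `A` in `L` at a maximal ideal. -/
theorem exists_equiv_localization (A K : Type u) {L : Type u} [CommRing A] [IsDomain A]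
    [IsDiscreteValuationRing A] [Field K] [Algebra A K] [IsFractionRing A K] [Field L]
    [Algebra K L] [Algebra A L] [IsScalarTower A K L] [FiniteDimensional K L]
    [Algebra.IsSeparable K L] (V : ValuationSubring L)
    (hdom : Dominates A (algebraMap A L) V) :
    ∃ (𝔫 : Ideal (integralClosure A L)) (_ : 𝔫.IsMaximal)
      (e : Localization.AtPrime 𝔫 ≃+* V), 𝔫 ≠ ⊥ ∧
      (∀ b : integralClosure A L, ((e (algebraMap _ _ b) : V) : L) = (b : L)) ∧
      (∀ b : integralClosure A L, b ∈ 𝔫 ↔ V.valuation (b : L) < 1) := by
  classical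
  haveI : IsDedekindDomain (integralClosure A L) := integralClosure.isDedekindDomain A K L
  haveI : IsFractionRing (integralClosure A L) L :=
    integralClosure.isFractionRing_of_finite_extension K L
  have hBV : ∀ b : integralClosure A L, (b : L) ∈ V := fun b =>
    mem_of_isIntegral V hdom.1 b.2
  let ψ : integralClosure A L →+* V := (algebraMap (integralClosure A L) L).codRestrict V hBV
  have hψ : ∀ b, ((ψ b : V) : L) = (b : L) := fun b => rfl
  let 𝔫 : Ideal (integralClosure A L) := (maximalIdeal V).comap ψ
  haveI h𝔫 : 𝔫.IsPrime := Ideal.comap_isPrime ψ (maximalIdeal V)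
  obtain ⟨π, hπ⟩ := IsDiscreteValuationRing.exists_irreducible A
  have hπL : algebraMap A L π ≠ 0 := by
    intro h0
    exact hπ.ne_zero (algebraMap_injective_of_tower A K (by rw [h0, map_zero]))
  have hπmem : algebraMap A (integralClosure A L) π ∈ 𝔫 := by
    show ψ _ ∈ maximalIdeal V
    have h1 := hdom.2 π (by rw [hπ.maximalIdeal_eq]; exact Ideal.mem_span_singleton_self π)
    have h2 : (ψ (algebraMap A (integralClosure A L) π) : L) = algebraMap A L π := rfl
    rw [← h2] at h1
    exact (ValuationSubring.valuation_lt_one_iff V _).mpr h1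
  have h𝔫0 : 𝔫 ≠ ⊥ := by
    intro h0
    rw [h0, Ideal.mem_bot] at hπmem
    apply hπL
    have := congrArg (algebraMap (integralClosure A L) L) hπmem
    rw [map_zero] at this
    exact this
  haveI h𝔫max : 𝔫.IsMaximal := Ring.DimensionLEOne.maximalOfPrime h𝔫0 h𝔫
  haveI hCdvr : IsDiscreteValuationRing (Localization.AtPrime 𝔫) :=
    IsLocalization.AtPrime.isDiscreteValuationRing_of_dedekind_domain _ h𝔫0 _
  have hunits : ∀ y : 𝔫.primeCompl, IsUnit (ψ y) := by
    intro y
    by_contra hnu
    exact y.2 hnu
  let χ : Localization.AtPrime 𝔫 →+* V := IsLocalization.lift (M := 𝔫.primeCompl) hunits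
  have hχ : ∀ t, χ (algebraMap _ (Localization.AtPrime 𝔫) t) = ψ t :=
    fun t => IsLocalization.lift_eq hunits t
  haveI hlocχ : IsLocalHom χ := by
    refine ⟨fun c hc => ?_⟩
    obtain ⟨b, s, rfl⟩ := IsLocalization.exists_mk'_eq 𝔫.primeCompl c
    have h1 : χ (IsLocalization.mk' (Localization.AtPrime 𝔫) b s) * ψ s = ψ b := by
      rw [← hχ, ← hχ, ← map_mul, IsLocalization.mk'_spec]
    have h2 : IsUnit (ψ b) := by
      rw [← h1]
      exact hc.mul (hunits s)
    rw [IsLocalization.AtPrime.isUnit_mk'_iff (Localization.AtPrime 𝔫) 𝔫]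
    intro hb
    exact hb h2
  have hχinj : Function.Injective χ := by
    rw [RingHom.injective_iff_ker_eq_bot]
    by_contra hker
    haveI : (RingHom.ker χ).IsPrime := RingHom.ker_isPrime χ
    have hmax : (RingHom.ker χ).IsMaximal := Ring.DimensionLEOne.maximalOfPrime hker inferInstance
    have heq : RingHom.ker χ = maximalIdeal (Localization.AtPrime 𝔫) :=
      IsLocalRing.eq_maximalIdeal hmax
    have hmem : algebraMap _ (Localization.AtPrime 𝔫) (algebraMap A (integralClosure A L) π) ∈
        maximalIdeal (Localization.AtPrime 𝔫) := by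
      rw [mem_maximalIdeal, mem_nonunits_iff]
      intro hu
      have := hu.map χ
      rw [hχ] at this
      exact hπmem this
    rw [← heq, RingHom.mem_ker, hχ] at hmem
    apply hπL
    have := congrArg (fun v : V => (v : L)) hmem
    exact this
  have hgen : ∀ E : Subfield L, (∀ d : Localization.AtPrime 𝔫, ((χ d : V) : L) ∈ E) → E = ⊤ := by
    intro E hE
    have hB : ∀ b : integralClosure A L, (b : L) ∈ E := by
      intro b
      have := hE (algebraMap _ _ b)
      rw [hχ, hψ] at this
      exact this
    rw [eq_top_iff]
    intro l _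
    obtain ⟨b, s, _, rfl⟩ := IsFractionRing.div_surjective (A := integralClosure A L) l
    exact div_mem (hB b) (hB s)
  have hbij := bijective_of_generates V χ hχinj hgen
  refine ⟨𝔫, h𝔫max, RingEquiv.ofBijective χ hbij, h𝔫0, fun b => ?_, fun b => ?_⟩
  · show ((χ (algebraMap _ _ b) : V) : L) = b
    rw [hχ, hψ]
  · show ψ b ∈ maximalIdeal V ↔ _
    rw [← hψ]
    exact ValuationSubring.valuation_lt_one_iff V _

/-- A valuation subring of a finite separable extension dominating a DVR is a DVR. -/
theorem isDiscreteValuationRing_of_dominates (A K : Type u) {L : Type u} [CommRing A]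
    [IsDomain A] [IsDiscreteValuationRing A] [Field K] [Algebra A K] [IsFractionRing A K] [Field L]
    [Algebra K L] [Algebra A L] [IsScalarTower A K L] [FiniteDimensional K L]
    [Algebra.IsSeparable K L] (V : ValuationSubring L)
    (hdom : Dominates A (algebraMap A L) V) : IsDiscreteValuationRing V := by
  obtain ⟨𝔫, h𝔫, e, h𝔫0, -, -⟩ := exists_equiv_localization A K V hdom
  haveI : IsDedekindDomain (integralClosure A L) := integralClosure.isDedekindDomain A K L
  haveI : IsDiscreteValuationRing (Localization.AtPrime 𝔫) :=
    IsLocalization.AtPrime.isDiscreteValuationRing_of_dedekind_domain _ h𝔫0 _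
  exact IsDiscreteValuationRing.RingEquivClass.isDiscreteValuationRing e

end Dominating

section Model

/-- If `A → R` is a local homomorphism to a valuation ring `R` with fraction field `L`, the
valuation subring of `L` attached to `R` dominates `A`. -/
theorem dominates_valSub (A R L : Type u) [CommRing A] [IsLocalRing A] [CommRing R] [IsDomain R]
    [ValuationRing R] [Field L] [Algebra A R] [Algebra R L] [Algebra A L] [IsScalarTower A R L]
    [IsFractionRing R L] [IsLocalHom (algebraMap A R)] :
    Dominates A (algebraMap A L) (valSub R L) := by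
  refine ⟨fun a => ?_, fun a ha => ?_⟩
  · rw [mem_valSub_iff]
    exact ⟨algebraMap A R a, (IsScalarTower.algebraMap_apply A R L a).symm⟩
  · have hmem : (valSubEquiv R L (algebraMap A R a)) ∈ maximalIdeal (valSub R L) := by
      rw [mem_maximalIdeal, mem_nonunits_iff]
      intro hu
      have hu' : IsUnit (algebraMap A R a) := by
        have := hu.map (valSubEquiv R L).symm
        rwa [RingEquiv.symm_apply_apply] at this
      have hu'' : IsUnit a := isUnit_of_map_unit (algebraMap A R) a hu'
      exact ha hu''
    have := (ValuationSubring.valuation_lt_one_iff (valSub R L) _).mp hmem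
    rw [valSubEquiv_coe, ← IsScalarTower.algebraMap_apply] at this
    exact this

/-- In the valuation subring attached to a valuation ring `R`, the valuation of `r : R` is `< 1`
iff `r` is a non-unit. -/
theorem valuation_valSub_lt_one_iff (R L : Type u) [CommRing R] [IsDomain R] [ValuationRing R]
    [Field L] [Algebra R L] [IsFractionRing R L] (r : R) :
    (valSub R L).valuation (algebraMap R L r) < 1 ↔ r ∈ maximalIdeal R := by
  rw [← valSubEquiv_coe, ← ValuationSubring.valuation_lt_one_iff, mem_maximalIdeal,
    mem_maximalIdeal, mem_nonunits_iff, mem_nonunits_iff]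
  constructor
  · intro h hu
    exact h (hu.map (valSubEquiv R L))
  · intro h hu
    apply h
    have := hu.map (valSubEquiv R L).symm
    rwa [RingEquiv.symm_apply_apply] at this

set_option maxHeartbeats 1000000 in
/-- If the DVR `D` (with fraction field `L`) is integral over the DVR `A` via an injective local
homomorphism, then the valuation subring attached to `D` is the only valuation subring of `L`
dominating `A`. -/
theorem eq_valSub_of_dominates (A D L : Type u) [CommRing A] [IsDomain A]
    [IsDiscreteValuationRing A] [CommRing D] [IsDomain D] [IsDiscreteValuationRing D] [Field L]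
    [Algebra A D] [Algebra D L] [Algebra A L] [IsScalarTower A D L] [IsFractionRing D L]
    [Algebra.IsIntegral A D] (hinj : Function.Injective (algebraMap A D))
    (V : ValuationSubring L) (hdom : Dominates A (algebraMap A L) V) : V = valSub D L := by
  classical
  have hDV : ∀ d : D, algebraMap D L d ∈ V := fun d =>
    mem_of_isIntegral V hdom.1 ((Algebra.IsIntegral.isIntegral (R := A) d).map
      (IsScalarTower.toAlgHom A D L))
  let ψ : D →+* V := (algebraMap D L).codRestrict V hDV
  have hψ : ∀ d, ((ψ d : V) : L) = algebraMap D L d := fun d => rfl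
  let 𝔮 : Ideal D := (maximalIdeal V).comap ψ
  haveI h𝔮 : 𝔮.IsPrime := Ideal.comap_isPrime ψ (maximalIdeal V)
  obtain ⟨π, hπ⟩ := IsDiscreteValuationRing.exists_irreducible A
  have hπmem : algebraMap A D π ∈ 𝔮 := by
    show ψ _ ∈ maximalIdeal V
    have h1 := hdom.2 π (by rw [hπ.maximalIdeal_eq]; exact Ideal.mem_span_singleton_self π)
    have h2 : (ψ (algebraMap A D π) : L) = algebraMap A L π := by
      rw [hψ, ← IsScalarTower.algebraMap_apply]
    rw [← h2] at h1
    exact (ValuationSubring.valuation_lt_one_iff V _).mpr h1
  have h𝔮0 : 𝔮 ≠ ⊥ := by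
    intro h0
    rw [h0, Ideal.mem_bot] at hπmem
    exact hπ.ne_zero (hinj (by rw [hπmem, map_zero]))
  have h𝔮max : 𝔮.IsMaximal := Ring.DimensionLEOne.maximalOfPrime h𝔮0 h𝔮
  have h𝔮eq : 𝔮 = maximalIdeal D := IsLocalRing.eq_maximalIdeal h𝔮max
  have hval : ∀ d ∈ maximalIdeal D, V.valuation (algebraMap D L d) < 1 := by
    intro d hd
    rw [← h𝔮eq] at hd
    have : ψ d ∈ maximalIdeal V := hd
    rw [← hψ]
    exact (ValuationSubring.valuation_lt_one_iff V _).mp this
  symm
  apply valuationSubring_eq_of_le_of_dominates
  · intro x hx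
    obtain ⟨d, rfl⟩ := (mem_valSub_iff D L x).mp hx
    exact hDV d
  · intro x hx hxinv hxV
    obtain ⟨d, rfl⟩ := (mem_valSub_iff D L x).mp hx
    have hd : d ∈ maximalIdeal D := by
      by_contra hnd
      have hu : IsUnit d := by rwa [mem_maximalIdeal, mem_nonunits_iff, not_not] at hnd
      obtain ⟨u, rfl⟩ := hu
      apply hxinv
      rw [mem_valSub_iff]
      refine ⟨((u⁻¹ : Dˣ) : D), ?_⟩
      have h1 : algebraMap D L u * algebraMap D L ((u⁻¹ : Dˣ) : D) = 1 := by
        rw [← map_mul, Units.mul_inv, map_one]
      exact eq_inv_of_mul_eq_one_right h1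
    have hlt := hval d hd
    have hx0 : algebraMap D L d ≠ 0 := by
      intro h0
      apply hxinv
      rw [h0, inv_zero]
      exact (valSub D L).zero_mem
    have hle : V.valuation (algebraMap D L d)⁻¹ ≤ 1 := (V.valuation_le_one_iff _).mpr hxV
    rw [map_inv₀] at hle
    have hv0 : V.valuation (algebraMap D L d) ≠ 0 := (V.valuation.ne_zero_iff).mpr hx0
    have hgt : 1 < (V.valuation (algebraMap D L d))⁻¹ := (one_lt_inv₀ (zero_lt_iff.mpr hv0)).mpr hlt
    exact absurd hle (not_le.mpr hgt)

set_option maxHeartbeats 1000000 in
/-- If the DVR `D` with fraction field `L` is integral over the DVR `A` (injective local map) and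
has the same residue field, then `L` is totally ramified with respect to `A`. -/
theorem isTotallyRamified_of_model (A D L : Type u) [CommRing A] [IsDomain A]
    [IsDiscreteValuationRing A] [CommRing D] [IsDomain D] [IsDiscreteValuationRing D] [Field L]
    [Algebra A D] [Algebra D L] [Algebra A L] [IsScalarTower A D L] [IsFractionRing D L]
    [Algebra.IsIntegral A D] [IsLocalHom (algebraMap A D)]
    (hinj : Function.Injective (algebraMap A D))
    (hres : ∀ d : D, ∃ a : A, d - algebraMap A D a ∈ maximalIdeal D) :
    IsTotallyRamified A (algebraMap A L) := by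
  refine ⟨⟨valSub D L, dominates_valSub A D L⟩, fun V V' hV hV' => ?_, fun V hV => ?_⟩
  · rw [eq_valSub_of_dominates A D L hinj V hV, eq_valSub_of_dominates A D L hinj V' hV']
  · have hVeq := eq_valSub_of_dominates A D L hinj V hV
    subst hVeq
    intro x
    obtain ⟨v, rfl⟩ := residue_surjective x
    obtain ⟨d, hd⟩ := (mem_valSub_iff D L (v : L)).mp v.2
    obtain ⟨a, ha⟩ := hres d
    refine ⟨a, ?_⟩
    show residue (valSub D L) _ = residue (valSub D L) v
    rw [eq_comm, ← sub_eq_zero, ← map_sub, residue_eq_zero_iff,
      ValuationSubring.valuation_lt_one_iff]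
    have h1 : ((v - RingHom.codRestrict (algebraMap A L) (valSub D L) hV.1 a : valSub D L) : L) =
        algebraMap D L (d - algebraMap A D a) := by
      rw [map_sub, hd, ← IsScalarTower.algebraMap_apply]
      rfl
    rw [h1]
    exact (valuation_valSub_lt_one_iff D L _).mpr ha

end Model

end Groth.Agent.Lib.Helper9.DVRExt
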