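import Mathlib

/-!
# Separable residue field extensions of local homomorphisms
-/

universe u

namespace Groth.Agent.Lib.Helper9

open IsLocalRing

/-- The local homomorphism `f` induces a separable (algebraic) extension of residue fields. -/
def SepRes {R S : Type*} [CommRing R] [IsLocalRing R] [CommRing S] [IsLocalRing S]
    (f : R →+* S) [IsLocalHom f] : Prop :=
  @Algebra.IsSeparable (ResidueField R) (ResidueField S) _ _ (ResidueField.map f).toAlgebra

namespace SepRes

variable {R S T : Type*} [CommRing R] [IsLocalRing R] [CommRing S] [IsLocalRing S]
  [CommRing T] [IsLocalRing T]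

theorem comp (f : R →+* S) (g : S →+* T) [IsLocalHom f] [IsLocalHom g]
    (hf : SepRes f) (hg : SepRes g) : SepRes (g.comp f) := by
  unfold SepRes at *
  letI a1 : Algebra (ResidueField R) (ResidueField S) := (ResidueField.map f).toAlgebra
  letI a2 : Algebra (ResidueField S) (ResidueField T) := (ResidueField.map g).toAlgebra
  letI a3 : Algebra (ResidueField R) (ResidueField T) := (ResidueField.map (g.comp f)).toAlgebra
  haveI : IsScalarTower (ResidueField R) (ResidueField S) (ResidueField T) :=
    IsScalarTower.of_algebraMap_eq (fun x => by
      show ResidueField.map (g.comp f) x = ResidueField.map g (ResidueField.map f x)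
      rw [ResidueField.map_comp]
      rfl)
  haveI : Algebra.IsSeparable (ResidueField R) (ResidueField S) := hf
  haveI : Algebra.IsSeparable (ResidueField S) (ResidueField T) := hg
  exact Algebra.IsSeparable.trans (ResidueField R) (ResidueField S) (ResidueField T)

theorem of_comp_right (f : R →+* S) (g : S →+* T) [IsLocalHom f] [IsLocalHom g]
    (h : SepRes (g.comp f)) : SepRes g := by
  unfold SepRes at *
  letI a1 : Algebra (ResidueField R) (ResidueField S) := (ResidueField.map f).toAlgebra
  letI a2 : Algebra (ResidueField S) (ResidueField T) := (ResidueField.map g).toAlgebra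
  letI a3 : Algebra (ResidueField R) (ResidueField T) := (ResidueField.map (g.comp f)).toAlgebra
  haveI : IsScalarTower (ResidueField R) (ResidueField S) (ResidueField T) :=
    IsScalarTower.of_algebraMap_eq (fun x => by
      show ResidueField.map (g.comp f) x = ResidueField.map g (ResidueField.map f x)
      rw [ResidueField.map_comp]
      rfl)
  haveI : Algebra.IsSeparable (ResidueField R) (ResidueField T) := h
  exact Algebra.isSeparable_tower_top_of_isSeparable (ResidueField R) (ResidueField S)
    (ResidueField T)

theorem of_comp_left (f : R →+* S) (g : S →+* T) [IsLocalHom f] [IsLocalHom g]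
    (h : SepRes (g.comp f)) : SepRes f := by
  unfold SepRes at *
  letI a1 : Algebra (ResidueField R) (ResidueField S) := (ResidueField.map f).toAlgebra
  letI a2 : Algebra (ResidueField S) (ResidueField T) := (ResidueField.map g).toAlgebra
  letI a3 : Algebra (ResidueField R) (ResidueField T) := (ResidueField.map (g.comp f)).toAlgebra
  haveI : IsScalarTower (ResidueField R) (ResidueField S) (ResidueField T) :=
    IsScalarTower.of_algebraMap_eq (fun x => by
      show ResidueField.map (g.comp f) x = ResidueField.map g (ResidueField.map f x)
      rw [ResidueField.map_comp]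
      rfl)
  haveI : Algebra.IsSeparable (ResidueField R) (ResidueField T) := h
  exact Algebra.isSeparable_tower_bot_of_isSeparable (ResidueField R) (ResidueField S)
    (ResidueField T)

/-- If every element of `S` is congruent to an element of the image of `R` modulo the maximal
ideal, the residue extension is trivially separable. -/
theorem of_residue_surjective (f : R →+* S) [IsLocalHom f]
    (h : ∀ s : S, ∃ r : R, s - f r ∈ maximalIdeal S) : SepRes f := by
  unfold SepRes
  letI a1 : Algebra (ResidueField R) (ResidueField S) := (ResidueField.map f).toAlgebra
  refine ⟨fun x => ?_⟩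
  obtain ⟨s, rfl⟩ := residue_surjective x
  obtain ⟨r, hr⟩ := h s
  have : residue S s = algebraMap (ResidueField R) (ResidueField S) (residue R r) := by
    show residue S s = ResidueField.map f (residue R r)
    rw [ResidueField.map_residue, ← sub_eq_zero, ← map_sub, residue_eq_zero_iff]
    exact hr
  rw [this]
  exact isSeparable_algebraMap _

theorem of_bijective (f : R →+* S) [IsLocalHom f] (h : Function.Surjective f) : SepRes f :=
  of_residue_surjective f (fun s => by
    obtain ⟨r, rfl⟩ := h s
    exact ⟨r, by rw [sub_self]; exact zero_mem _⟩)

/-- Link with the `Algebra` formulation. -/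
theorem iff_isSeparable [Algebra R S] [IsLocalHom (algebraMap R S)] :
    SepRes (algebraMap R S) ↔ Algebra.IsSeparable (ResidueField R) (ResidueField S) := by
  have : (ResidueField.map (algebraMap R S)).toAlgebra =
      (inferInstance : Algebra (ResidueField R) (ResidueField S)) :=
    Algebra.algebra_ext _ _ (fun r => by
      obtain ⟨x, rfl⟩ := residue_surjective r
      rfl)
  unfold SepRes
  rw [this]

end SepRes

end Groth.Agent.Lib.Helper9
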