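import Mathlib
import Groth.Prelude.Def_EtRam
import Groth.Agent.Lib.Helper9.DVRExt
import Groth.Agent.Lib.Helper9.SepRes

/-!
# Basic facts on ramification of extensions of DVRs through valuation subrings
-/

universe u

namespace Groth.Agent.Lib.Helper9.TameBase

open IsLocalRing EtRam Groth.Agent.Lib.Helper9 Groth.Agent.Lib.Helper9.DVRExt

section RamIdx

/-- For an injective local homomorphism of DVRs, the image of a uniformizer is a unit times the
`e`-th power of a uniformizer, where `e ≠ 0` is the ramification index. -/
theorem exists_eq_unit_mul_pow {A V : Type*} [CommRing A] [IsDomain A] [IsDiscreteValuationRing A]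
    [CommRing V] [IsDomain V] [IsDiscreteValuationRing V] [Algebra A V]
    [IsLocalHom (algebraMap A V)] (hinj : Function.Injective (algebraMap A V)) {π : A}
    (hπ : Irreducible π) {ϖ : V} (hϖ : Irreducible ϖ) :
    Ideal.ramificationIdx' (maximalIdeal A) (maximalIdeal V) ≠ 0 ∧
    ∃ w : Vˣ, algebraMap A V π =
      w * ϖ ^ Ideal.ramificationIdx' (maximalIdeal A) (maximalIdeal V) := by
  have h0 : algebraMap A V π ≠ 0 := fun h => hπ.ne_zero (hinj (by rw [h, map_zero]))
  obtain ⟨n, w, hw⟩ := IsDiscreteValuationRing.eq_unit_mul_pow_irreducible h0 hϖ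
  have hn0 : n ≠ 0 := by
    rintro rfl
    rw [pow_zero, mul_one] at hw
    have hu : IsUnit (algebraMap A V π) := by rw [hw]; exact w.isUnit
    exact hπ.not_isUnit (isUnit_of_map_unit (algebraMap A V) π hu)
  have hmap : (maximalIdeal A).map (algebraMap A V) = maximalIdeal V ^ n := by
    rw [hπ.maximalIdeal_eq, Ideal.map_span, Set.image_singleton, hϖ.maximalIdeal_eq,
      Ideal.span_singleton_pow, hw]
    exact Ideal.span_singleton_eq_span_singleton.mpr
      ⟨w⁻¹, by rw [mul_comm (w : V), mul_assoc, Units.mul_inv, mul_one]⟩
  have hidx : Ideal.ramificationIdx' (maximalIdeal A) (maximalIdeal V) = n := by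
    apply Ideal.ramificationIdx'_spec
    · rw [hmap]
    · rw [hmap, hϖ.maximalIdeal_eq, Ideal.span_singleton_pow, Ideal.span_singleton_pow,
        Ideal.span_singleton_le_span_singleton]
      intro hdvd
      have := (pow_dvd_pow_iff hϖ.ne_zero hϖ.not_isUnit).mp hdvd
      omega
  rw [hidx]
  exact ⟨hn0, w, hw⟩

end RamIdx

section Dominating

/-- The algebra structure on a valuation subring dominating `A`. -/
theorem isLocalHom_of_dominates {A : Type u} [CommRing A] [IsLocalRing A] {L : Type u} [Field L]
    (g : A →+* L) (V : ValuationSubring L) (hdom : Dominates A g V) :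
    IsLocalHom (RingHom.codRestrict g V hdom.1) := by
  refine ⟨fun a ha => ?_⟩
  by_contra hnu
  have hmem : a ∈ maximalIdeal A := hnu
  have h1 := hdom.2 a hmem
  have h2 : V.valuation ((RingHom.codRestrict g V hdom.1 a : V) : L) = 1 :=
    (V.valuation_eq_one_iff _).mp ha
  have h3 : ((RingHom.codRestrict g V hdom.1 a : V) : L) = g a := rfl
  rw [h3] at h2
  exact h1.ne h2

set_option maxHeartbeats 1000000 in
/-- Only finitely many valuation subrings of a finite separable extension dominate a DVR. -/
theorem finite_dominating (A K : Type u) {L : Type u} [CommRing A] [IsDomain A]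
    [IsDiscreteValuationRing A] [Field K] [Algebra A K] [IsFractionRing A K] [Field L]
    [Algebra K L] [Algebra A L] [IsScalarTower A K L] [FiniteDimensional K L]
    [Algebra.IsSeparable K L] :
    {V : ValuationSubring L | Dominates A (algebraMap A L) V}.Finite := by
  classical
  haveI : IsDedekindDomain (integralClosure A L) := integralClosure.isDedekindDomain A K L
  have hinjAB : Function.Injective (algebraMap A (integralClosure A L)) := by
    intro a b hab
    apply algebraMap_injective_of_tower A K (L := L)
    exact congrArg (algebraMap (integralClosure A L) L) hab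
  haveI : Module.IsTorsionFree A (integralClosure A L) :=
    Module.isTorsionFree_iff_algebraMap_injective.mpr hinjAB
  let center : ValuationSubring L → Set (integralClosure A L) :=
    fun V => {b | V.valuation (b : L) < 1}
  let S' : Set (integralClosure A L) → Set L :=
    fun c => {x | ∃ b s : integralClosure A L, s ∉ c ∧ x * (s : L) = (b : L)}
  have key : ∀ V : ValuationSubring L, Dominates A (algebraMap A L) V →
      (∃ 𝔫 ∈ (maximalIdeal A).primesOver (integralClosure A L), (𝔫 : Set _) = center V) ∧
      (V : Set L) = S' (center V) := by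
    intro V hdom
    obtain ⟨𝔫, h𝔫, e, h𝔫0, he, hmem⟩ := exists_equiv_localization A K V hdom
    have hcenter : (𝔫 : Set (integralClosure A L)) = center V := by
      ext b
      exact hmem b
    have hBV : ∀ b : integralClosure A L, (b : L) ∈ V := fun b =>
      mem_of_isIntegral V hdom.1 b.2
    refine ⟨⟨𝔫, ⟨h𝔫.isPrime, ⟨?_⟩⟩, hcenter⟩, ?_⟩
    · -- lies over
      apply le_antisymm
      · intro a ha
        rw [Ideal.under_def, Ideal.mem_comap, hmem]
        exact hdom.2 a ha
      · exact IsLocalRing.le_maximalIdeal (Ideal.comap_ne_top _ h𝔫.ne_top)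
    · ext x
      constructor
      · intro hx
        obtain ⟨c, hc⟩ := e.surjective ⟨x, hx⟩
        obtain ⟨b, s, rfl⟩ := IsLocalization.exists_mk'_eq 𝔫.primeCompl c
        refine ⟨b, s, ?_, ?_⟩
        · rw [← hcenter]
          exact s.2
        · have h1 : e (IsLocalization.mk' (Localization.AtPrime 𝔫) b s) *
              e (algebraMap _ _ (s : integralClosure A L)) = e (algebraMap _ _ b) := by
            rw [← map_mul, IsLocalization.mk'_spec]
          have h2 := congrArg (fun v : V => (v : L)) h1
          simp only [MulMemClass.coe_mul] at h2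
          rw [hc, he, he] at h2
          exact h2
      · rintro ⟨b, s, hs, hxs⟩
        have hs1 : V.valuation (s : L) = 1 := by
          have h1 : V.valuation (s : L) ≤ 1 := (V.valuation_le_one_iff _).mpr (hBV s)
          exact le_antisymm h1 (not_lt.mp hs)
        have hb1 : V.valuation (b : L) ≤ 1 := (V.valuation_le_one_iff _).mpr (hBV b)
        have : V.valuation x ≤ 1 := by
          have h2 : V.valuation x * V.valuation (s : L) = V.valuation (b : L) := by
            rw [← map_mul, hxs]
          rw [hs1, mul_one] at h2
          rw [h2]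
          exact hb1
        exact (V.valuation_le_one_iff x).mp this
  have hfin : ((maximalIdeal A).primesOver (integralClosure A L)).Finite :=
    IsDedekindDomain.primesOver_finite (maximalIdeal A) (integralClosure A L)
  apply Set.Finite.of_finite_image (f := center)
  · apply (hfin.image (fun 𝔫 : Ideal (integralClosure A L) => (𝔫 : Set _))).subset
    rintro _ ⟨V, hV, rfl⟩
    obtain ⟨⟨𝔫, h𝔫, hc⟩, -⟩ := key V hV
    exact ⟨𝔫, h𝔫, hc⟩
  · intro V hV V' hV' hcc
    apply SetLike.coe_injective
    rw [(key V hV).2, (key V' hV').2]
    show S' (center V) = S' (center V')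
    rw [hcc]

end Dominating

end Groth.Agent.Lib.Helper9.TameBase
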