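import Mathlib
import Groth.Prelude.Def_EtRam
import Groth.Agent.Lib.Helper85.KrullAkizukiField
import Groth.Agent.Lib.Helper9.TameBase

/-!
# Valuation subrings of a finite (possibly inseparable) extension dominating a DVR (helper9)

Via Krull–Akizuki (helper85): such a valuation subring is a DVR and its residue field is finite
over that of the base.
-/

universe u

open IsLocalRing EtRam

namespace Groth.Agent.Lib.Helper9.KADominates

open Groth.Agent.Lib.Helper9.DVRExt Groth.Agent.Lib.Helper9.TameBase

section

variable (A K : Type u) {L : Type u} [CommRing A] [IsDomain A] [IsDiscreteValuationRing A]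
  [Field K] [Algebra A K] [IsFractionRing A K] [Field L] [Algebra K L] [Algebra A L]
  [IsScalarTower A K L] [FiniteDimensional K L]

include K in
/-- A valuation subring of a finite extension dominating a DVR is a DVR. -/
theorem isDiscreteValuationRing_of_dominates_finite (V : ValuationSubring L)
    (hdom : Dominates A (algebraMap A L) V) : IsDiscreteValuationRing V := by
  letI algAV : Algebra A V := (RingHom.codRestrict (algebraMap A L) V hdom.1).toAlgebra
  haveI : IsScalarTower A V L := IsScalarTower.of_algebraMap_eq (fun _ => rfl)
  have hinj : Function.Injective (algebraMap V L) := Subtype.val_injective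
  haveI : IsNoetherianRing V :=
    Groth.Agent.Lib.Helper85.KrullAkizuki.sandwich_isNoetherianRing A K L V hinj
  obtain ⟨π, hπ⟩ := IsDiscreteValuationRing.exists_irreducible A
  have hnf : ¬ IsField V := by
    intro hf
    have hπm : π ∈ maximalIdeal A := (mem_maximalIdeal _).mpr hπ.not_isUnit
    have h1 := hdom.2 π hπm
    have hne : algebraMap A V π ≠ 0 := by
      intro h0
      have : algebraMap A L π = 0 := congrArg (fun v : V => (v : L)) h0
      exact hπ.ne_zero (algebraMap_injective_of_tower A K (L := L) (by rw [this, map_zero]))
    obtain ⟨y, hy⟩ := hf.mul_inv_cancel hne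
    have hu : IsUnit (algebraMap A V π) :=
      ⟨⟨algebraMap A V π, y, hy, by rw [mul_comm]; exact hy⟩, rfl⟩
    have h2 := (V.valuation_eq_one_iff _).mp hu
    have h3 : ((algebraMap A V π : V) : L) = algebraMap A L π := rfl
    rw [h3] at h2
    exact h1.ne h2
  have hval : ValuationRing V := inferInstance
  have htfae : IsDiscreteValuationRing V ↔ ValuationRing V :=
    (IsDiscreteValuationRing.TFAE V hnf).out 0 1
  exact htfae.mpr hval

include K in
/-- The residue field of a local ring between a DVR and a finite extension of its fraction field
is finite over the residue field of the DVR. -/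
theorem finite_residueField (L : Type u) [Field L] [Algebra K L] [Algebra A L]
    [IsScalarTower A K L] [FiniteDimensional K L]
    (V : Type u) [CommRing V] [IsLocalRing V] [Algebra A V] [Algebra V L]
    [IsScalarTower A V L] [IsLocalHom (algebraMap A V)]
    (hinj : Function.Injective (algebraMap V L)) :
    Module.Finite (ResidueField A) (ResidueField V) := by
  obtain ⟨π, hπ⟩ := IsDiscreteValuationRing.exists_irreducible A
  haveI hfin : Module.Finite A (V ⧸ (Ideal.span {algebraMap A V π} : Ideal V)) :=
    Groth.Agent.Lib.Helper85.KrullAkizuki.sandwich_finite_quotient A K L V hinj hπ.ne_zero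
  have hle : (Ideal.span {algebraMap A V π} : Ideal V) ≤ maximalIdeal V := by
    rw [Ideal.span_singleton_le_iff_mem, mem_maximalIdeal, mem_nonunits_iff]
    intro hu
    exact hπ.not_isUnit (isUnit_of_map_unit (algebraMap A V) π hu)
  haveI : Module.Finite A (ResidueField V) :=
    Module.Finite.of_surjective (Ideal.Quotient.factorₐ A hle).toLinearMap
      (Ideal.Quotient.factor_surjective hle)
  exact Module.Finite.of_restrictScalars_finite A (ResidueField A) (ResidueField V)

end

end Groth.Agent.Lib.Helper9.KADominates
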