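import Mathlib

/-!
# Eisenstein extensions of a discrete valuation ring

For a DVR `O` and a monic Eisenstein polynomial `F` of positive degree, `AdjoinRoot F` is a DVR
with uniformizer `root F` and the same residue field as `O`.
-/

universe u

namespace Groth.Agent.Lib.Helper9.Eisenstein

open Polynomial IsLocalRing

variable {O : Type u} [CommRing O] [IsDomain O] [IsDiscreteValuationRing O]

theorem irreducible (F : O[X]) (hF : F.Monic) (hE : F.IsEisensteinAt (maximalIdeal O))
    (hpos : 0 < F.natDegree) : Irreducible F :=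
  hE.irreducible (maximalIdeal.isMaximal O).isPrime hF.isPrimitive hpos

theorem isDomain (F : O[X]) (hF : F.Monic) (hE : F.IsEisensteinAt (maximalIdeal O))
    (hpos : 0 < F.natDegree) : IsDomain (AdjoinRoot F) :=
  AdjoinRoot.isDomain_of_prime (irreducible F hF hE hpos).prime

theorem of_injective (F : O[X]) (hpos : 0 < F.natDegree) :
    Function.Injective (AdjoinRoot.of F) := by
  apply AdjoinRoot.of.injective_of_degree_ne_zero
  intro h
  have h0 : F.natDegree = 0 := natDegree_eq_zero_iff_degree_le_zero.mpr h.le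
  omega

theorem coeff_zero_mem (F : O[X]) (hE : F.IsEisensteinAt (maximalIdeal O))
    (hpos : 0 < F.natDegree) : F.coeff 0 ∈ maximalIdeal O := hE.mem hpos

/-- The map `AdjoinRoot F → κ(O)` sending the root to `0`. -/
noncomputable def resHom (F : O[X]) (hE : F.IsEisensteinAt (maximalIdeal O))
    (hpos : 0 < F.natDegree) : AdjoinRoot F →+* ResidueField O :=
  AdjoinRoot.lift (residue O) 0 (by
    rw [eval₂_at_zero]
    exact (residue_eq_zero_iff _).mpr (coeff_zero_mem F hE hpos))

theorem resHom_of (F : O[X]) (hE : F.IsEisensteinAt (maximalIdeal O))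
    (hpos : 0 < F.natDegree) (a : O) : resHom F hE hpos (AdjoinRoot.of F a) = residue O a := by
  unfold resHom
  exact AdjoinRoot.lift_of _

theorem resHom_root (F : O[X]) (hE : F.IsEisensteinAt (maximalIdeal O))
    (hpos : 0 < F.natDegree) : resHom F hE hpos (AdjoinRoot.root F) = 0 := by
  unfold resHom
  exact AdjoinRoot.lift_root _

theorem exists_of_add_root_mul (F : O[X]) (d : AdjoinRoot F) :
    ∃ (a : O) (q : AdjoinRoot F), d = AdjoinRoot.of F a + AdjoinRoot.root F * q := by
  obtain ⟨P, rfl⟩ := AdjoinRoot.mk_surjective d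
  refine ⟨P.coeff 0, AdjoinRoot.mk F P.divX, ?_⟩
  conv_lhs => rw [← divX_mul_X_add P]
  rw [map_add, map_mul, AdjoinRoot.mk_X, AdjoinRoot.mk_C]
  ring

theorem of_coeff_zero_mem_span_root (F : O[X]) :
    AdjoinRoot.of F (F.coeff 0) ∈ Ideal.span {AdjoinRoot.root F} := by
  have h0 : AdjoinRoot.mk F (F.divX * X + C (F.coeff 0)) = 0 := by
    rw [divX_mul_X_add]
    exact AdjoinRoot.mk_self
  rw [map_add, map_mul, AdjoinRoot.mk_X, AdjoinRoot.mk_C] at h0
  have h1 : AdjoinRoot.mk F F.divX * AdjoinRoot.root F + AdjoinRoot.of F (F.coeff 0) = 0 := h0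
  have : AdjoinRoot.of F (F.coeff 0) = AdjoinRoot.root F * (- AdjoinRoot.mk F F.divX) := by
    linear_combination h1
  rw [this]
  exact Ideal.mul_mem_right _ _ (Ideal.mem_span_singleton_self _)

theorem of_mem_span_root (F : O[X]) (hE : F.IsEisensteinAt (maximalIdeal O))
    (hpos : 0 < F.natDegree) {a : O} (ha : a ∈ maximalIdeal O) :
    AdjoinRoot.of F a ∈ Ideal.span {AdjoinRoot.root F} := by
  obtain ⟨ϖ, hϖ⟩ := IsDiscreteValuationRing.exists_irreducible O
  have hmax : maximalIdeal O = Ideal.span {ϖ} := hϖ.maximalIdeal_eq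
  have h0 := coeff_zero_mem F hE hpos
  rw [hmax, Ideal.mem_span_singleton] at h0
  obtain ⟨c, hc⟩ := h0
  have hcu : IsUnit c := by
    by_contra hnu
    have hcm : c ∈ maximalIdeal O := hnu
    rw [hmax, Ideal.mem_span_singleton] at hcm
    obtain ⟨c', rfl⟩ := hcm
    apply hE.notMem
    rw [hmax, Ideal.span_singleton_pow, Ideal.mem_span_singleton, hc]
    exact ⟨c', by ring⟩
  obtain ⟨u, rfl⟩ := hcu
  have hϖmem : AdjoinRoot.of F ϖ ∈ Ideal.span {AdjoinRoot.root F} := by
    have h1 := of_coeff_zero_mem_span_root F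
    rw [hc, map_mul] at h1
    have h2 : AdjoinRoot.of F ϖ = AdjoinRoot.of F (↑u⁻¹ : O) *
        (AdjoinRoot.of F ϖ * AdjoinRoot.of F (u : O)) := by
      rw [mul_comm (AdjoinRoot.of F ϖ), ← mul_assoc, ← map_mul, Units.inv_mul, map_one, one_mul]
    rw [h2]
    exact Ideal.mul_mem_left _ _ h1
  rw [hmax, Ideal.mem_span_singleton] at ha
  obtain ⟨a', rfl⟩ := ha
  rw [map_mul]
  exact Ideal.mul_mem_right _ _ hϖmem

theorem ker_resHom (F : O[X]) (hE : F.IsEisensteinAt (maximalIdeal O))
    (hpos : 0 < F.natDegree) :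
    RingHom.ker (resHom F hE hpos) = Ideal.span {AdjoinRoot.root F} := by
  apply le_antisymm
  · intro d hd
    rw [RingHom.mem_ker] at hd
    obtain ⟨a, q, rfl⟩ := exists_of_add_root_mul F d
    rw [map_add, map_mul, resHom_root, zero_mul, add_zero, resHom_of, residue_eq_zero_iff] at hd
    exact Ideal.add_mem _ (of_mem_span_root F hE hpos hd)
      (Ideal.mul_mem_right _ _ (Ideal.mem_span_singleton_self _))
  · rw [Ideal.span_le, Set.singleton_subset_iff]
    exact resHom_root F hE hpos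

theorem resHom_surjective (F : O[X]) (hE : F.IsEisensteinAt (maximalIdeal O))
    (hpos : 0 < F.natDegree) : Function.Surjective (resHom F hE hpos) := by
  intro x
  obtain ⟨a, rfl⟩ := residue_surjective x
  exact ⟨AdjoinRoot.of F a, resHom_of F hE hpos a⟩

theorem isMaximal_span_root (F : O[X]) (hE : F.IsEisensteinAt (maximalIdeal O))
    (hpos : 0 < F.natDegree) : (Ideal.span {AdjoinRoot.root F}).IsMaximal := by
  rw [← ker_resHom F hE hpos]
  exact RingHom.ker_isMaximal_of_surjective _ (resHom_surjective F hE hpos)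

theorem isLocalRing (F : O[X]) (hF : F.Monic) (hE : F.IsEisensteinAt (maximalIdeal O))
    (hpos : 0 < F.natDegree) :
    ∃ (_ : IsLocalRing (AdjoinRoot F)),
      maximalIdeal (AdjoinRoot F) = Ideal.span {AdjoinRoot.root F} := by
  have hmax := isMaximal_span_root F hE hpos
  haveI : Module.Finite O (AdjoinRoot F) := hF.finite_adjoinRoot
  haveI : Algebra.IsIntegral O (AdjoinRoot F) := inferInstance
  haveI : Nontrivial (AdjoinRoot F) := (isDomain F hF hE hpos).toNontrivial
  have huniq : ∀ 𝔫 : Ideal (AdjoinRoot F), 𝔫.IsMaximal →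
      𝔫 = Ideal.span {AdjoinRoot.root F} := by
    intro 𝔫 h𝔫
    have h1 : (𝔫.comap (algebraMap O (AdjoinRoot F))).IsMaximal :=
      Ideal.isMaximal_comap_of_isIntegral_of_isMaximal 𝔫
    have h2 : 𝔫.comap (algebraMap O (AdjoinRoot F)) = maximalIdeal O :=
      IsLocalRing.eq_maximalIdeal h1
    have h3 : (maximalIdeal O).map (algebraMap O (AdjoinRoot F)) ≤ 𝔫 := by
      rw [Ideal.map_le_iff_le_comap, ← h2]
    have h4 : AdjoinRoot.root F ^ F.natDegree ∈ 𝔫 := by
      apply h3
      have := hE.isWeaklyEisensteinAt.pow_natDegree_le_of_aeval_zero_of_monic_mem_map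
        (S := AdjoinRoot F) (x := AdjoinRoot.root F) (by rw [AdjoinRoot.aeval_eq, AdjoinRoot.mk_self])
        hF F.natDegree (by rw [hF.natDegree_map])
      exact this
    have h5 : AdjoinRoot.root F ∈ 𝔫 := h𝔫.isPrime.mem_of_pow_mem _ h4
    have h6 : Ideal.span {AdjoinRoot.root F} ≤ 𝔫 := by
      rw [Ideal.span_le, Set.singleton_subset_iff]
      exact h5
    exact (hmax.eq_of_le h𝔫.ne_top h6).symm
  have hloc : IsLocalRing (AdjoinRoot F) :=
    IsLocalRing.of_unique_max_ideal ⟨_, hmax, fun 𝔫 h𝔫 => huniq 𝔫 h𝔫⟩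
  exact ⟨hloc, huniq _ (maximalIdeal.isMaximal _)⟩

theorem root_ne_zero (F : O[X]) (hE : F.IsEisensteinAt (maximalIdeal O))
    (hpos : 0 < F.natDegree) : AdjoinRoot.root F ≠ 0 := by
  intro h0
  obtain ⟨ϖ, hϖ⟩ := IsDiscreteValuationRing.exists_irreducible O
  have hmem := of_mem_span_root F hE hpos
    (a := ϖ) (by rw [hϖ.maximalIdeal_eq]; exact Ideal.mem_span_singleton_self ϖ)
  rw [h0, Ideal.mem_span_singleton, zero_dvd_iff] at hmem
  exact hϖ.ne_zero (of_injective F hpos (by rw [hmem, map_zero]))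

/-- **Eisenstein extensions are DVRs.** -/
theorem adjoinRoot_dvr (F : O[X]) (hF : F.Monic) (hE : F.IsEisensteinAt (maximalIdeal O))
    (hpos : 0 < F.natDegree) :
    ∃ (_ : IsDomain (AdjoinRoot F)) (_ : IsDiscreteValuationRing (AdjoinRoot F)),
      maximalIdeal (AdjoinRoot F) = Ideal.span {AdjoinRoot.root F} ∧
      ∀ d : AdjoinRoot F, ∃ a : O, d - AdjoinRoot.of F a ∈ maximalIdeal (AdjoinRoot F) := by
  haveI hdom : IsDomain (AdjoinRoot F) := isDomain F hF hE hpos
  obtain ⟨hloc, hmax⟩ := isLocalRing F hF hE hpos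
  haveI : Module.Finite O (AdjoinRoot F) := hF.finite_adjoinRoot
  haveI : IsNoetherianRing (AdjoinRoot F) := IsNoetherianRing.of_finite O (AdjoinRoot F)
  have hnf : ¬ IsField (AdjoinRoot F) := by
    rw [IsLocalRing.isField_iff_maximalIdeal_eq, hmax, Ideal.span_singleton_eq_bot]
    exact root_ne_zero F hE hpos
  have hprin : (maximalIdeal (AdjoinRoot F)).IsPrincipal := ⟨⟨_, hmax⟩⟩
  have hdvr : IsDiscreteValuationRing (AdjoinRoot F) :=
    ((IsDiscreteValuationRing.TFAE (AdjoinRoot F) hnf).out 4 0).mp hprin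
  refine ⟨hdom, hdvr, hmax, fun d => ?_⟩
  obtain ⟨a, q, rfl⟩ := exists_of_add_root_mul F d
  refine ⟨a, ?_⟩
  rw [add_sub_cancel_left, hmax]
  exact Ideal.mul_mem_right _ _ (Ideal.mem_span_singleton_self _)

end Groth.Agent.Lib.Helper9.Eisenstein
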