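import Mathlib
import Groth.Prelude.Def_EtRam
import Groth.Agent.Lib.Helper9.Eisenstein
import Groth.Agent.Lib.Helper9.DVRExt

/-!
# The totally ramified extension attached to an Eisenstein polynomial
-/

universe u

namespace Groth.Agent.Lib.Helper9.EisensteinField

open Polynomial IsLocalRing IntermediateField Groth.Agent.Lib.Helper9

/-- `X ^ q - G` is monic Eisenstein of degree `q` when `G` has degree `< q`, coefficients in the
maximal ideal and constant coefficient outside its square. -/
theorem isEisensteinAt_X_pow_sub {O : Type u} [CommRing O] [IsLocalRing O] (q : ℕ) (G : O[X])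
    (hdeg : G.degree < q) (hmem : ∀ i, G.coeff i ∈ maximalIdeal O)
    (hnot : G.coeff 0 ∉ maximalIdeal O ^ 2) (hq : 0 < q) :
    (X ^ q - G : O[X]).Monic ∧ (X ^ q - G : O[X]).natDegree = q ∧
      (X ^ q - G : O[X]).IsEisensteinAt (maximalIdeal O) := by
  have hmonic : (X ^ q - G : O[X]).Monic := monic_X_pow_sub hdeg
  have hnat : (X ^ q - G : O[X]).natDegree = q := by
    have h1 : G.degree < (X ^ q : O[X]).degree := by rwa [degree_X_pow]
    rw [natDegree_eq_of_degree_eq_some]
    rw [degree_sub_eq_left_of_degree_lt h1, degree_X_pow]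
  refine ⟨hmonic, hnat, hmonic.isEisensteinAt_of_mem_of_notMem (maximalIdeal.isMaximal O).ne_top
    ?_ ?_⟩
  · intro i hi
    rw [hnat] at hi
    rw [coeff_sub, coeff_X_pow, if_neg hi.ne, zero_sub]
    exact neg_mem (hmem i)
  · rw [coeff_sub, coeff_X_pow, if_neg hq.ne, zero_sub]
    intro h
    apply hnot
    have := neg_mem h
    rwa [neg_neg] at this

set_option maxHeartbeats 2000000 in
/-- The field extension attached to a monic Eisenstein polynomial with separable generic fibre. -/
theorem exists_ext (A K : Type u) [CommRing A] [IsDomain A] [IsDiscreteValuationRing A] [Field K]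
    [Algebra A K] [IsFractionRing A K] (F : A[X]) (hF : F.Monic)
    (hE : F.IsEisensteinAt (maximalIdeal A)) (hpos : 0 < F.natDegree)
    (hsep : (F.map (algebraMap A K)).Separable) :
    ∃ (L : Type u) (_ : Field L) (_ : Algebra K L) (_ : Algebra A L) (_ : IsScalarTower A K L)
      (j : AdjoinRoot F →+* L),
      Module.finrank K L = F.natDegree ∧ Algebra.IsSeparable K L ∧
      EtRam.IsTotallyRamified A (algebraMap A L) ∧ (∀ d, j d ∈ integralClosure A L) ∧
      (∀ a, j (AdjoinRoot.of F a) = algebraMap A L a) ∧ Function.Injective j := by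
  classical
  obtain ⟨hdom, hdvr, hmax, hres⟩ := Eisenstein.adjoinRoot_dvr F hF hE hpos
  haveI := hdom
  haveI := hdvr
  haveI : Module.Finite A (AdjoinRoot F) := hF.finite_adjoinRoot
  haveI : Algebra.IsIntegral A (AdjoinRoot F) := inferInstance
  have halg : algebraMap A (AdjoinRoot F) = AdjoinRoot.of F := AdjoinRoot.algebraMap_eq F
  have hinjAD : Function.Injective (algebraMap A (AdjoinRoot F)) := by
    rw [halg]
    exact Eisenstein.of_injective F hpos
  have hinjAL : Function.Injective (algebraMap A (FractionRing (AdjoinRoot F))) := by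
    rw [IsScalarTower.algebraMap_eq A (AdjoinRoot F) (FractionRing (AdjoinRoot F))]
    exact (IsFractionRing.injective (AdjoinRoot F) (FractionRing (AdjoinRoot F))).comp hinjAD
  letI algKL : Algebra K (FractionRing (AdjoinRoot F)) := (IsFractionRing.lift hinjAL).toAlgebra
  haveI tow : IsScalarTower A K (FractionRing (AdjoinRoot F)) :=
    IsScalarTower.of_algebraMap_eq (fun a => (IsFractionRing.lift_algebraMap hinjAL a).symm)
  haveI hloc : IsLocalHom (algebraMap A (AdjoinRoot F)) := by
    refine ⟨fun a ha => ?_⟩
    by_contra hnu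
    have hmem : a ∈ maximalIdeal A := hnu
    have := Eisenstein.of_mem_span_root F hE hpos hmem
    rw [← hmax, ← halg] at this
    exact this ha
  have hres' : ∀ d : AdjoinRoot F, ∃ a : A, d - algebraMap A (AdjoinRoot F) a ∈
      maximalIdeal (AdjoinRoot F) := by
    intro d
    obtain ⟨a, ha⟩ := hres d
    exact ⟨a, by rw [halg]; exact ha⟩
  have hfin : Module.finrank K (FractionRing (AdjoinRoot F)) = F.natDegree := by
    rw [IsFractionRing.finrank_eq A K (AdjoinRoot F) (FractionRing (AdjoinRoot F)),
      (AdjoinRoot.powerBasis' hF).finrank, AdjoinRoot.powerBasis'_dim]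
  haveI : FiniteDimensional K (FractionRing (AdjoinRoot F)) :=
    Module.finite_of_finrank_pos (by rw [hfin]; exact hpos)
  refine ⟨FractionRing (AdjoinRoot F), inferInstance, algKL, inferInstance, tow,
    algebraMap (AdjoinRoot F) (FractionRing (AdjoinRoot F)), hfin, ?_,
    DVRExt.isTotallyRamified_of_model A (AdjoinRoot F) (FractionRing (AdjoinRoot F)) hinjAD hres',
    fun d => ?_, fun a => ?_, IsFractionRing.injective _ _⟩
  · -- separability
    set t : FractionRing (AdjoinRoot F) :=
      algebraMap (AdjoinRoot F) (FractionRing (AdjoinRoot F)) (AdjoinRoot.root F) with ht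
    have hirr : Irreducible F := Eisenstein.irreducible F hF hE hpos
    have hirrK : Irreducible (F.map (algebraMap A K)) :=
      (hF.irreducible_iff_irreducible_map_fraction_map (K := K)).mp hirr
    have hroot : aeval t (F.map (algebraMap A K)) = 0 := by
      rw [aeval_map_algebraMap, ht, aeval_algebraMap_apply, AdjoinRoot.aeval_eq,
        AdjoinRoot.mk_self, map_zero]
    have hmin : F.map (algebraMap A K) = minpoly K t :=
      minpoly.eq_of_irreducible_of_monic hirrK hroot (hF.map _)
    have hsept : IsSeparable K t := by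
      unfold IsSeparable
      rw [← hmin]
      exact hsep
    have htop : K⟮t⟯ = ⊤ := by
      rw [Field.primitive_element_iff_minpoly_natDegree_eq, ← hmin, hF.natDegree_map, hfin]
    rw [← separableClosure.eq_top_iff, eq_top_iff, ← htop,
      IntermediateField.adjoin_simple_le_iff, mem_separableClosure_iff]
    exact hsept
  · exact (Algebra.IsIntegral.isIntegral (R := A) d).map
      (IsScalarTower.toAlgHom A (AdjoinRoot F) (FractionRing (AdjoinRoot F)))
  · rw [← halg, ← IsScalarTower.algebraMap_apply]

set_option maxHeartbeats 2000000 in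
/-- Variant of `exists_ext` recording that the extension is generated by the image of
`AdjoinRoot F`. -/
theorem exists_ext' (A K : Type u) [CommRing A] [IsDomain A] [IsDiscreteValuationRing A] [Field K]
    [Algebra A K] [IsFractionRing A K] (F : A[X]) (hF : F.Monic)
    (hE : F.IsEisensteinAt (maximalIdeal A)) (hpos : 0 < F.natDegree)
    (hsep : (F.map (algebraMap A K)).Separable) :
    ∃ (L : Type u) (_ : Field L) (_ : Algebra K L) (_ : Algebra A L) (_ : IsScalarTower A K L)
      (j : AdjoinRoot F →+* L),
      Module.finrank K L = F.natDegree ∧ Algebra.IsSeparable K L ∧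
      EtRam.IsTotallyRamified A (algebraMap A L) ∧ (∀ d, j d ∈ integralClosure A L) ∧
      (∀ a, j (AdjoinRoot.of F a) = algebraMap A L a) ∧ Function.Injective j ∧
      (∀ E : Subfield L, (∀ d, j d ∈ E) → E = ⊤) := by
  classical
  obtain ⟨hdom, hdvr, hmax, hres⟩ := Eisenstein.adjoinRoot_dvr F hF hE hpos
  haveI := hdom
  haveI := hdvr
  haveI : Module.Finite A (AdjoinRoot F) := hF.finite_adjoinRoot
  haveI : Algebra.IsIntegral A (AdjoinRoot F) := inferInstance
  have halg : algebraMap A (AdjoinRoot F) = AdjoinRoot.of F := AdjoinRoot.algebraMap_eq F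
  have hinjAD : Function.Injective (algebraMap A (AdjoinRoot F)) := by
    rw [halg]
    exact Eisenstein.of_injective F hpos
  have hinjAL : Function.Injective (algebraMap A (FractionRing (AdjoinRoot F))) := by
    rw [IsScalarTower.algebraMap_eq A (AdjoinRoot F) (FractionRing (AdjoinRoot F))]
    exact (IsFractionRing.injective (AdjoinRoot F) (FractionRing (AdjoinRoot F))).comp hinjAD
  letI algKL : Algebra K (FractionRing (AdjoinRoot F)) := (IsFractionRing.lift hinjAL).toAlgebra
  haveI tow : IsScalarTower A K (FractionRing (AdjoinRoot F)) :=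
    IsScalarTower.of_algebraMap_eq (fun a => (IsFractionRing.lift_algebraMap hinjAL a).symm)
  haveI hloc : IsLocalHom (algebraMap A (AdjoinRoot F)) := by
    refine ⟨fun a ha => ?_⟩
    by_contra hnu
    have hmem : a ∈ maximalIdeal A := hnu
    have := Eisenstein.of_mem_span_root F hE hpos hmem
    rw [← hmax, ← halg] at this
    exact this ha
  have hres' : ∀ d : AdjoinRoot F, ∃ a : A, d - algebraMap A (AdjoinRoot F) a ∈
      maximalIdeal (AdjoinRoot F) := by
    intro d
    obtain ⟨a, ha⟩ := hres d
    exact ⟨a, by rw [halg]; exact ha⟩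
  have hfin : Module.finrank K (FractionRing (AdjoinRoot F)) = F.natDegree := by
    rw [IsFractionRing.finrank_eq A K (AdjoinRoot F) (FractionRing (AdjoinRoot F)),
      (AdjoinRoot.powerBasis' hF).finrank, AdjoinRoot.powerBasis'_dim]
  haveI : FiniteDimensional K (FractionRing (AdjoinRoot F)) :=
    Module.finite_of_finrank_pos (by rw [hfin]; exact hpos)
  refine ⟨FractionRing (AdjoinRoot F), inferInstance, algKL, inferInstance, tow,
    algebraMap (AdjoinRoot F) (FractionRing (AdjoinRoot F)), hfin, ?_,
    DVRExt.isTotallyRamified_of_model A (AdjoinRoot F) (FractionRing (AdjoinRoot F)) hinjAD hres',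
    fun d => ?_, fun a => ?_, IsFractionRing.injective _ _, fun E hE => ?_⟩
  · -- separability
    set t : FractionRing (AdjoinRoot F) :=
      algebraMap (AdjoinRoot F) (FractionRing (AdjoinRoot F)) (AdjoinRoot.root F) with ht
    have hirr : Irreducible F := Eisenstein.irreducible F hF hE hpos
    have hirrK : Irreducible (F.map (algebraMap A K)) :=
      (hF.irreducible_iff_irreducible_map_fraction_map (K := K)).mp hirr
    have hroot : aeval t (F.map (algebraMap A K)) = 0 := by
      rw [aeval_map_algebraMap, ht, aeval_algebraMap_apply, AdjoinRoot.aeval_eq,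
        AdjoinRoot.mk_self, map_zero]
    have hmin : F.map (algebraMap A K) = minpoly K t :=
      minpoly.eq_of_irreducible_of_monic hirrK hroot (hF.map _)
    have hsept : IsSeparable K t := by
      unfold IsSeparable
      rw [← hmin]
      exact hsep
    have htop : K⟮t⟯ = ⊤ := by
      rw [Field.primitive_element_iff_minpoly_natDegree_eq, ← hmin, hF.natDegree_map, hfin]
    rw [← separableClosure.eq_top_iff, eq_top_iff, ← htop,
      IntermediateField.adjoin_simple_le_iff, mem_separableClosure_iff]
    exact hsept
  · exact (Algebra.IsIntegral.isIntegral (R := A) d).map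
      (IsScalarTower.toAlgHom A (AdjoinRoot F) (FractionRing (AdjoinRoot F)))
  · rw [← halg, ← IsScalarTower.algebraMap_apply]
  · rw [eq_top_iff]
    intro l _
    obtain ⟨b, s, _, rfl⟩ := IsFractionRing.div_surjective (A := AdjoinRoot F) l
    exact div_mem (hE b) (hE s)


end Groth.Agent.Lib.Helper9.EisensteinField
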