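import Mathlib
import Groth.Agent.Lib.Helper9.DedekindEtale
import Groth.Agent.Lib.Helper9.SepRes
import Groth.Agent.Lib.Helper9.DVRExt

/-!
# Localizing an étale algebra over a DVR along a map to a valuation ring

Given a DVR `V`, an étale `V`-algebra `C` and a ring map `φ : C → V'` to a valuation subring
`V'` of a field such that `V → C → V'` is local and injective, the localization of `C` at the
preimage of the maximal ideal of `V'` is a DVR `D`, unramified over `V`, with an injective local map
`D → V'`.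
-/

universe u

namespace Groth.Agent.Lib.Helper9.EtaleLocalDVR

open IsLocalRing Groth.Agent.Lib.Helper9

set_option maxHeartbeats 2000000 in
theorem exists_local_dvr (V C : Type u) [CommRing V] [IsDomain V] [IsDiscreteValuationRing V]
    [CommRing C] [Algebra V C] [Algebra.Etale V C] {L' : Type u} [Field L']
    (V' : ValuationSubring L') (ιV : V →+* V') [IsLocalHom ιV] (hιinj : Function.Injective ιV)
    (φ : C →+* V') (hφ : ∀ v, φ (algebraMap V C v) = ιV v) {ϖ : V} (hϖ : Irreducible ϖ) :
    ∃ (D : Type u) (_ : CommRing D) (_ : IsDomain D) (_ : IsDiscreteValuationRing D)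
      (_ : Algebra V D) (_ : Algebra C D) (_ : IsScalarTower V C D) (χ : D →+* V')
      (_ : IsLocalHom (algebraMap V D)) (_ : IsLocalHom χ),
      Irreducible (algebraMap V D ϖ) ∧ SepRes (algebraMap V D) ∧ Function.Injective χ ∧
      (∀ c, χ (algebraMap C D c) = φ c) ∧
      (∀ d : D, ∃ c s : C, φ s ≠ 0 ∧ χ d * φ s = φ c) := by
  classical
  let 𝔮 : Ideal C := (maximalIdeal V').comap φ
  haveI h𝔮 : 𝔮.IsPrime := Ideal.comap_isPrime φ (maximalIdeal V')
  have hunits : ∀ y : 𝔮.primeCompl, IsUnit (φ y) := by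
    intro y
    by_contra hnu
    exact y.2 hnu
  let χ : Localization.AtPrime 𝔮 →+* V' := IsLocalization.lift (M := 𝔮.primeCompl) hunits
  have hχ : ∀ t, χ (algebraMap _ (Localization.AtPrime 𝔮) t) = φ t :=
    fun t => IsLocalization.lift_eq hunits t
  have hχB : ∀ b : V, χ (algebraMap V (Localization.AtPrime 𝔮) b) = ιV b := by
    intro b
    rw [IsScalarTower.algebraMap_apply V C (Localization.AtPrime 𝔮), hχ, hφ]
  have hunder : 𝔮.under V = maximalIdeal V := by
    ext b
    rw [Ideal.under_def, Ideal.mem_comap]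
    show φ (algebraMap V _ b) ∈ maximalIdeal V' ↔ _
    rw [hφ]
    constructor
    · intro hb
      by_contra hnb
      have hu : IsUnit b := by
        rw [mem_maximalIdeal, mem_nonunits_iff, not_not] at hnb
        exact hnb
      exact hb (hu.map ιV)
    · intro hb
      exact map_nonunit ιV b hb
  haveI hCdom : IsDomain (Localization.AtPrime 𝔮) := isDomain_localization_of_etale V C 𝔮
  have hmaxC : maximalIdeal (Localization.AtPrime 𝔮) =
      (maximalIdeal V).map (algebraMap V (Localization.AtPrime 𝔮)) := by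
    rw [← hunder]
    exact maximalIdeal_eq_map_under_of_etale V C 𝔮
  have hπC0 : algebraMap V (Localization.AtPrime 𝔮) ϖ ≠ 0 := by
    intro h0
    have := hχB ϖ
    rw [h0, map_zero] at this
    exact hϖ.ne_zero (hιinj (by rw [← this, map_zero]))
  have hnfC : ¬ IsField (Localization.AtPrime 𝔮) := by
    rw [IsLocalRing.isField_iff_maximalIdeal_eq, hmaxC, hϖ.maximalIdeal_eq, Ideal.map_span,
      Set.image_singleton, Ideal.span_singleton_eq_bot]
    exact hπC0
  obtain ⟨_, hCdvr⟩ := isDiscreteValuationRing_localization_of_etale V C 𝔮 hnfC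
  haveI := hCdvr
  haveI : Algebra.EssFiniteType C (Localization.AtPrime 𝔮) :=
    Algebra.EssFiniteType.of_isLocalization _ 𝔮.primeCompl
  haveI : Algebra.EssFiniteType V (Localization.AtPrime 𝔮) :=
    Algebra.EssFiniteType.comp V C (Localization.AtPrime 𝔮)
  haveI : Algebra.FormallyUnramified C (Localization.AtPrime 𝔮) :=
    Algebra.FormallyUnramified.of_isLocalization 𝔮.primeCompl
  haveI : Algebra.FormallyUnramified V (Localization.AtPrime 𝔮) :=
    Algebra.FormallyUnramified.comp V C (Localization.AtPrime 𝔮)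
  haveI hlocBC : IsLocalHom (algebraMap V (Localization.AtPrime 𝔮)) := by
    refine ⟨fun b hb => ?_⟩
    have hb' : IsUnit (χ (algebraMap V (Localization.AtPrime 𝔮) b)) := hb.map χ
    rw [hχB] at hb'
    exact isUnit_of_map_unit ιV b hb'
  have hϖirr : Irreducible (algebraMap V (Localization.AtPrime 𝔮) ϖ) := by
    rw [IsDiscreteValuationRing.irreducible_iff_uniformizer, hmaxC, hϖ.maximalIdeal_eq,
      Ideal.map_span, Set.image_singleton]
  have hχϖ : ¬ IsUnit (χ (algebraMap V (Localization.AtPrime 𝔮) ϖ)) := by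
    rw [hχB]
    exact map_nonunit ιV ϖ
      (by rw [hϖ.maximalIdeal_eq]; exact Ideal.mem_span_singleton_self ϖ)
  have hχϖ0 : χ (algebraMap V (Localization.AtPrime 𝔮) ϖ) ≠ 0 := by
    rw [hχB]
    intro h0
    exact hϖ.ne_zero (hιinj (by rw [h0, map_zero]))
  have hχinj : Function.Injective χ := DVRExt.injective_of_uniformizer χ hϖirr hχϖ0
  have hlocχ : IsLocalHom χ := DVRExt.isLocalHom_of_uniformizer χ hϖirr hχϖ
  have hsep : SepRes (algebraMap V (Localization.AtPrime 𝔮)) := by
    rw [SepRes.iff_isSeparable]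
    infer_instance
  refine ⟨Localization.AtPrime 𝔮, inferInstance, hCdom, hCdvr, inferInstance, inferInstance,
    inferInstance, χ, hlocBC, hlocχ, hϖirr, hsep, hχinj, hχ, fun d => ?_⟩
  obtain ⟨c, s, rfl⟩ := IsLocalization.exists_mk'_eq 𝔮.primeCompl d
  refine ⟨c, s, (hunits s).ne_zero, ?_⟩
  rw [← hχ, ← hχ, ← map_mul, IsLocalization.mk'_spec]

end Groth.Agent.Lib.Helper9.EtaleLocalDVR
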