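import Mathlib
import Groth.Agent.Lib.Helper9.EtaleLocalDVR
import Groth.Agent.Lib.Helper9.Eisenstein
import Groth.Agent.Lib.Helper9.EisensteinField

/-!
# The structure of Kummer extensions of a DVR

Let `V` be a DVR with uniformizer `ϖ`, `V'` a valuation subring of a field `L'` dominating `V`,
and `z ∈ L'` with `z ^ (c e₁) = u ϖ ^ (c a₁)` where `u` is a unit, `c` is invertible in the residue
field and `e₁, a₁` are coprime.  If `L'` is generated by `V` and `z` then `V'` is a DVR with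
ramification index `e₁` and separable residue field extension.
-/

universe u

namespace Groth.Agent.Lib.Helper9.Kummer

open Polynomial IsLocalRing Groth.Agent.Lib.Helper9

theorem exists_bezout_nat {e₁ a₁ : ℕ} (he₁ : 0 < e₁) (ha₁ : 0 < a₁) (hcop : Nat.Coprime e₁ a₁) :
    ∃ r s : ℕ, r * a₁ = 1 + s * e₁ := by
  rcases Nat.lt_or_ge 1 e₁ with h | h
  · obtain ⟨m, -, hm⟩ := Nat.exists_mul_mod_eq_one_of_coprime hcop.symm h
    refine ⟨m, a₁ * m / e₁, ?_⟩
    have := Nat.div_add_mod (a₁ * m) e₁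
    rw [hm] at this
    rw [mul_comm m a₁, mul_comm _ e₁]
    omega
  · have : e₁ = 1 := by omega
    subst this
    exact ⟨1, a₁ - 1, by omega⟩

/-- The standard étale pair `(X ^ c - u, 1)` for `c` and `u` invertible. -/
noncomputable def kummerPair (V : Type u) [CommRing V] (c : ℕ) (hc : 0 < c) (u : V) (w : V)
    (hw : w * ((c : V) * u) = 1) : StandardEtalePair V where
  f := X ^ c - C u
  monic_f := monic_X_pow_sub_C _ hc.ne'
  g := 1
  cond := ⟨C w * X, - (C w * C (c : V)), 0, by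
    obtain ⟨c', rfl⟩ := Nat.exists_eq_succ_of_ne_zero hc.ne'
    rw [derivative_sub, derivative_C, sub_zero, derivative_X_pow, pow_zero]
    have h1 : (C w * C ((c' + 1 : ℕ) : V) * C u : V[X]) = 1 := by
      rw [← C_mul, ← C_mul, mul_assoc, hw, C_1]
    simp only [Nat.succ_eq_add_one, Nat.add_sub_cancel] at h1 ⊢
    linear_combination h1⟩

theorem SepRes.congr {R S : Type*} [CommRing R] [IsLocalRing R] [CommRing S] [IsLocalRing S]
    {f g : R →+* S} [IsLocalHom f] [IsLocalHom g] (h : f = g) (hf : SepRes f) : SepRes g := by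
  subst h
  exact hf

set_option maxHeartbeats 4000000 in
/-- **Structure of Kummer extensions of a DVR.** -/
theorem kummer_structure (V : Type u) [CommRing V] [IsDomain V] [IsDiscreteValuationRing V]
    {L' : Type u} [Field L'] (V' : ValuationSubring L') (ιV : V →+* V') [IsLocalHom ιV]
    (hιinj : Function.Injective ιV) {ϖ : V} (hϖ : Irreducible ϖ) (u : Vˣ)
    (z : L') (c e₁ a₁ : ℕ) (hc : 0 < c) (he₁ : 0 < e₁) (ha₁ : 0 < a₁) (hcop : Nat.Coprime e₁ a₁)
    (hcres : (c : ResidueField V) ≠ 0)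
    (hz : z ^ (c * e₁) = ((ιV u : V') : L') * ((ιV ϖ : V') : L') ^ (c * a₁))
    (hgen : ∀ E : Subfield L', (∀ v, ((ιV v : V') : L') ∈ E) → z ∈ E → E = ⊤) :
    IsDiscreteValuationRing V' ∧ SepRes ιV ∧
      ∃ (t : V') (y₁ y₂ : V'ˣ), Irreducible t ∧ ιV ϖ = y₁ * t ^ e₁ ∧
        z = ((y₂ : V') : L') * (t : L') ^ a₁ := by
  classical
  have hιϖ0 : ιV ϖ ≠ 0 := fun h => hϖ.ne_zero (hιinj (by rw [h, map_zero]))
  have hιu0 : ιV u ≠ 0 := fun h => u.ne_zero (hιinj (by rw [h, map_zero]))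
  set P : L' := ((ιV ϖ : V') : L') with hP
  set U : L' := ((ιV u : V') : L') with hU
  have hP0 : P ≠ 0 := fun h => hιϖ0 (Subtype.ext h)
  have hU0 : U ≠ 0 := fun h => hιu0 (Subtype.ext h)
  have hz0 : z ≠ 0 := by
    intro h
    rw [h, zero_pow (Nat.mul_ne_zero hc.ne' he₁.ne')] at hz
    exact (mul_ne_zero hU0 (pow_ne_zero _ hP0)) hz.symm
  obtain ⟨r, s, hrs⟩ := exists_bezout_nat he₁ ha₁ hcop
  -- the element `y`
  set y : L' := z ^ e₁ / P ^ a₁ with hy
  have hyc : y ^ c = U := by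
    rw [hy, div_pow, ← pow_mul, ← pow_mul, mul_comm e₁ c, mul_comm a₁ c, hz, mul_div_assoc,
      div_self (pow_ne_zero _ hP0), mul_one]
  have hy0 : y ≠ 0 := div_ne_zero (pow_ne_zero _ hz0) (pow_ne_zero _ hP0)
  -- the element `t`
  set t : L' := z ^ r / P ^ s with ht
  have ht0 : t ≠ 0 := div_ne_zero (pow_ne_zero _ hz0) (pow_ne_zero _ hP0)
  have hte : t ^ e₁ = y ^ r * P := by
    rw [ht, hy, div_pow, div_pow, ← pow_mul, ← pow_mul, ← pow_mul, ← pow_mul]
    rw [div_mul_eq_mul_div, div_eq_div_iff (pow_ne_zero _ hP0) (pow_ne_zero _ hP0)]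
    have h1 : a₁ * r = 1 + s * e₁ := by rw [mul_comm]; exact hrs
    rw [h1, mul_comm e₁ r, pow_add, pow_one]
    ring
  have hta : t ^ a₁ = z * y ^ s := by
    rw [ht, hy, div_pow, div_pow, ← pow_mul, ← pow_mul, ← pow_mul, ← pow_mul]
    rw [mul_div_assoc', div_eq_div_iff (pow_ne_zero _ hP0) (pow_ne_zero _ hP0)]
    rw [hrs, pow_add, pow_one, mul_comm e₁ s, mul_comm a₁ s]
  -- valuations
  have hUval : V'.valuation U = 1 := (V'.valuation_eq_one_iff (ιV u)).mp (u.isUnit.map ιV)
  have hyval : V'.valuation y = 1 := by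
    have h1 : V'.valuation y ^ c = 1 := by rw [← map_pow, hyc, hUval]
    rcases pow_eq_one_iff.mp h1 with h | h
    · exact h
    · exact absurd h hc.ne'
  have hymem : y ∈ V' := (V'.valuation_le_one_iff y).mp hyval.le
  let yV : V' := ⟨y, hymem⟩
  have hyunit : IsUnit yV := (V'.valuation_eq_one_iff yV).mpr hyval
  have hϖmem : ϖ ∈ maximalIdeal V := by
    rw [hϖ.maximalIdeal_eq]; exact Ideal.mem_span_singleton_self ϖ
  have hPval : V'.valuation P < 1 :=
    (V'.valuation_lt_one_iff (ιV ϖ)).mp (map_nonunit ιV ϖ hϖmem)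
  have htval : V'.valuation t < 1 := by
    have h1 : V'.valuation t ^ e₁ < 1 := by
      rw [← map_pow, hte, map_mul, map_pow, hyval, one_pow, one_mul]
      exact hPval
    exact (pow_lt_one_iff he₁.ne').mp h1
  have htmem : t ∈ V' := (V'.valuation_le_one_iff t).mp htval.le
  let tV : V' := ⟨t, htmem⟩
  have htV0 : tV ≠ 0 := fun h => ht0 (congrArg Subtype.val h)
  have htnu : ¬ IsUnit tV := fun h => htval.ne ((V'.valuation_eq_one_iff tV).mp h)
  have hteV : tV ^ e₁ = yV ^ r * ιV ϖ := Subtype.ext hte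
  -- the étale algebra
  letI algVV' : Algebra V V' := ιV.toAlgebra
  have hcunit : IsUnit ((c : ℕ) : V) := by
    by_contra hnu
    have hmem : ((c : ℕ) : V) ∈ maximalIdeal V := hnu
    rw [← residue_eq_zero_iff, map_natCast] at hmem
    exact hcres hmem
  obtain ⟨w, hw⟩ := (hcunit.mul u.isUnit).exists_left_inv
  let PE : StandardEtalePair V := kummerPair V c hc u w hw
  have hPEf : PE.f = X ^ c - C (u : V) := rfl
  have hPEg : PE.g = 1 := rfl
  have hmap : PE.HasMap yV := by
    refine ⟨?_, ?_⟩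
    · rw [hPEf, map_sub, map_pow, aeval_X, aeval_C]
      apply Subtype.ext
      show y ^ c - U = 0
      rw [hyc, sub_self]
    · rw [hPEg, map_one]
      exact isUnit_one
  let φ : PE.Ring →+* V' := (PE.lift yV hmap).toRingHom
  have hφ : ∀ v, φ (algebraMap V PE.Ring v) = ιV v := fun v => (PE.lift yV hmap).commutes v
  have hφX : φ PE.X = yV := PE.lift_X yV hmap
  obtain ⟨D, iD1, iD2, iD3, iD4, iD5, iD6, χ, hlocVD, hlocχ, hϖD, hsepD, hχinj, hχφ, hχfrac⟩ :=
    EtaleLocalDVR.exists_local_dvr V PE.Ring V' ιV hιinj φ hφ hϖ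
  have hχV : ∀ v, χ (algebraMap V D v) = ιV v := by
    intro v
    rw [IsScalarTower.algebraMap_apply V PE.Ring D, hχφ, hφ]
  set T : D := algebraMap PE.Ring D PE.X with hT
  have hχT : χ T = yV := by rw [hT, hχφ, hφX]
  have hTunit : IsUnit T := isUnit_of_map_unit χ T (by rw [hχT]; exact hyunit)
  set ϖD : D := algebraMap V D ϖ with hϖDdef
  have hmaxD : maximalIdeal D = Ideal.span {ϖD} := hϖD.maximalIdeal_eq
  have hϖDmem : ϖD ∈ maximalIdeal D := by
    rw [hmaxD]; exact Ideal.mem_span_singleton_self _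
  -- the Eisenstein polynomial
  have hxmem : T ^ r * ϖD ∈ maximalIdeal D := Ideal.mul_mem_left _ _ hϖDmem
  have hxnot : T ^ r * ϖD ∉ maximalIdeal D ^ 2 := by
    rw [hmaxD, Ideal.span_singleton_pow, Ideal.mem_span_singleton]
    rintro ⟨d, hd⟩
    have h1 : ϖD * T ^ r = ϖD * (ϖD * d) := by
      rw [mul_comm ϖD (T ^ r), hd]; ring
    have h2 := mul_left_cancel₀ hϖD.ne_zero h1
    exact hϖD.not_isUnit (isUnit_of_dvd_unit ⟨d, h2⟩ (hTunit.pow r))
  obtain ⟨hmonic, hnat, hE⟩ := EisensteinField.isEisensteinAt_X_pow_sub (O := D) e₁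
    (C (T ^ r * ϖD)) (degree_C_le.trans_lt (by exact_mod_cast he₁))
    (fun i => by
      rw [coeff_C]
      split_ifs
      · exact hxmem
      · exact zero_mem _)
    (by rw [coeff_C_zero]; exact hxnot) he₁
  set F : D[X] := X ^ e₁ - C (T ^ r * ϖD) with hFdef
  have hpos : 0 < F.natDegree := by rw [hnat]; exact he₁
  obtain ⟨hdom₂, hdvr₂, hmax₂, hres₂⟩ := Eisenstein.adjoinRoot_dvr F hmonic hE hpos
  haveI := hdom₂
  haveI := hdvr₂
  have heval : F.eval₂ χ tV = 0 := by
    rw [hFdef, eval₂_sub, eval₂_pow, eval₂_X, eval₂_C, map_mul, map_pow, hχT, hχV, hteV, sub_self]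
  let Φ : AdjoinRoot F →+* V' := AdjoinRoot.lift χ tV heval
  have hΦroot : Φ (AdjoinRoot.root F) = tV := AdjoinRoot.lift_root heval
  have hΦof : ∀ d, Φ (AdjoinRoot.of F d) = χ d := fun d => AdjoinRoot.lift_of heval
  have hrootirr : Irreducible (AdjoinRoot.root F) :=
    (IsDiscreteValuationRing.irreducible_iff_uniformizer _).mpr hmax₂
  haveI hlocΦ : IsLocalHom Φ :=
    DVRExt.isLocalHom_of_uniformizer Φ hrootirr (by rw [hΦroot]; exact htnu)
  have hΦinj : Function.Injective Φ :=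
    DVRExt.injective_of_uniformizer Φ hrootirr (by rw [hΦroot]; exact htV0)
  have hΦgen : ∀ E : Subfield L', (∀ d : AdjoinRoot F, ((Φ d : V') : L') ∈ E) → E = ⊤ := by
    intro E hE
    apply hgen E
    · intro v
      have := hE (AdjoinRoot.of F (algebraMap V D v))
      rwa [hΦof, hχV] at this
    · have h1 : t ∈ E := by
        have := hE (AdjoinRoot.root F)
        rwa [hΦroot] at this
      have h2 : y ∈ E := by
        have := hE (AdjoinRoot.of F T)
        rwa [hΦof, hχT] at this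
      have h3 : z = t ^ a₁ / y ^ s := by
        rw [hta, mul_div_assoc, div_self (pow_ne_zero _ hy0), mul_one]
      rw [h3]
      exact div_mem (pow_mem h1 _) (pow_mem h2 _)
  have hΦbij : Function.Bijective Φ := DVRExt.bijective_of_generates V' Φ hΦinj hΦgen
  let eΦ : AdjoinRoot F ≃+* V' := RingEquiv.ofBijective Φ hΦbij
  have hdvrV' : IsDiscreteValuationRing V' :=
    IsDiscreteValuationRing.RingEquivClass.isDiscreteValuationRing eΦ
  -- separability of the residue field extension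
  haveI hlocof : IsLocalHom (AdjoinRoot.of F) := by
    refine ⟨fun a ha => ?_⟩
    by_contra hnu
    have hmem : a ∈ maximalIdeal D := hnu
    have := Eisenstein.of_mem_span_root F hE hpos hmem
    rw [← hmax₂] at this
    exact this ha
  have hsep1 : SepRes (AdjoinRoot.of F) := SepRes.of_residue_surjective _ hres₂
  have hsep2 : SepRes Φ := SepRes.of_bijective Φ hΦbij.2
  have hcomp : (Φ.comp (AdjoinRoot.of F)).comp (algebraMap V D) = ιV := by
    ext v
    simp only [RingHom.comp_apply]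
    rw [hΦof, hχV]
  have hsepV : SepRes ιV :=
    SepRes.congr hcomp ((hsepD.comp _ _ hsep1).comp _ _ hsep2 |> fun h => by
      simpa [RingHom.comp_assoc] using h)
  refine ⟨hdvrV', hsepV, tV, (hyunit.unit ^ r)⁻¹, (hyunit.unit ^ s)⁻¹, ?_, ?_, ?_⟩
  · have : tV = eΦ (AdjoinRoot.root F) := hΦroot.symm
    rw [this]
    exact (MulEquiv.irreducible_iff eΦ).mpr hrootirr
  · rw [hteV, ← mul_assoc]
    have : (((hyunit.unit ^ r)⁻¹ : V'ˣ) : V') * yV ^ r = 1 := by
      have h1 : yV ^ r = ((hyunit.unit ^ r : V'ˣ) : V') := by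
        rw [Units.val_pow_eq_pow_val, IsUnit.unit_spec]
      rw [h1, Units.inv_mul]
    rw [this, one_mul]
  · have h1 : ((((hyunit.unit ^ s)⁻¹ : V'ˣ) : V') : L') * y ^ s = 1 := by
      have h2 : (((hyunit.unit ^ s)⁻¹ : V'ˣ) : V') * yV ^ s = 1 := by
        have h3 : yV ^ s = ((hyunit.unit ^ s : V'ˣ) : V') := by
          rw [Units.val_pow_eq_pow_val, IsUnit.unit_spec]
        rw [h3, Units.inv_mul]
      have := congrArg (fun v : V' => (v : L')) h2
      simpa using this
    show z = _ * t ^ a₁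
    rw [hta, mul_comm z, ← mul_assoc, h1, one_mul]

end Groth.Agent.Lib.Helper9.Kummer
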