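import Mathlib
import Groth.Prelude.Def_EtRam
import Groth.Agent.Lib.Helper9.TameBase
import Groth.Agent.Lib.Helper9.Kummer

/-!
# Abhyankar's lemma: the local analysis
-/

universe u

namespace Groth.Agent.Lib.Helper9.AbhyankarCore

open Polynomial IsLocalRing EtRam Groth.Agent.Lib.Helper9 Groth.Agent.Lib.Helper9.DVRExt
  Groth.Agent.Lib.Helper9.TameBase

/-- The ramification index of a valuation subring dominating `A`. -/
noncomputable def eV {A : Type u} [CommRing A] [IsLocalRing A] {L : Type u} [Field L]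
    (g : A →+* L) (V : ValuationSubring L) (hdom : Dominates A g V) : ℕ :=
  @Ideal.ramificationIdx' A _ V _ (RingHom.codRestrict g V hdom.1).toAlgebra
    (maximalIdeal A) (maximalIdeal V)

section

variable {A K L : Type u} [CommRing A] [IsDomain A] [IsDiscreteValuationRing A] [Field K]
  [Algebra A K] [IsFractionRing A K] [Field L] [Algebra K L] [Algebra A L] [IsScalarTower A K L]
  [FiniteDimensional K L] [Algebra.IsSeparable K L]

include K in
/-- Basic structure at a dominating valuation subring. -/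
theorem structure_at (V : ValuationSubring L) (hdom : Dominates A (algebraMap A L) V)
    {π : A} (hπ : Irreducible π) :
    ∃ (_ : IsDiscreteValuationRing V),
      eV (algebraMap A L) V hdom ≠ 0 ∧
      ∀ ϖ : V, Irreducible ϖ → ∃ w : Vˣ, algebraMap A L π =
        ((w : V) : L) * (ϖ : L) ^ eV (algebraMap A L) V hdom := by
  have hdvr : IsDiscreteValuationRing V := isDiscreteValuationRing_of_dominates A K V hdom
  letI algV : Algebra A V := (RingHom.codRestrict (algebraMap A L) V hdom.1).toAlgebra
  haveI hloc : IsLocalHom (algebraMap A V) := isLocalHom_of_dominates _ V hdom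
  have hinj : Function.Injective (algebraMap A V) := by
    intro a b hab
    apply algebraMap_injective_of_tower A K (L := L)
    exact congrArg (fun v : V => (v : L)) hab
  refine ⟨hdvr, ?_, fun ϖ hϖ => ?_⟩
  · exact (exists_eq_unit_mul_pow hinj hπ
      (IsDiscreteValuationRing.exists_irreducible V).choose_spec).1
  · obtain ⟨w, hw⟩ := (exists_eq_unit_mul_pow hinj hπ hϖ).2
    refine ⟨w, ?_⟩
    have := congrArg (fun v : V => (v : L)) hw
    exact this

end

section Main

theorem valuation_lt_one_iff' {K : Type*} [Field K] (A : ValuationSubring K) (x : K) :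
    A.valuation x < 1 ↔ x = 0 ∨ x⁻¹ ∉ A := by
  by_cases hx : x = 0
  · simp [hx]
  · rw [← A.valuation_le_one_iff, map_inv₀, not_le]
    have hv0 : 0 < A.valuation x := zero_lt_iff.mpr ((A.valuation.ne_zero_iff).mpr hx)
    rw [one_lt_inv₀ hv0]
    simp [hx]

theorem valuation_comap_lt_one_iff {K K' : Type*} [Field K] [Field K'] (A : ValuationSubring K')
    (f : K →+* K') (x : K) : (A.comap f).valuation x < 1 ↔ A.valuation (f x) < 1 := by
  rw [valuation_lt_one_iff', valuation_lt_one_iff', ValuationSubring.mem_comap, map_inv₀,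
    map_eq_zero]

variable {A K L : Type u} [CommRing A] [IsDomain A] [IsDiscreteValuationRing A] [Field K]
  [Algebra A K] [IsFractionRing A K] [Field L] [Algebra K L] [Algebra A L] [IsScalarTower A K L]
  [FiniteDimensional K L] [Algebra.IsSeparable K L]

/-- `X ^ e - π` is monic Eisenstein. -/
theorem eisenstein_X_pow_sub_C {π : A} (hπ : Irreducible π) (e : ℕ) (he : 0 < e) :
    (X ^ e - C π : A[X]).Monic ∧ (X ^ e - C π : A[X]).natDegree = e ∧
      (X ^ e - C π : A[X]).IsEisensteinAt (maximalIdeal A) := by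
  have hπmem : π ∈ maximalIdeal A := by
    rw [hπ.maximalIdeal_eq]; exact Ideal.mem_span_singleton_self π
  have hπnot : π ∉ maximalIdeal A ^ 2 := by
    rw [hπ.maximalIdeal_eq, Ideal.span_singleton_pow, Ideal.mem_span_singleton]
    rintro ⟨c, hc⟩
    have h1 : π * 1 = π * (π * c) := by
      rw [mul_one]
      conv_lhs => rw [hc]
      ring
    have h2 := mul_left_cancel₀ hπ.ne_zero h1
    exact hπ.not_isUnit (IsUnit.of_mul_eq_one c h2.symm)
  exact EisensteinField.isEisensteinAt_X_pow_sub (O := A) e (C π)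
    (degree_C_le.trans_lt (by exact_mod_cast he))
    (fun i => by
      rw [coeff_C]
      split_ifs
      · exact hπmem
      · exact zero_mem _)
    (by rw [coeff_C_zero]; exact hπnot) he

include K in
set_option maxHeartbeats 4000000 in
/-- **Abhyankar's lemma, local form.**  If `L / K` is tamely ramified with respect to `A` and all
ramification indices divide `e`, then `L(π^{1/e})` is unramified with respect to
`A[π^{1/e}]`. -/
theorem unramified_of_kummer {π : A} (hπ : Irreducible π)
    (h : IsTamelyRamified A (algebraMap A L)) (e : ℕ) (he : 0 < e)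
    (hdiv : ∀ (V : ValuationSubring L) (hdom : Dominates A (algebraMap A L) V),
      eV (algebraMap A L) V hdom ∣ e)
    (hres : ∀ (V : ValuationSubring L) (hdom : Dominates A (algebraMap A L) V),
      (eV (algebraMap A L) V hdom : ResidueField A) ≠ 0)
    {L' : Type u} [Field L'] (iL : L →+* L') (g' : AdjoinRoot (X ^ e - C π : A[X]) →+* L')
    (hcompat : ∀ a, g' (AdjoinRoot.of _ a) = iL (algebraMap A L a))
    (hgen : ∀ E : Subfield L', (∀ l, iL l ∈ E) → g' (AdjoinRoot.root _) ∈ E → E = ⊤)
    [IsLocalRing (AdjoinRoot (X ^ e - C π : A[X]))] :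
    IsUnramifiedExt (AdjoinRoot (X ^ e - C π : A[X])) g' := by
  classical
  intro V' hdom'
  intro hloc'
  letI algA'V' : Algebra (AdjoinRoot (X ^ e - C π : A[X])) V' :=
    (RingHom.codRestrict g' V' hdom'.1).toAlgebra
  show @EtRam.IsWeaklyUnramified (AdjoinRoot (X ^ e - C π : A[X])) V' _ _ _ _ algA'V' ∧
    @Algebra.IsSeparable (ResidueField (AdjoinRoot (X ^ e - C π : A[X]))) (ResidueField V') _ _ _
  obtain ⟨hmonic, hnat, hE⟩ := eisenstein_X_pow_sub_C hπ e he
  have hpos : 0 < (X ^ e - C π : A[X]).natDegree := by rw [hnat]; exact he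
  obtain ⟨hdomA', hdvrA', hmaxA', hresA'⟩ :=
    Eisenstein.adjoinRoot_dvr (X ^ e - C π : A[X]) hmonic hE hpos
  have hmaxA'' : maximalIdeal (AdjoinRoot (X ^ e - C π : A[X])) =
      Ideal.span {AdjoinRoot.root (X ^ e - C π : A[X])} := hmaxA'
  -- root relation
  have hroot : AdjoinRoot.root (X ^ e - C π : A[X]) ^ e = AdjoinRoot.of _ π := by
    have h0 : AdjoinRoot.mk (X ^ e - C π : A[X]) (X ^ e - C π) = 0 := AdjoinRoot.mk_self
    rw [map_sub, map_pow, AdjoinRoot.mk_X, AdjoinRoot.mk_C, sub_eq_zero] at h0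
    exact h0
  set z : L' := g' (AdjoinRoot.root (X ^ e - C π : A[X])) with hz
  have hze : z ^ e = iL (algebraMap A L π) := by
    rw [hz, ← map_pow, hroot, hcompat]
  -- the valuation subring `V` of `L`
  let V : ValuationSubring L := V'.comap iL
  have hmemV : ∀ l : L, l ∈ V ↔ iL l ∈ V' := fun l => Iff.rfl
  have hof_mem : ∀ a ∈ maximalIdeal A, AdjoinRoot.of (X ^ e - C π : A[X]) a ∈
      maximalIdeal (AdjoinRoot (X ^ e - C π : A[X])) := by
    intro a ha
    rw [hmaxA'']
    exact Eisenstein.of_mem_span_root _ hE hpos ha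
  have hdomV : Dominates A (algebraMap A L) V := by
    refine ⟨fun a => ?_, fun a ha => ?_⟩
    · rw [hmemV, ← hcompat]
      exact hdom'.1 _
    · have h1 := hdom'.2 _ (hof_mem a ha)
      rw [hcompat] at h1
      exact (valuation_comap_lt_one_iff V' iL _).mpr h1
  obtain ⟨hdvrV, he0, hstruct⟩ := structure_at (K := K) V hdomV hπ
  haveI := hdvrV
  letI algV : Algebra A V := (RingHom.codRestrict (algebraMap A L) V hdomV.1).toAlgebra
  haveI hlocV : IsLocalHom (algebraMap A V) := isLocalHom_of_dominates _ V hdomV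
  obtain ⟨hsepV, -⟩ := @h V hdomV hlocV
  obtain ⟨ϖ, hϖ⟩ := IsDiscreteValuationRing.exists_irreducible V
  obtain ⟨w, hw⟩ := hstruct ϖ hϖ
  set c : ℕ := eV (algebraMap A L) V hdomV with hc
  obtain ⟨e₁, he₁⟩ := hdiv V hdomV
  have hc0 : 0 < c := Nat.pos_of_ne_zero he0
  have he₁0 : 0 < e₁ := by
    rcases Nat.eq_zero_or_pos e₁ with h0 | h0
    · rw [h0, mul_zero] at he₁; omega
    · exact h0
  let ιV : V →+* V' := inclOfComap V' iL
  have hιinj : Function.Injective ιV := by
    intro a b hab
    have := congrArg (fun v : V' => (v : L')) hab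
    exact Subtype.ext (iL.injective this)
  have hιcoe : ∀ v : V, ((ιV v : V') : L') = iL (v : L) := fun v => rfl
  have hcres : (c : ResidueField V) ≠ 0 := by
    have h1 := hres V hdomV
    intro h2
    apply h1
    have h3 : ResidueField.map (algebraMap A V) ((c : ℕ) : ResidueField A) = 0 := by
      rw [map_natCast]; exact h2
    exact (map_eq_zero _).mp h3
  have hzc : z ^ (c * e₁) = ((ιV w : V') : L') * ((ιV ϖ : V') : L') ^ (c * 1) := by
    rw [← he₁, hze, hw, map_mul, map_pow, mul_one, hιcoe, hιcoe]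
  have hgen' : ∀ E : Subfield L', (∀ v, ((ιV v : V') : L') ∈ E) → z ∈ E → E = ⊤ := by
    intro E hE hzE
    apply hgen E _ hzE
    intro l
    rcases V.mem_or_inv_mem l with hl | hl
    · exact hE ⟨l, hl⟩
    · have := hE ⟨l⁻¹, hl⟩
      rw [hιcoe] at this
      have h2 : iL l = (iL l⁻¹)⁻¹ := by rw [map_inv₀, inv_inv]
      rw [h2]
      exact inv_mem this
  obtain ⟨hdvrV', hsepι, t, y₁, y₂, htirr, hϖt, hzt⟩ :=
    Kummer.kummer_structure V V' ιV hιinj hϖ w z c e₁ 1 hc0 he₁0 one_pos
      (Nat.coprime_one_right e₁) hcres hzc hgen'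
  haveI := hdvrV'
  rw [pow_one] at hzt
  -- `z` as an element of `V'`
  have hzV' : algebraMap (AdjoinRoot (X ^ e - C π : A[X])) V'
      (AdjoinRoot.root (X ^ e - C π : A[X])) = y₂ * t := Subtype.ext hzt
  constructor
  · show (maximalIdeal (AdjoinRoot (X ^ e - C π : A[X]))).map
      (algebraMap (AdjoinRoot (X ^ e - C π : A[X])) V') = maximalIdeal V'
    rw [hmaxA'', Ideal.map_span, Set.image_singleton, hzV', htirr.maximalIdeal_eq]
    exact Ideal.span_singleton_eq_span_singleton.mpr
      ⟨y₂⁻¹, by rw [mul_comm ((y₂ : V')), mul_assoc, Units.mul_inv, mul_one]⟩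
  · rw [← SepRes.iff_isSeparable]
    haveI hlocof : IsLocalHom (AdjoinRoot.of (X ^ e - C π : A[X])) := by
      refine ⟨fun a ha => ?_⟩
      by_contra hnu
      exact hof_mem a hnu ha
    have hcomp : (algebraMap (AdjoinRoot (X ^ e - C π : A[X])) V').comp
        (AdjoinRoot.of (X ^ e - C π : A[X])) = ιV.comp (algebraMap A V) := by
      ext a
      show g' (AdjoinRoot.of _ a) = iL (algebraMap A L a)
      exact hcompat a
    have hsep1 : SepRes (algebraMap A V) := SepRes.iff_isSeparable.mpr hsepV
    have hsep2 : SepRes (ιV.comp (algebraMap A V)) := hsep1.comp _ _ hsepι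
    have hsep3 : SepRes ((algebraMap (AdjoinRoot (X ^ e - C π : A[X])) V').comp
        (AdjoinRoot.of (X ^ e - C π : A[X]))) := Kummer.SepRes.congr hcomp.symm hsep2
    exact SepRes.of_comp_right _ _ hsep3

end Main

end Groth.Agent.Lib.Helper9.AbhyankarCore

namespace Groth.Agent.Lib.Helper9.AbhyankarCore

open Polynomial IsLocalRing EtRam Groth.Agent.Lib.Helper9 Groth.Agent.Lib.Helper9.DVRExt
  Groth.Agent.Lib.Helper9.TameBase

section Converse

/-- Valuation subrings extend along field extensions. -/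
theorem exists_extension {L L' : Type u} [Field L] [Field L'] (V : ValuationSubring L)
    (iL : L →+* L') : ∃ V' : ValuationSubring L', V'.comap iL = V := by
  obtain ⟨V', hV', hloc⟩ := IsLocalRing.exists_factor_valuationRing (iL.comp V.subtype)
  refine ⟨V', ?_⟩
  symm
  apply CommonExt.valuationSubring_eq_of_le_of_dominates
  · intro x hx
    exact hV' ⟨x, hx⟩
  · intro x hx hxinv hmem
    have hx0 : x ≠ 0 := by
      rintro rfl
      rw [inv_zero] at hxinv
      exact hxinv V.zero_mem
    have hmem' : (iL x)⁻¹ ∈ V' := by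
      have : iL x⁻¹ ∈ V' := hmem
      rwa [map_inv₀] at this
    have hunit : IsUnit ((iL.comp V.subtype).codRestrict V'.toSubring hV' ⟨x, hx⟩) := by
      refine IsUnit.of_mul_eq_one ⟨(iL x)⁻¹, hmem'⟩ (Subtype.ext ?_)
      show iL x * (iL x)⁻¹ = 1
      exact mul_inv_cancel₀ ((map_ne_zero iL).mpr hx0)
    have hu : IsUnit (⟨x, hx⟩ : V) := hloc.map_nonunit _ hunit
    obtain ⟨u, hu'⟩ := hu
    apply hxinv
    have h1 : ((u⁻¹ : Vˣ) : V) * ⟨x, hx⟩ = 1 := by rw [← hu', Units.inv_mul]
    have h2 := congrArg (fun v : V => (v : L)) h1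
    simp only [MulMemClass.coe_mul, OneMemClass.coe_one] at h2
    have h3 : x⁻¹ = (((u⁻¹ : Vˣ) : V) : L) := (eq_inv_of_mul_eq_one_left h2).symm
    rw [h3]
    exact (((u⁻¹ : Vˣ) : V)).2

end Converse


section Converse2

variable {A K L : Type u} [CommRing A] [IsDomain A] [IsDiscreteValuationRing A] [Field K]
  [Algebra A K] [IsFractionRing A K] [Field L] [Algebra K L] [Algebra A L] [IsScalarTower A K L]
  [FiniteDimensional K L] [Algebra.IsSeparable K L]

theorem valuation_le_one_of_pow {K : Type*} [Field K] (A : ValuationSubring K) {x : K} {n : ℕ}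
    (hn : n ≠ 0) (h : x ^ n ∈ A) : x ∈ A := by
  rw [← A.valuation_le_one_iff] at h ⊢
  rw [map_pow] at h
  exact (pow_le_one_iff hn).mp h

theorem valuation_lt_one_of_pow {K : Type*} [Field K] (A : ValuationSubring K) {x : K} {n : ℕ}
    (hn : n ≠ 0) (h : A.valuation (x ^ n) < 1) : A.valuation x < 1 := by
  rw [map_pow] at h
  exact (pow_lt_one_iff hn).mp h

include K in
set_option maxHeartbeats 4000000 in
/-- Converse to Abhyankar's lemma: if `L` embeds in an extension `L'` which is unramified over
`A[π^{1/e}]` with `e` invertible in the residue field, then `L` is tamely ramified over `A`. -/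
theorem tame_of_unramified_kummer {π : A} (hπ : Irreducible π) (e : ℕ) (he : 0 < e)
    (hres : (e : ResidueField A) ≠ 0)
    {L' : Type u} [Field L'] [Algebra K L'] [FiniteDimensional K L'] [Algebra.IsSeparable K L']
    (iL : L →ₐ[K] L') (g' : AdjoinRoot (X ^ e - C π : A[X]) →+* L')
    (hcompat : ∀ a, g' (AdjoinRoot.of _ a) = algebraMap K L' (algebraMap A K a))
    [IsLocalRing (AdjoinRoot (X ^ e - C π : A[X]))]
    (hunr : IsUnramifiedExt (AdjoinRoot (X ^ e - C π : A[X])) g') :
    IsTamelyRamified A (algebraMap A L) := by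
  classical
  intro V hdom
  obtain ⟨V', rfl⟩ := exists_extension V iL.toRingHom
  intro hlocV
  letI algV : Algebra A (V'.comap iL.toRingHom) :=
    (RingHom.codRestrict (algebraMap A L) (V'.comap iL.toRingHom) hdom.1).toAlgebra
  show Algebra.IsSeparable (ResidueField A) (ResidueField (V'.comap iL.toRingHom)) ∧
    ∀ p : ℕ, p.Prime → CharP (ResidueField A) p →
      ¬ p ∣ Ideal.ramificationIdx' (maximalIdeal A) (maximalIdeal (V'.comap iL.toRingHom))
  -- Eisenstein facts
  obtain ⟨hmonic, hnat, hE⟩ := eisenstein_X_pow_sub_C hπ e he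
  have hpos : 0 < (X ^ e - C π : A[X]).natDegree := by rw [hnat]; exact he
  obtain ⟨hdomA', hdvrA', hmaxA', hresA'⟩ :=
    Eisenstein.adjoinRoot_dvr (X ^ e - C π : A[X]) hmonic hE hpos
  have hmaxA'' : maximalIdeal (AdjoinRoot (X ^ e - C π : A[X])) =
      Ideal.span {AdjoinRoot.root (X ^ e - C π : A[X])} := hmaxA'
  have hroot : AdjoinRoot.root (X ^ e - C π : A[X]) ^ e = AdjoinRoot.of _ π := by
    have h0 : AdjoinRoot.mk (X ^ e - C π : A[X]) (X ^ e - C π) = 0 := AdjoinRoot.mk_self
    rw [map_sub, map_pow, AdjoinRoot.mk_X, AdjoinRoot.mk_C, sub_eq_zero] at h0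
    exact h0
  have hcompat' : ∀ a, g' (AdjoinRoot.of _ a) = iL (algebraMap A L a) := by
    intro a
    rw [hcompat, IsScalarTower.algebraMap_apply A K L]
    exact (iL.commutes _).symm
  set z : L' := g' (AdjoinRoot.root (X ^ e - C π : A[X])) with hz
  have hze : z ^ e = iL (algebraMap A L π) := by
    rw [hz, ← map_pow, hroot, hcompat']
  have hπmem : π ∈ maximalIdeal A := by
    rw [hπ.maximalIdeal_eq]; exact Ideal.mem_span_singleton_self π
  have hπval : V'.valuation (iL (algebraMap A L π)) < 1 :=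
    (valuation_comap_lt_one_iff V' iL.toRingHom _).mp (hdom.2 π hπmem)
  have hzval : V'.valuation z < 1 := valuation_lt_one_of_pow V' he.ne' (by rw [hze]; exact hπval)
  have hzmem : z ∈ V' := (V'.valuation_le_one_iff z).mp hzval.le
  have hofmem : ∀ a, g' (AdjoinRoot.of _ a) ∈ V' := by
    intro a
    rw [hcompat']
    exact hdom.1 a
  have hg'mem : ∀ d, g' d ∈ V' := by
    intro d
    induction d using AdjoinRoot.induction_on with
    | ih P =>
      induction P using Polynomial.induction_on' with
      | add p q hp hq => rw [map_add, map_add]; exact add_mem hp hq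
      | monomial n a =>
        rw [← C_mul_X_pow_eq_monomial, map_mul, map_pow, AdjoinRoot.mk_C, AdjoinRoot.mk_X,
          map_mul, map_pow]
        exact mul_mem (hofmem a) (pow_mem hzmem n)
  have hdom' : Dominates (AdjoinRoot (X ^ e - C π : A[X])) g' V' := by
    refine ⟨hg'mem, fun d hd => ?_⟩
    rw [hmaxA'', Ideal.mem_span_singleton] at hd
    obtain ⟨d', rfl⟩ := hd
    rw [map_mul, map_mul]
    have h1 : V'.valuation (g' d') ≤ 1 := (V'.valuation_le_one_iff _).mpr (hg'mem d')
    calc V'.valuation z * V'.valuation (g' d') ≤ V'.valuation z * 1 :=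
          mul_le_mul' le_rfl h1
      _ = V'.valuation z := mul_one _
      _ < 1 := hzval
  letI algA'V' : Algebra (AdjoinRoot (X ^ e - C π : A[X])) V' :=
    (RingHom.codRestrict g' V' hdom'.1).toAlgebra
  haveI hlocA'V' : IsLocalHom (algebraMap (AdjoinRoot (X ^ e - C π : A[X])) V') :=
    isLocalHom_of_dominates g' V' hdom'
  obtain ⟨hwu, hsep'⟩ := @hunr V' hdom' hlocA'V'
  -- `V'` is a DVR
  letI algAL' : Algebra A L' := ((algebraMap K L').comp (algebraMap A K)).toAlgebra
  haveI towAL' : IsScalarTower A K L' := IsScalarTower.of_algebraMap_eq (fun _ => rfl)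
  have hALeq : ∀ a, algebraMap A L' a = g' (AdjoinRoot.of _ a) := fun a => (hcompat a).symm
  have hof_mem : ∀ a ∈ maximalIdeal A, AdjoinRoot.of (X ^ e - C π : A[X]) a ∈
      maximalIdeal (AdjoinRoot (X ^ e - C π : A[X])) := by
    intro a ha
    rw [hmaxA'']
    exact Eisenstein.of_mem_span_root _ hE hpos ha
  have hdomAL' : Dominates A (algebraMap A L') V' := by
    refine ⟨fun a => ?_, fun a ha => ?_⟩
    · rw [hALeq]; exact hg'mem _
    · rw [hALeq]; exact hdom'.2 _ (hof_mem a ha)
  haveI hdvrV' : IsDiscreteValuationRing V' := isDiscreteValuationRing_of_dominates A K V' hdomAL'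
  -- `z` is a uniformizer of `V'`
  set zV : V' := algebraMap (AdjoinRoot (X ^ e - C π : A[X])) V'
    (AdjoinRoot.root (X ^ e - C π : A[X])) with hzV
  have hzVcoe : (zV : L') = z := rfl
  have hzVirr : Irreducible zV := by
    rw [IsDiscreteValuationRing.irreducible_iff_uniformizer]
    have h1 : (maximalIdeal (AdjoinRoot (X ^ e - C π : A[X]))).map
      (algebraMap (AdjoinRoot (X ^ e - C π : A[X])) V') = maximalIdeal V' := hwu
    rw [← h1, hmaxA'', Ideal.map_span, Set.image_singleton]
  -- structure of `V`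
  obtain ⟨hdvrV, he0, hstruct⟩ := structure_at (K := K) (V'.comap iL.toRingHom) hdom hπ
  haveI := hdvrV
  obtain ⟨ϖ, hϖ⟩ := IsDiscreteValuationRing.exists_irreducible (V'.comap iL.toRingHom)
  obtain ⟨w, hw⟩ := hstruct ϖ hϖ
  let ιV : V'.comap iL.toRingHom →+* V' := inclOfComap V' iL.toRingHom
  have hιinj : Function.Injective ιV := by
    intro a b hab
    have := congrArg (fun v : V' => (v : L')) hab
    exact Subtype.ext (iL.toRingHom.injective this)
  have hιcoe : ∀ v : V'.comap iL.toRingHom, ((ιV v : V') : L') = iL (v : L) := fun v => rfl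
  letI algVV' : Algebra (V'.comap iL.toRingHom) V' := ιV.toAlgebra
  haveI hlocVV' : IsLocalHom (algebraMap (V'.comap iL.toRingHom) V') :=
    isLocalHom_inclOfComap V' iL.toRingHom
  obtain ⟨hm0, y, hy⟩ := exists_eq_unit_mul_pow (A := V'.comap iL.toRingHom) (V := V')
    hιinj hϖ hzVirr
  set m : ℕ := Ideal.ramificationIdx' (maximalIdeal (V'.comap iL.toRingHom)) (maximalIdeal V')
    with hm
  have hy' : ιV ϖ = y * zV ^ m := hy
  -- the key equation in `V'`
  have hkey : ((1 : V'ˣ) : V') * zV ^ e =
      ((Units.map (ιV : _ →* V') w * y ^ (eV (algebraMap A L) (V'.comap iL.toRingHom) hdom) :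
        V'ˣ) : V') * zV ^ (m * eV (algebraMap A L) (V'.comap iL.toRingHom) hdom) := by
    apply Subtype.ext
    simp only [Units.val_one, one_mul, Units.val_mul, Units.val_pow_eq_pow_val, Units.coe_map,
      MonoidHom.coe_coe, MulMemClass.coe_mul, SubmonoidClass.coe_pow]
    rw [hzVcoe, hze, hw, map_mul, map_pow, ← hιcoe, ← hιcoe, hy']
    simp only [MulMemClass.coe_mul, SubmonoidClass.coe_pow]
    rw [hzVcoe]
    ring
  have hem : e = m * eV (algebraMap A L) (V'.comap iL.toRingHom) hdom :=
    IsDiscreteValuationRing.unit_mul_pow_congr_pow hzVirr hzVirr _ _ _ _ hkey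
  constructor
  · -- separability
    rw [← SepRes.iff_isSeparable]
    haveI hlocof : IsLocalHom (AdjoinRoot.of (X ^ e - C π : A[X])) := by
      refine ⟨fun a ha => ?_⟩
      by_contra hnu
      exact hof_mem a hnu ha
    have hsep1 : SepRes (AdjoinRoot.of (X ^ e - C π : A[X])) :=
      SepRes.of_residue_surjective _ hresA'
    have hsep2 : SepRes (algebraMap (AdjoinRoot (X ^ e - C π : A[X])) V') :=
      SepRes.iff_isSeparable.mpr hsep'
    have hsep3 := hsep1.comp _ _ hsep2
    have hcomp : (algebraMap (AdjoinRoot (X ^ e - C π : A[X])) V').comp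
        (AdjoinRoot.of (X ^ e - C π : A[X])) =
        ιV.comp (algebraMap A (V'.comap iL.toRingHom)) := by
      ext a
      show g' (AdjoinRoot.of _ a) = iL (algebraMap A L a)
      exact hcompat' a
    have hsep4 : SepRes (ιV.comp (algebraMap A (V'.comap iL.toRingHom))) :=
      Kummer.SepRes.congr hcomp hsep3
    exact SepRes.of_comp_left _ _ hsep4
  · intro p hp hchar hdvd
    apply hres
    rw [CharP.cast_eq_zero_iff (ResidueField A) p, hem]
    exact Dvd.dvd.mul_left hdvd m

end Converse2

end Groth.Agent.Lib.Helper9.AbhyankarCore
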