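import Mathlib
import Groth.Prelude.Def_EtRam
import Groth.Agent.Lib.Helper9.AbhyankarCore
import Groth.Agent.S9306
import Groth.Agent.S9329

/-!
# Tame base change: auxiliary constructions
-/

universe u

namespace Groth.Agent.Lib.Helper9.TameBC

open Polynomial IsLocalRing EtRam TensorProduct Groth.Agent.Lib.Helper9
  Groth.Agent.Lib.Helper9.DVRExt Groth.Agent.Lib.Helper9.TameBase
  Groth.Agent.Lib.Helper9.AbhyankarCore

/-- A field quotient of `L ⊗[K] K'` with `K' / K` finite separable is finite separable over `L`. -/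
theorem finite_separable_of_quotient (K L K' F : Type u) [Field K] [Field L] [Field K'] [Field F]
    [Algebra K L] [Algebra K K'] [FiniteDimensional K K'] [Algebra.IsSeparable K K']
    [Algebra L F] (ψ : L ⊗[K] K' →ₐ[L] F) (hψ : Function.Surjective ψ) :
    FiniteDimensional L F ∧ Algebra.IsSeparable L F := by
  haveI : Algebra.FormallyUnramified K K' := Algebra.FormallyUnramified.of_isSeparable K K'
  haveI : Algebra.FormallyUnramified L (L ⊗[K] K') := inferInstance
  haveI : Algebra.FormallyUnramified L F := Algebra.FormallyUnramified.of_surjective ψ hψ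
  haveI : Module.Finite L (L ⊗[K] K') := inferInstance
  haveI hfd : Module.Finite L F := Module.Finite.of_surjective ψ.toLinearMap hψ
  exact ⟨hfd, Algebra.FormallyUnramified.isSeparable L F⟩

/-- A compositum: given field maps `K' → F` and `K' → K''` with `K'' / K'` finite separable, there
is a field `F''` receiving `F` and `K''` compatibly, generated by the two images, and finite separable
over `F`. -/
theorem exists_compositum (K' F K'' : Type u) [Field K'] [Field F] [Field K''] [Algebra K' F]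
    [Algebra K' K''] [FiniteDimensional K' K''] [Algebra.IsSeparable K' K''] :
    ∃ (F'' : Type u) (_ : Field F'') (_ : Algebra F F'') (jK : K'' →+* F''),
      FiniteDimensional F F'' ∧ Algebra.IsSeparable F F'' ∧
      (∀ k : K', jK (algebraMap K' K'' k) = algebraMap F F'' (algebraMap K' F k)) ∧
      (∀ E : Subfield F'', (∀ x, algebraMap F F'' x ∈ E) → (∀ y, jK y ∈ E) → E = ⊤) := by
  classical
  haveI : Nontrivial (F ⊗[K'] K'') :=
    Algebra.TensorProduct.nontrivial_of_algebraMap_injective_of_flat_left (R := K') F K''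
      (algebraMap K' K'').injective
  obtain ⟨𝔐, h𝔐⟩ := Ideal.exists_maximal (F ⊗[K'] K'')
  letI fF'' : Field ((F ⊗[K'] K'') ⧸ 𝔐) := Ideal.Quotient.field 𝔐
  let jK : K'' →+* (F ⊗[K'] K'') ⧸ 𝔐 := (Ideal.Quotient.mk 𝔐).comp
    (Algebra.TensorProduct.includeRight : K'' →ₐ[K'] F ⊗[K'] K'').toRingHom
  obtain ⟨hfd, hsep⟩ := finite_separable_of_quotient K' F K'' ((F ⊗[K'] K'') ⧸ 𝔐)
    (Ideal.Quotient.mkₐ F 𝔐) Ideal.Quotient.mk_surjective
  refine ⟨(F ⊗[K'] K'') ⧸ 𝔐, fF'', inferInstance, jK, hfd, hsep, fun k => ?_, fun E hEF hEK => ?_⟩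
  · show Ideal.Quotient.mk 𝔐 ((1 : F) ⊗ₜ[K'] algebraMap K' K'' k) =
      Ideal.Quotient.mk 𝔐 (algebraMap K' F k ⊗ₜ[K'] (1 : K''))
    rw [Algebra.algebraMap_eq_smul_one (A := K''), Algebra.algebraMap_eq_smul_one (A := F),
      TensorProduct.smul_tmul]
  · rw [eq_top_iff]
    intro x _
    obtain ⟨t, rfl⟩ := Ideal.Quotient.mk_surjective x
    induction t using TensorProduct.induction_on with
    | zero => rw [map_zero]; exact E.zero_mem
    | tmul l k =>
      have hlk : (l ⊗ₜ[K'] k : F ⊗[K'] K'') = (l ⊗ₜ[K'] (1 : K'')) * ((1 : F) ⊗ₜ[K'] k) := by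
        rw [Algebra.TensorProduct.tmul_mul_tmul, mul_one, one_mul]
      rw [hlk, map_mul]
      exact mul_mem (hEF l) (hEK k)
    | add x y hx hy => rw [map_add]; exact add_mem (hx trivial) (hy trivial)

set_option maxHeartbeats 4000000 in
/-- Unramified base change, in a form adapted to subfields and valuation subrings of a big
field `F''`. -/
theorem unramified_at_of_core (A₁ K₁ K'' F'' : Type u) [CommRing A₁] [IsDomain A₁]
    [IsDiscreteValuationRing A₁] [Field K₁] [Algebra A₁ K₁] [IsFractionRing A₁ K₁] [Field K'']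
    [Algebra K₁ K''] [FiniteDimensional K₁ K''] [Algebra.IsSeparable K₁ K''] [Algebra A₁ K'']
    [IsScalarTower A₁ K₁ K''] (h : IsUnramifiedExt A₁ (algebraMap A₁ K'')) [Field F'']
    (jK : K'' →+* F'') (L'' : Subfield F'') (𝒲 : ValuationSubring F'')
    (hB''dvr : IsDiscreteValuationRing (𝒲.comap L''.subtype))
    (hA₁L'' : ∀ d : A₁, jK (algebraMap A₁ K'' d) ∈ L'')
    (hA₁𝒲 : ∀ d : A₁, jK (algebraMap A₁ K'' d) ∈ 𝒲)
    (hA₁max : ∀ d ∈ maximalIdeal A₁, 𝒲.valuation (jK (algebraMap A₁ K'' d)) < 1)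
    (hgen : ∀ E : Subfield F'', (∀ y, jK y ∈ E) → L'' ≤ E → E = ⊤) :
    (maximalIdeal (𝒲.comap L''.subtype)).map (inclOfComap 𝒲 L''.subtype) = maximalIdeal 𝒲 ∧
      SepRes (inclOfComap 𝒲 L''.subtype) := by
  classical
  haveI := hB''dvr
  -- maps from `A₁`
  let φ : A₁ →+* L'' := (jK.comp (algebraMap A₁ K'')).codRestrict L'' hA₁L''
  have hφcoe : ∀ d, ((φ d : L'') : F'') = jK (algebraMap A₁ K'' d) := fun d => rfl
  have hφB : ∀ d, φ d ∈ 𝒲.comap L''.subtype := fun d => hA₁𝒲 d
  have hdomA₁ : Dominates A₁ φ (𝒲.comap L''.subtype) := by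
    refine ⟨hφB, fun d hd => ?_⟩
    rw [valuation_comap_lt_one_iff]
    exact hA₁max d hd
  letI algA₁B'' : Algebra A₁ (𝒲.comap L''.subtype) :=
    (RingHom.codRestrict φ (𝒲.comap L''.subtype) hdomA₁.1).toAlgebra
  haveI hlocA₁B'' : IsLocalHom (algebraMap A₁ (𝒲.comap L''.subtype)) :=
    isLocalHom_of_dominates φ _ hdomA₁
  have hinjA₁K'' : Function.Injective (algebraMap A₁ K'') := by
    rw [IsScalarTower.algebraMap_eq A₁ K₁ K'']
    exact (algebraMap K₁ K'').injective.comp (IsFractionRing.injective A₁ K₁)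
  have hφinj : Function.Injective φ := by
    intro a b hab
    have := congrArg (fun x : L'' => (x : F'')) hab
    exact hinjA₁K'' (jK.injective this)
  letI algA₁L'' : Algebra A₁ L'' := φ.toAlgebra
  letI algK₁L'' : Algebra K₁ L'' := (IsFractionRing.lift hφinj).toAlgebra
  haveI tow1 : IsScalarTower A₁ K₁ L'' :=
    IsScalarTower.of_algebraMap_eq (fun d => (IsFractionRing.lift_algebraMap hφinj d).symm)
  haveI tow2 : IsScalarTower A₁ (𝒲.comap L''.subtype) L'' :=
    IsScalarTower.of_algebraMap_eq (fun d => rfl)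
  have hcompat : jK.comp (algebraMap K₁ K'') = L''.subtype.comp (algebraMap K₁ L'') := by
    apply IsLocalization.ringHom_ext (nonZeroDivisors A₁)
    ext d
    simp only [RingHom.comp_apply]
    rw [← IsScalarTower.algebraMap_apply A₁ K₁ K'', ← IsScalarTower.algebraMap_apply A₁ K₁ L'']
    rfl
  have hgen' : ∀ E : Subfield F'', Set.range jK ⊆ E → Set.range L''.subtype ⊆ E → E = ⊤ := by
    intro E h1 h2
    apply hgen E (fun y => h1 ⟨y, rfl⟩)
    intro x hx
    exact h2 ⟨⟨x, hx⟩, rfl⟩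
  have hcore := Groth.Agent.S9306.core A₁ (𝒲.comap L''.subtype) K₁ L'' K'' F'' h jK L''.subtype
    hcompat hgen'
  have hdom𝒲 : Dominates (𝒲.comap L''.subtype)
      (L''.subtype.comp (algebraMap (𝒲.comap L''.subtype) L'')) 𝒲 := by
    refine ⟨fun b => b.2, fun b hb => ?_⟩
    have h1 := (ValuationSubring.valuation_lt_one_iff _ b).mp hb
    rw [valuation_comap_lt_one_iff] at h1
    exact h1
  letI algB''𝒲 : Algebra (𝒲.comap L''.subtype) 𝒲 :=
    (RingHom.codRestrict (L''.subtype.comp (algebraMap (𝒲.comap L''.subtype) L'')) 𝒲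
      hdom𝒲.1).toAlgebra
  haveI hlocB''𝒲 : IsLocalHom (algebraMap (𝒲.comap L''.subtype) 𝒲) :=
    isLocalHom_of_dominates _ 𝒲 hdom𝒲
  obtain ⟨hwu, hsep⟩ := @hcore 𝒲 hdom𝒲 hlocB''𝒲
  have heq : algebraMap (𝒲.comap L''.subtype) 𝒲 = inclOfComap 𝒲 L''.subtype :=
    RingHom.ext (fun b => Subtype.ext rfl)
  constructor
  · rw [← heq]
    exact hwu
  · exact Kummer.SepRes.congr heq (SepRes.iff_isSeparable.mpr hsep)


set_option maxHeartbeats 4000000 in
/-- The Kummer step inside a big field: adjoining `z` with `z ^ e = u ϖ ^ a`. -/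
theorem kummer_step (B L F'' : Type u) [CommRing B] [IsDomain B] [IsDiscreteValuationRing B]
    [Field L] [Algebra B L] [IsFractionRing B L] [Field F''] (ρ : L →+* F'')
    (𝒲 : ValuationSubring F'') (hdom : Dominates B (ρ.comp (algebraMap B L)) 𝒲)
    {ϖ : B} (hϖ : Irreducible ϖ) (u : Bˣ) (z : F'') (e a : ℕ) (he : 0 < e) (ha : 0 < a)
    (heres : (e : ResidueField B) ≠ 0)
    (hz : z ^ e = ρ (algebraMap B L ((u : B) * ϖ ^ a))) :
    let L'' : Subfield F'' := Subfield.closure (Set.range ρ ∪ {z})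
    ∃ (_ : IsDiscreteValuationRing (𝒲.comap L''.subtype))
      (ιB : B →+* 𝒲.comap L''.subtype) (_ : IsLocalHom ιB),
      (∀ b, (((ιB b : 𝒲.comap L''.subtype) : L'') : F'') = ρ (algebraMap B L b)) ∧
      SepRes ιB ∧
      ∃ (t : 𝒲.comap L''.subtype) (y₁ : (𝒲.comap L''.subtype)ˣ) (e₁ : ℕ), Irreducible t ∧
        e₁ ∣ e ∧ ιB ϖ = y₁ * t ^ e₁ := by
  classical
  intro L''
  have hρL'' : ∀ l, ρ l ∈ L'' := fun l => Subfield.subset_closure (Or.inl ⟨l, rfl⟩)
  have hzL'' : z ∈ L'' := Subfield.subset_closure (Or.inr rfl)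
  let φ₁ : B →+* L'' := (ρ.comp (algebraMap B L)).codRestrict L'' (fun b => hρL'' _)
  have hφ₁coe : ∀ b, ((φ₁ b : L'') : F'') = ρ (algebraMap B L b) := fun b => rfl
  have hdomB : Dominates B φ₁ (𝒲.comap L''.subtype) := by
    refine ⟨fun b => hdom.1 b, fun b hb => ?_⟩
    rw [valuation_comap_lt_one_iff]
    exact hdom.2 b hb
  let ιB : B →+* 𝒲.comap L''.subtype := RingHom.codRestrict φ₁ (𝒲.comap L''.subtype) hdomB.1
  haveI hlocιB : IsLocalHom ιB := isLocalHom_of_dominates φ₁ _ hdomB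
  have hιcoe : ∀ b, (((ιB b : 𝒲.comap L''.subtype) : L'') : F'') = ρ (algebraMap B L b) :=
    fun b => rfl
  have hιinj : Function.Injective ιB := by
    intro b b' hbb
    have := congrArg (fun x : 𝒲.comap L''.subtype => ((x : L'') : F'')) hbb
    exact IsFractionRing.injective B L (ρ.injective this)
  -- gcd bookkeeping
  set c : ℕ := Nat.gcd e a with hc
  have hc0 : 0 < c := Nat.gcd_pos_of_pos_left a he
  obtain ⟨e₁, he₁⟩ : c ∣ e := Nat.gcd_dvd_left e a
  obtain ⟨a₁, ha₁⟩ : c ∣ a := Nat.gcd_dvd_right e a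
  have he₁0 : 0 < e₁ := by
    rcases Nat.eq_zero_or_pos e₁ with h0 | h0
    · rw [h0, mul_zero] at he₁; omega
    · exact h0
  have ha₁0 : 0 < a₁ := by
    rcases Nat.eq_zero_or_pos a₁ with h0 | h0
    · rw [h0, mul_zero] at ha₁; omega
    · exact h0
  have hcop : Nat.Coprime e₁ a₁ := by
    have h1 : Nat.gcd (c * e₁) (c * a₁) = c := by rw [← he₁, ← ha₁]
    rw [Nat.gcd_mul_left] at h1
    have h2 : c * Nat.gcd e₁ a₁ = c * 1 := by rw [h1, mul_one]
    exact Nat.eq_of_mul_eq_mul_left hc0 h2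
  have hcres : (c : ResidueField B) ≠ 0 := by
    intro h0
    apply heres
    rw [he₁, Nat.cast_mul, h0, zero_mul]
  let z'' : L'' := ⟨z, hzL''⟩
  have hz'' : z'' ^ (c * e₁) = (((ιB u : 𝒲.comap L''.subtype)) : L'') *
      (((ιB ϖ : 𝒲.comap L''.subtype)) : L'') ^ (c * a₁) := by
    apply Subtype.ext
    simp only [SubmonoidClass.coe_pow, MulMemClass.coe_mul]
    rw [hιcoe, hιcoe, ← he₁, ← ha₁]
    show z ^ e = _
    rw [hz, map_mul, map_mul, map_pow, map_pow]
  have hgen : ∀ E : Subfield L'', (∀ b, (((ιB b : 𝒲.comap L''.subtype)) : L'') ∈ E) →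
      z'' ∈ E → E = ⊤ := by
    intro E hE hzE
    have hρE : ∀ l, (⟨ρ l, hρL'' l⟩ : L'') ∈ E := by
      intro l
      obtain ⟨b, s, _, rfl⟩ := IsFractionRing.div_surjective (A := B) l
      have h1 : (⟨ρ (algebraMap B L b / algebraMap B L s), hρL'' _⟩ : L'') =
          (((ιB b : 𝒲.comap L''.subtype)) : L'') / (((ιB s : 𝒲.comap L''.subtype)) : L'') := by
        apply Subtype.ext
        simp only [map_div₀]
        rfl
      rw [h1]
      exact div_mem (hE b) (hE s)
    have hle : L'' ≤ E.map L''.subtype := by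
      apply Subfield.closure_le.mpr
      rintro x (⟨l, rfl⟩ | hx)
      · exact ⟨⟨ρ l, hρL'' l⟩, hρE l, rfl⟩
      · rw [Set.mem_singleton_iff] at hx
        rw [hx]
        exact ⟨z'', hzE, rfl⟩
    rw [eq_top_iff]
    intro x _
    obtain ⟨y, hy, hyx⟩ := hle x.2
    have : y = x := Subtype.ext hyx
    rw [← this]
    exact hy
  obtain ⟨hdvr, hsep, t, y₁, y₂, htirr, hϖt, -⟩ :=
    Kummer.kummer_structure B (𝒲.comap L''.subtype) ιB hιinj hϖ u z'' c e₁ a₁ hc0 he₁0 ha₁0
      hcop hcres hz'' hgen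
  exact ⟨hdvr, ιB, hlocιB, hιcoe, hsep, t, y₁, e₁, htirr, ⟨c, by rw [he₁, mul_comm]⟩, hϖt⟩


set_option maxHeartbeats 8000000 in
/-- **Tame base change**, abstract form. -/
theorem tame_base_change (A B K L K' F : Type u) [CommRing A] [IsDomain A]
    [IsDiscreteValuationRing A] [CommRing B] [IsDomain B] [IsDiscreteValuationRing B]
    [Algebra A B] [IsLocalHom (algebraMap A B)] (hinj : Function.Injective (algebraMap A B))
    [Field K] [Field L] [Field K'] [Field F] [Algebra A K] [IsFractionRing A K] [Algebra B L]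
    [IsFractionRing B L] [Algebra K L] [Algebra A L] [IsScalarTower A K L] [IsScalarTower A B L]
    [Algebra K K'] [FiniteDimensional K K'] [Algebra.IsSeparable K K'] [Algebra A K']
    [IsScalarTower A K K'] (h : IsTamelyRamified A (algebraMap A K'))
    [Algebra L F] [FiniteDimensional L F] [Algebra.IsSeparable L F] [Algebra B F]
    [IsScalarTower B L F] (iK' : K' →+* F)
    (hcompat : iK'.comp (algebraMap K K') = (algebraMap L F).comp (algebraMap K L))
    (hgen : ∀ E : Subfield F, Set.range iK' ⊆ E → Set.range (algebraMap L F) ⊆ E → E = ⊤) :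
    IsTamelyRamified B (algebraMap B F) := by
  classical
  intro W hdomW
  obtain ⟨π, hπ⟩ := IsDiscreteValuationRing.exists_irreducible A
  obtain ⟨ϖ, hϖ⟩ := IsDiscreteValuationRing.exists_irreducible B
  -- Step 1: the Kummer extension `K''` of `K'`
  obtain ⟨e, he, heres, hdiv, hres⟩ := Groth.Agent.S9329.exists_e0 (K := K) (L := K') h hπ
  obtain ⟨K'', fK'', aKK'', g', iK'', hfdK'', hsepK'', hcompat2, hgen2⟩ :=
    Groth.Agent.S9329.exists_kummer_ext (K := K) (L := K') hπ e he heres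
  obtain ⟨hmonic, hnat, hE⟩ := eisenstein_X_pow_sub_C hπ e he
  have hpos : 0 < (X ^ e - C π : A[X]).natDegree := by rw [hnat]; exact he
  obtain ⟨hdomA₁, hdvrA₁, hmaxA₁, hresA₁⟩ :=
    Eisenstein.adjoinRoot_dvr (X ^ e - C π : A[X]) hmonic hE hpos
  haveI := hdomA₁
  haveI := hdvrA₁
  have hroot : AdjoinRoot.root (X ^ e - C π : A[X]) ^ e = AdjoinRoot.of _ π := by
    have h0 : AdjoinRoot.mk (X ^ e - C π : A[X]) (X ^ e - C π) = 0 := AdjoinRoot.mk_self
    rw [map_sub, map_pow, AdjoinRoot.mk_X, AdjoinRoot.mk_C, sub_eq_zero] at h0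
    exact h0
  have hrootirr : Irreducible (AdjoinRoot.root (X ^ e - C π : A[X])) :=
    (IsDiscreteValuationRing.irreducible_iff_uniformizer _).mpr hmaxA₁
  have hcompat3 : ∀ a, g' (AdjoinRoot.of _ a) = iK''.toRingHom (algebraMap A K' a) := by
    intro a
    rw [hcompat2, IsScalarTower.algebraMap_apply A K K']
    exact (iK''.commutes _).symm
  have hunr : IsUnramifiedExt (AdjoinRoot (X ^ e - C π : A[X])) g' :=
    unramified_of_kummer (K := K) hπ h e he hdiv hres iK''.toRingHom g' hcompat3 hgen2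
  letI algK'K'' : Algebra K' K'' := iK''.toRingHom.toAlgebra
  haveI towKK'K'' : IsScalarTower K K' K'' :=
    IsScalarTower.of_algebraMap_eq (fun k => (iK''.commutes k).symm)
  haveI : FiniteDimensional K' K'' := Module.Finite.of_restrictScalars_finite K K' K''
  haveI : Algebra.IsSeparable K' K'' := Algebra.isSeparable_tower_top_of_isSeparable K K' K''
  -- Step 2: the compositum `F''` and the extension `𝒲` of `W`
  letI algK'F : Algebra K' F := iK'.toAlgebra
  obtain ⟨F'', fF'', aFF'', jK, hfdF'', hsepF'', hjcompat, hjgen⟩ := exists_compositum K' F K''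
  obtain ⟨𝒲, rfl⟩ := exists_extension W (algebraMap F F'')
  intro hlocW
  letI algBW : Algebra B (𝒲.comap (algebraMap F F'')) :=
    (RingHom.codRestrict (algebraMap B F) (𝒲.comap (algebraMap F F'')) hdomW.1).toAlgebra
  show Algebra.IsSeparable (ResidueField B) (ResidueField (𝒲.comap (algebraMap F F''))) ∧
    ∀ p : ℕ, p.Prime → CharP (ResidueField B) p →
      ¬ p ∣ Ideal.ramificationIdx' (maximalIdeal B) (maximalIdeal (𝒲.comap (algebraMap F F'')))
  let ρ : L →+* F'' := (algebraMap F F'').comp (algebraMap L F)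
  have hρB : ∀ b : B, ρ (algebraMap B L b) = algebraMap F F'' (algebraMap B F b) := by
    intro b
    show algebraMap F F'' (algebraMap L F (algebraMap B L b)) = _
    rw [← IsScalarTower.algebraMap_apply B L F]
  have hdomρ : Dominates B (ρ.comp (algebraMap B L)) 𝒲 := by
    refine ⟨fun b => ?_, fun b hb => ?_⟩
    · rw [RingHom.comp_apply, hρB]
      exact hdomW.1 b
    · rw [RingHom.comp_apply, hρB]
      exact (valuation_comap_lt_one_iff 𝒲 _ _).mp (hdomW.2 b hb)
  set z : F'' := jK (g' (AdjoinRoot.root (X ^ e - C π : A[X]))) with hz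
  have himgA : ∀ a : A, jK (g' (AdjoinRoot.of _ a)) = ρ (algebraMap B L (algebraMap A B a)) := by
    intro a
    rw [hcompat3 a]
    have h1 : iK''.toRingHom (algebraMap A K' a) = algebraMap K' K'' (algebraMap A K' a) := rfl
    rw [h1, hjcompat]
    have h2 : algebraMap K' F (algebraMap A K' a) = iK' (algebraMap A K' a) := rfl
    rw [h2, IsScalarTower.algebraMap_apply A K K']
    have h3 := RingHom.congr_fun hcompat (algebraMap A K a)
    rw [RingHom.comp_apply, RingHom.comp_apply] at h3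
    rw [h3, ← IsScalarTower.algebraMap_apply A K L, IsScalarTower.algebraMap_apply A B L]
    rfl
  obtain ⟨ha0, u, hu⟩ := exists_eq_unit_mul_pow hinj hπ hϖ
  set a : ℕ := Ideal.ramificationIdx' (maximalIdeal A) (maximalIdeal B) with ha
  have hze : z ^ e = ρ (algebraMap B L ((u : B) * ϖ ^ a)) := by
    rw [← hu, ← himgA, hz, ← map_pow, ← map_pow, hroot]
  have heresB : ((e : ℕ) : ResidueField B) ≠ 0 := by
    intro h0
    apply heres
    have h1 : ResidueField.map (algebraMap A B) ((e : ℕ) : ResidueField A) = 0 := by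
      rw [map_natCast]; exact h0
    exact (map_eq_zero _).mp h1
  -- Step 3: the Kummer step
  set L'' : Subfield F'' := Subfield.closure (Set.range ρ ∪ {z}) with hL''
  obtain ⟨hdvrB'', ιB, hlocιB, hιBcoe, hsepιB, t, y₁, e₁, htirr, he₁dvd, hϖt⟩ :=
    kummer_step B L F'' ρ 𝒲 hdomρ hϖ u z e a he (Nat.pos_of_ne_zero ha0) heresB hze
  haveI := hdvrB''
  have hρL'' : ∀ l, ρ l ∈ L'' := fun l => Subfield.subset_closure (Or.inl ⟨l, rfl⟩)
  have hzL'' : z ∈ L'' := Subfield.subset_closure (Or.inr rfl)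
  -- Step 4: unramified base change
  have hz0 : z ≠ 0 := by
    intro h0
    rw [h0, zero_pow he.ne'] at hze
    have h1 : algebraMap B L ((u : B) * ϖ ^ a) = 0 := (map_eq_zero ρ).mp hze.symm
    have h2 : (u : B) * ϖ ^ a = 0 := IsFractionRing.injective B L (by rw [h1, map_zero])
    exact (mul_ne_zero u.ne_zero (pow_ne_zero _ hϖ.ne_zero)) h2
  have hg'inj : Function.Injective g' :=
    injective_of_uniformizer g' hrootirr (fun h0 => hz0 (by rw [hz, h0, map_zero]))
  letI algA₁K'' : Algebra (AdjoinRoot (X ^ e - C π : A[X])) K'' := g'.toAlgebra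
  letI algK₁K'' : Algebra (FractionRing (AdjoinRoot (X ^ e - C π : A[X]))) K'' :=
    (IsFractionRing.lift hg'inj).toAlgebra
  haveI tow₁ : IsScalarTower (AdjoinRoot (X ^ e - C π : A[X]))
      (FractionRing (AdjoinRoot (X ^ e - C π : A[X]))) K'' :=
    IsScalarTower.of_algebraMap_eq (fun d => (IsFractionRing.lift_algebraMap hg'inj d).symm)
  have hinjAK₁ : Function.Injective ((algebraMap (AdjoinRoot (X ^ e - C π : A[X]))
      (FractionRing (AdjoinRoot (X ^ e - C π : A[X])))).comp (AdjoinRoot.of _)) :=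
    fun a b hab => Eisenstein.of_injective (X ^ e - C π : A[X]) hpos
      (IsFractionRing.injective (AdjoinRoot (X ^ e - C π : A[X]))
        (FractionRing (AdjoinRoot (X ^ e - C π : A[X]))) hab)
  letI algKK₁ : Algebra K (FractionRing (AdjoinRoot (X ^ e - C π : A[X]))) :=
    (IsFractionRing.lift hinjAK₁).toAlgebra
  haveI tow₂ : IsScalarTower K (FractionRing (AdjoinRoot (X ^ e - C π : A[X]))) K'' := by
    apply IsScalarTower.of_algebraMap_eq'
    apply IsLocalization.ringHom_ext (nonZeroDivisors A)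
    ext a
    simp only [RingHom.comp_apply]
    have h1 : algebraMap K (FractionRing (AdjoinRoot (X ^ e - C π : A[X]))) (algebraMap A K a) =
        algebraMap (AdjoinRoot (X ^ e - C π : A[X])) _ (AdjoinRoot.of _ a) :=
      IsFractionRing.lift_algebraMap hinjAK₁ a
    rw [h1, ← IsScalarTower.algebraMap_apply (AdjoinRoot (X ^ e - C π : A[X]))
      (FractionRing (AdjoinRoot (X ^ e - C π : A[X]))) K'']
    exact (hcompat2 a).symm
  haveI : FiniteDimensional (FractionRing (AdjoinRoot (X ^ e - C π : A[X]))) K'' :=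
    Module.Finite.of_restrictScalars_finite K _ K''
  haveI : Algebra.IsSeparable (FractionRing (AdjoinRoot (X ^ e - C π : A[X]))) K'' :=
    Algebra.isSeparable_tower_top_of_isSeparable K _ K''
  have hA₁L'' : ∀ d : AdjoinRoot (X ^ e - C π : A[X]), jK (g' d) ∈ L'' := by
    intro d
    induction d using AdjoinRoot.induction_on with
    | ih P =>
      induction P using Polynomial.induction_on' with
      | add p q hp hq => rw [map_add, map_add, map_add]; exact add_mem hp hq
      | monomial n a =>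
        rw [← C_mul_X_pow_eq_monomial, map_mul, map_pow, AdjoinRoot.mk_C, AdjoinRoot.mk_X,
          map_mul, map_pow, map_mul, map_pow, himgA]
        exact mul_mem (hρL'' _) (pow_mem hzL'' n)
  have hz𝒲 : z ∈ 𝒲 := valuation_le_one_of_pow 𝒲 he.ne' (by
    rw [hze]
    have := hdomρ.1 ((u : B) * ϖ ^ a)
    exact this)
  have hA₁𝒲 : ∀ d : AdjoinRoot (X ^ e - C π : A[X]), jK (g' d) ∈ 𝒲 := by
    intro d
    induction d using AdjoinRoot.induction_on with
    | ih P =>
      induction P using Polynomial.induction_on' with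
      | add p q hp hq => rw [map_add, map_add, map_add]; exact add_mem hp hq
      | monomial n a =>
        rw [← C_mul_X_pow_eq_monomial, map_mul, map_pow, AdjoinRoot.mk_C, AdjoinRoot.mk_X,
          map_mul, map_pow, map_mul, map_pow, himgA]
        exact mul_mem (hdomρ.1 _) (pow_mem hz𝒲 n)
  have hπB : algebraMap A B π ∈ maximalIdeal B :=
    map_nonunit (algebraMap A B) π
      (by rw [hπ.maximalIdeal_eq]; exact Ideal.mem_span_singleton_self π)
  have hzval : 𝒲.valuation z < 1 := by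
    apply valuation_lt_one_of_pow 𝒲 he.ne'
    rw [hz, ← map_pow, ← map_pow, hroot, himgA]
    exact hdomρ.2 _ hπB
  have hA₁max : ∀ d ∈ maximalIdeal (AdjoinRoot (X ^ e - C π : A[X])),
      𝒲.valuation (jK (g' d)) < 1 := by
    intro d hd
    rw [hmaxA₁, Ideal.mem_span_singleton] at hd
    obtain ⟨d', rfl⟩ := hd
    rw [map_mul, map_mul, map_mul]
    have h1 : 𝒲.valuation (jK (g' d')) ≤ 1 := (𝒲.valuation_le_one_iff _).mpr (hA₁𝒲 d')
    calc 𝒲.valuation z * 𝒲.valuation (jK (g' d')) ≤ 𝒲.valuation z * 1 :=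
          mul_le_mul' le_rfl h1
      _ = 𝒲.valuation z := mul_one _
      _ < 1 := hzval
  have hgenF'' : ∀ E : Subfield F'', (∀ y, jK y ∈ E) → L'' ≤ E → E = ⊤ := by
    intro E hEK hEL
    apply hjgen E _ hEK
    have htop : E.comap (algebraMap F F'') = ⊤ := by
      apply hgen
      · rintro _ ⟨k, rfl⟩
        show algebraMap F F'' (iK' k) ∈ E
        have h1 : algebraMap F F'' (iK' k) = jK (algebraMap K' K'' k) := (hjcompat k).symm
        rw [h1]
        exact hEK _
      · rintro _ ⟨l, rfl⟩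
        exact hEL (hρL'' l)
    intro x
    have : x ∈ E.comap (algebraMap F F'') := by rw [htop]; trivial
    exact this
  obtain ⟨hwu, hsepι⟩ := unramified_at_of_core (AdjoinRoot (X ^ e - C π : A[X]))
    (FractionRing (AdjoinRoot (X ^ e - C π : A[X]))) K'' F'' hunr jK L'' 𝒲 hdvrB''
    hA₁L'' hA₁𝒲 hA₁max hgenF''
  -- Step 5: conclusions
  haveI hdvrW : IsDiscreteValuationRing (𝒲.comap (algebraMap F F'')) :=
    isDiscreteValuationRing_of_dominates B L _ hdomW
  letI algWF'' : Algebra (𝒲.comap (algebraMap F F'')) F'' :=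
    ((algebraMap F F'').comp (𝒲.comap (algebraMap F F'')).subtype).toAlgebra
  haveI towW : IsScalarTower (𝒲.comap (algebraMap F F'')) F F'' :=
    IsScalarTower.of_algebraMap_eq (fun _ => rfl)
  have hdom𝒲 : Dominates (𝒲.comap (algebraMap F F''))
      (algebraMap (𝒲.comap (algebraMap F F'')) F'') 𝒲 := by
    refine ⟨fun w => w.2, fun w hw => ?_⟩
    exact (valuation_comap_lt_one_iff 𝒲 _ _).mp
      ((ValuationSubring.valuation_lt_one_iff _ w).mp hw)
  haveI hdvr𝒲 : IsDiscreteValuationRing 𝒲 :=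
    isDiscreteValuationRing_of_dominates (𝒲.comap (algebraMap F F'')) F 𝒲 hdom𝒲
  let ι : 𝒲.comap L''.subtype →+* 𝒲 := inclOfComap 𝒲 L''.subtype
  have hτirr : Irreducible (ι t) := by
    rw [IsDiscreteValuationRing.irreducible_iff_uniformizer, ← hwu, htirr.maximalIdeal_eq,
      Ideal.map_span, Set.image_singleton]
  obtain ⟨ϖW, hϖW⟩ := IsDiscreteValuationRing.exists_irreducible (𝒲.comap (algebraMap F F''))
  have hinjBW : Function.Injective (algebraMap B (𝒲.comap (algebraMap F F''))) := by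
    intro b b' hbb
    have h1 := congrArg (fun w : 𝒲.comap (algebraMap F F'') => algebraMap F F'' (w : F)) hbb
    have h2 : ∀ b : B, algebraMap F F'' ((algebraMap B (𝒲.comap (algebraMap F F'')) b : _) : F) =
        ρ (algebraMap B L b) := fun b => (hρB b).symm
    simp only [h2] at h1
    exact IsFractionRing.injective B L (ρ.injective h1)
  obtain ⟨hn0, yW, hyW⟩ := exists_eq_unit_mul_pow hinjBW hϖ hϖW
  set n : ℕ := Ideal.ramificationIdx' (maximalIdeal B)
    (maximalIdeal (𝒲.comap (algebraMap F F''))) with hn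
  let ιW : 𝒲.comap (algebraMap F F'') →+* 𝒲 := inclOfComap 𝒲 (algebraMap F F'')
  have hιWinj : Function.Injective ιW := by
    intro w w' hww
    have := congrArg (fun x : 𝒲 => (x : F'')) hww
    exact Subtype.ext ((algebraMap F F'').injective this)
  letI algW𝒲 : Algebra (𝒲.comap (algebraMap F F'')) 𝒲 := ιW.toAlgebra
  haveI hlocW𝒲 : IsLocalHom (algebraMap (𝒲.comap (algebraMap F F'')) 𝒲) :=
    isLocalHom_inclOfComap 𝒲 (algebraMap F F'')
  obtain ⟨hm0, y', hy'⟩ := exists_eq_unit_mul_pow (A := 𝒲.comap (algebraMap F F'')) (V := 𝒲)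
    hιWinj hϖW hτirr
  set m : ℕ := Ideal.ramificationIdx' (maximalIdeal (𝒲.comap (algebraMap F F'')))
    (maximalIdeal 𝒲) with hm
  have hy2 : ιW ϖW = y' * ι t ^ m := hy'
  have hsame : ι (ιB ϖ) = ιW (algebraMap B (𝒲.comap (algebraMap F F'')) ϖ) := by
    apply Subtype.ext
    show (((ιB ϖ : 𝒲.comap L''.subtype) : L'') : F'') = algebraMap F F'' (algebraMap B F ϖ)
    rw [hιBcoe, hρB]
  have hkey : ((Units.map (ι : _ →* 𝒲) y₁ : 𝒲ˣ) : 𝒲) * ι t ^ e₁ =
      ((Units.map (ιW : _ →* 𝒲) yW * y' ^ n : 𝒲ˣ) : 𝒲) * ι t ^ (m * n) := by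
    have h1 : ι (ιB ϖ) = ι y₁ * ι t ^ e₁ := by rw [hϖt, map_mul, map_pow]
    have h2 : ιW (algebraMap B (𝒲.comap (algebraMap F F'')) ϖ) =
        ιW yW * (y' * ι t ^ m) ^ n := by rw [hyW, map_mul, map_pow, hy2]
    simp only [Units.val_mul, Units.val_pow_eq_pow_val, Units.coe_map, MonoidHom.coe_coe]
    rw [← h1, hsame, h2]
    ring
  have he₁mn : e₁ = m * n :=
    IsDiscreteValuationRing.unit_mul_pow_congr_pow hτirr hτirr _ _ _ _ hkey
  constructor
  · rw [← SepRes.iff_isSeparable]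
    have hsep1 : SepRes (ι.comp ιB) := hsepιB.comp _ _ hsepι
    have hcomp : ι.comp ιB = ιW.comp (algebraMap B (𝒲.comap (algebraMap F F''))) := by
      ext b
      show (((ιB b : 𝒲.comap L''.subtype) : L'') : F'') = algebraMap F F'' (algebraMap B F b)
      rw [hιBcoe, hρB]
    have hsep2 : SepRes (ιW.comp (algebraMap B (𝒲.comap (algebraMap F F'')))) :=
      Kummer.SepRes.congr hcomp hsep1
    exact SepRes.of_comp_left _ _ hsep2
  · intro p hp hchar hdvd
    apply heresB
    rw [CharP.cast_eq_zero_iff (ResidueField B) p]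
    obtain ⟨c', hc'⟩ := he₁dvd
    rw [hc', he₁mn]
    exact Dvd.dvd.mul_right (Dvd.dvd.mul_left hdvd m) c'

end Groth.Agent.Lib.Helper9.TameBC
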