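import Mathlib
import Groth.Prelude.Def_EtRam
import Groth.Agent.Lib.Helper9.AbhyankarCore
import Groth.Agent.Lib.Helper9.TameBC

/-!
# Ramification index versus degree for valuation subrings dominating a DVR (helper9)
-/

universe u

open IsLocalRing EtRam

namespace Groth.Agent.Lib.Helper9.TotRam

open Groth.Agent.Lib.Helper9 Groth.Agent.Lib.Helper9.DVRExt Groth.Agent.Lib.Helper9.TameBase
  Groth.Agent.Lib.Helper9.AbhyankarCore

section Bridge

variable (A K : Type u) {L : Type u} [CommRing A] [IsDomain A] [IsDiscreteValuationRing A]
  [Field K] [Algebra A K] [IsFractionRing A K] [Field L] [Algebra K L] [Algebra A L]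
  [IsScalarTower A K L] [FiniteDimensional K L] [Algebra.IsSeparable K L]

include K in
set_option maxHeartbeats 1000000 in
/-- The centre of a dominating valuation subring lies over the maximal ideal, and the
ramification indices agree. -/
theorem ramIdx_eq (V : ValuationSubring L) (hdom : Dominates A (algebraMap A L) V)
    (𝔫 : Ideal (integralClosure A L)) [h𝔫 : 𝔫.IsMaximal] (e : Localization.AtPrime 𝔫 ≃+* V)
    (h𝔫0 : 𝔫 ≠ ⊥)
    (he : ∀ b : integralClosure A L, ((e (algebraMap _ _ b) : V) : L) = (b : L)) :
    letI : Algebra A V := (RingHom.codRestrict (algebraMap A L) V hdom.1).toAlgebra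
    Ideal.ramificationIdx' (maximalIdeal A) (maximalIdeal V) =
      Ideal.ramificationIdx' (maximalIdeal A) 𝔫 := by
  classical
  letI algAV : Algebra A V := (RingHom.codRestrict (algebraMap A L) V hdom.1).toAlgebra
  haveI : IsDedekindDomain (integralClosure A L) := integralClosure.isDedekindDomain A K L
  haveI hdvrV : IsDiscreteValuationRing V := isDiscreteValuationRing_of_dominates A K V hdom
  letI algSV : Algebra (integralClosure A L) V :=
    (e.toRingHom.comp (algebraMap (integralClosure A L) (Localization.AtPrime 𝔫))).toAlgebra
  haveI tow : IsScalarTower A (integralClosure A L) V :=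
    IsScalarTower.of_algebraMap_eq (fun a => Subtype.ext (by
      show algebraMap A L a = ((e (algebraMap _ _ (algebraMap A (integralClosure A L) a)) : V) : L)
      rw [he]
      rfl))
  have hmap : Ideal.map (algebraMap (integralClosure A L) V) 𝔫 = maximalIdeal V := by
    show Ideal.map (e.toRingHom.comp (algebraMap (integralClosure A L) (Localization.AtPrime 𝔫))) 𝔫 = _
    rw [← Ideal.map_map, Localization.AtPrime.map_eq_maximalIdeal]
    have hmax : (Ideal.map e.toRingHom (maximalIdeal (Localization.AtPrime 𝔫))).IsMaximal :=
      (maximalIdeal.isMaximal (Localization.AtPrime 𝔫)).map_bijective e.toRingHom e.bijective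
    exact IsLocalRing.eq_maximalIdeal hmax
  have hinjSV : Function.Injective (algebraMap (integralClosure A L) V) := by
    intro x y hxy
    have := congrArg (fun v : V => (v : L)) hxy
    have hx : ((algebraMap (integralClosure A L) V x : V) : L) = (x : L) := he x
    have hy : ((algebraMap (integralClosure A L) V y : V) : L) = (y : L) := he y
    rw [hx, hy] at this
    exact Subtype.ext this
  have hinjAV : Function.Injective (algebraMap A V) := by
    intro a b hab
    apply algebraMap_injective_of_tower A K (L := L)
    exact congrArg (fun v : V => (v : L)) hab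
  have hmV0 : maximalIdeal V ≠ ⊥ := IsDiscreteValuationRing.not_a_field V
  have h1 := Ideal.ramificationIdx'_algebra_tower (R := A) (S := integralClosure A L) (T := V)
    (p := maximalIdeal A) (P := 𝔫) (Q := maximalIdeal V)
    (by rw [hmap]; exact hmV0)
    (by
      rw [Ne, Ideal.map_eq_bot_iff_of_injective hinjAV]
      exact IsDiscreteValuationRing.not_a_field A)
    (by rw [hmap])
  rw [h1]
  have h2 : Ideal.ramificationIdx' 𝔫 (maximalIdeal V) = 1 := by
    rw [← hmap]
    apply Ideal.ramificationIdx'_map_self_eq_one
    · rw [hmap]; exact (maximalIdeal.isMaximal V).ne_top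
    · rw [hmap]; exact hmV0
  rw [h2, mul_one]

include K in
/-- The centre of a dominating valuation subring lies over the maximal ideal of `A`. -/
theorem liesOver_of_mem_iff (V : ValuationSubring L) (hdom : Dominates A (algebraMap A L) V)
    (𝔫 : Ideal (integralClosure A L)) [h𝔫 : 𝔫.IsMaximal]
    (hmem : ∀ b : integralClosure A L, b ∈ 𝔫 ↔ V.valuation (b : L) < 1) :
    𝔫.LiesOver (maximalIdeal A) := by
  constructor
  ext a
  rw [Ideal.mem_comap, hmem]
  constructor
  · intro ha
    exact hdom.2 a ha
  · intro hlt
    by_contra hna
    have hu : IsUnit a := by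
      rwa [mem_maximalIdeal, mem_nonunits_iff, not_not] at hna
    have hu' : IsUnit (algebraMap A (integralClosure A L) a) := hu.map _
    have hin : algebraMap A (integralClosure A L) a ∈ 𝔫 := (hmem _).mpr hlt
    exact h𝔫.ne_top (Ideal.eq_top_of_isUnit_mem _ hin hu')

include K in
set_option maxHeartbeats 1000000 in
/-- The ramification index of a dominating valuation subring is at most the degree. -/
theorem ramIdx_le_finrank (V : ValuationSubring L) (hdom : Dominates A (algebraMap A L) V) :
    letI : Algebra A V := (RingHom.codRestrict (algebraMap A L) V hdom.1).toAlgebra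
    Ideal.ramificationIdx' (maximalIdeal A) (maximalIdeal V) ≤ Module.finrank K L := by
  classical
  obtain ⟨𝔫, h𝔫, e, h𝔫0, he, hmem⟩ := exists_equiv_localization A K V hdom
  rw [ramIdx_eq A K V hdom 𝔫 e h𝔫0 he]
  haveI : IsDedekindDomain (integralClosure A L) := integralClosure.isDedekindDomain A K L
  haveI : Module.Finite A (integralClosure A L) :=
    IsIntegralClosure.finite A K L (integralClosure A L)
  haveI : IsFractionRing (integralClosure A L) L :=
    integralClosure.isFractionRing_of_finite_extension K L
  have hinjAB : Function.Injective (algebraMap A (integralClosure A L)) := by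
    intro a b hab
    apply algebraMap_injective_of_tower A K (L := L)
    exact congrArg (algebraMap (integralClosure A L) L) hab
  haveI : Module.IsTorsionFree A (integralClosure A L) :=
    Module.isTorsionFree_iff_algebraMap_injective.mpr hinjAB
  haveI : NoZeroSMulDivisors A (integralClosure A L) := ⟨fun {c x} h => by
    rw [Algebra.smul_def, mul_eq_zero] at h
    rcases h with h | h
    · left
      exact hinjAB (by rw [h, map_zero])
    · right
      exact h⟩
  haveI := liesOver_of_mem_iff A K V hdom 𝔫 hmem
  exact Ideal.ramificationIdx_le_finrank (integralClosure A L) K L 𝔫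

include K in
/-- Every prime of the integral closure lying over the maximal ideal of `A` is the centre of a
dominating valuation subring. -/
theorem exists_dominating_of_prime (P : Ideal (integralClosure A L)) [hP : P.IsPrime]
    [hPo : P.LiesOver (maximalIdeal A)] :
    ∃ V' : ValuationSubring L, Dominates A (algebraMap A L) V' ∧
      ∀ b : integralClosure A L, b ∈ P ↔ V'.valuation (b : L) < 1 := by
  classical
  have hunit : ∀ y : P.primeCompl, IsUnit (algebraMap (integralClosure A L) L y) := by
    intro y
    have hy0 : (y : integralClosure A L) ≠ 0 := by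
      intro h0
      exact y.2 (by rw [h0]; exact P.zero_mem)
    have : ((y : integralClosure A L) : L) ≠ 0 := fun h => hy0 (Subtype.ext h)
    exact IsUnit.mk0 _ this
  let f : Localization.AtPrime P →+* L := IsLocalization.lift (M := P.primeCompl) hunit
  have hf : ∀ b : integralClosure A L, f (algebraMap _ (Localization.AtPrime P) b) = (b : L) :=
    fun b => IsLocalization.lift_eq hunit b
  obtain ⟨V', hV', hloc0⟩ := IsLocalRing.exists_factor_valuationRing f
  have hloc : IsLocalHom (f.codRestrict V' (fun x => hV' x)) := hloc0
  have hin : ∀ b : integralClosure A L, b ∈ P → V'.valuation (b : L) < 1 := by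
    intro b hb
    have hnu : ¬ IsUnit (algebraMap _ (Localization.AtPrime P) b) := by
      have hm : algebraMap _ (Localization.AtPrime P) b ∈
          maximalIdeal (Localization.AtPrime P) := by
        rw [← Localization.AtPrime.map_eq_maximalIdeal]
        exact Ideal.mem_map_of_mem _ hb
      exact (mem_maximalIdeal _).mp hm
    have hnu' : ¬ IsUnit (f.codRestrict V' (fun x => hV' x)
        (algebraMap _ (Localization.AtPrime P) b)) := fun h => hnu (hloc.map_nonunit _ h)
    have hm' : (f.codRestrict V' (fun x => hV' x) (algebraMap _ (Localization.AtPrime P) b) : V') ∈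
        maximalIdeal V' := (mem_maximalIdeal _).mpr hnu'
    have := (V'.valuation_lt_one_iff _).mp hm'
    have hval : ((f.codRestrict V' (fun x => hV' x) (algebraMap _ (Localization.AtPrime P) b) : V')
        : L) = (b : L) := hf b
    rwa [hval] at this
  refine ⟨V', ⟨?_, ?_⟩, ?_⟩
  · intro a
    have : algebraMap A L a = f (algebraMap _ (Localization.AtPrime P)
        (algebraMap A (integralClosure A L) a)) := by
      rw [hf]; rfl
    rw [this]
    exact hV' _
  · intro a ha
    have hmem : algebraMap A (integralClosure A L) a ∈ P := by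
      have := hPo.over
      rw [this] at ha
      exact ha
    exact hin _ hmem
  · intro b
    refine ⟨hin b, ?_⟩
    intro hlt
    by_contra hb
    have hu : IsUnit (algebraMap _ (Localization.AtPrime P) b) :=
      IsLocalization.map_units (Localization.AtPrime P) (⟨b, hb⟩ : P.primeCompl)
    have hu' : IsUnit (f.codRestrict V' (fun x => hV' x)
        (algebraMap _ (Localization.AtPrime P) b)) := hu.map _
    have h1 := (V'.valuation_eq_one_iff _).mp hu'
    have hval : ((f.codRestrict V' (fun x => hV' x) (algebraMap _ (Localization.AtPrime P) b) : V')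
        : L) = (b : L) := hf b
    rw [hval] at h1
    rw [h1] at hlt
    exact lt_irrefl _ hlt

include K in
set_option maxHeartbeats 1000000 in
/-- Totally ramified: the ramification index equals the degree. -/
theorem ramIdx_eq_finrank (ht : IsTotallyRamified A (algebraMap A L)) (V : ValuationSubring L)
    (hdom : Dominates A (algebraMap A L) V) :
    letI : Algebra A V := (RingHom.codRestrict (algebraMap A L) V hdom.1).toAlgebra
    Ideal.ramificationIdx' (maximalIdeal A) (maximalIdeal V) = Module.finrank K L := by
  classical
  obtain ⟨𝔫, h𝔫, e, h𝔫0, he, hmem⟩ := exists_equiv_localization A K V hdom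
  rw [ramIdx_eq A K V hdom 𝔫 e h𝔫0 he]
  haveI : IsDedekindDomain (integralClosure A L) := integralClosure.isDedekindDomain A K L
  haveI : Module.Finite A (integralClosure A L) :=
    IsIntegralClosure.finite A K L (integralClosure A L)
  haveI : IsFractionRing (integralClosure A L) L :=
    integralClosure.isFractionRing_of_finite_extension K L
  have hinjAB : Function.Injective (algebraMap A (integralClosure A L)) := by
    intro a b hab
    apply algebraMap_injective_of_tower A K (L := L)
    exact congrArg (algebraMap (integralClosure A L) L) hab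
  haveI : Module.IsTorsionFree A (integralClosure A L) :=
    Module.isTorsionFree_iff_algebraMap_injective.mpr hinjAB
  haveI : NoZeroSMulDivisors A (integralClosure A L) := ⟨fun {c x} h => by
    rw [Algebra.smul_def, mul_eq_zero] at h
    rcases h with h | h
    · left
      exact hinjAB (by rw [h, map_zero])
    · right
      exact h⟩
  haveI hlo := liesOver_of_mem_iff A K V hdom 𝔫 hmem
  have hp0 : maximalIdeal A ≠ ⊥ := IsDiscreteValuationRing.not_a_field A
  have hsum := Ideal.sum_ramification_inertia (integralClosure A L) K L
    (p := maximalIdeal A) hp0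
  have hfin : IsDedekindDomain.primesOverFinset (maximalIdeal A) (integralClosure A L) = {𝔫} := by
    ext P
    rw [IsDedekindDomain.mem_primesOverFinset_iff hp0, Finset.mem_singleton]
    constructor
    · rintro ⟨hP1, hP2⟩
      obtain ⟨V', hV', hP⟩ := exists_dominating_of_prime A K P
      have hVV : V' = V := ht.2.1 V' V hV' hdom
      ext b
      rw [hP, hmem, hVV]
    · rintro rfl
      exact ⟨h𝔫.isPrime, hlo⟩
  rw [hfin, Finset.sum_singleton] at hsum
  have hf : Ideal.inertiaDeg' (maximalIdeal A) 𝔫 = 1 := by
    rw [Ideal.inertiaDeg'_algebraMap]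
    letI := Ideal.Quotient.field (maximalIdeal A)
    refine (finrank_eq_one_iff_of_nonzero' (1 : integralClosure A L ⧸ 𝔫) one_ne_zero).mpr ?_
    intro w
    obtain ⟨s, rfl⟩ := Ideal.Quotient.mk_surjective w
    obtain ⟨a, ha⟩ := ht.2.2 V hdom (IsLocalRing.residue V (e (algebraMap _ _ s)))
    refine ⟨Ideal.Quotient.mk _ a, ?_⟩
    rw [Algebra.smul_def, mul_one, Ideal.Quotient.algebraMap_mk_of_liesOver,
      Ideal.Quotient.eq, hmem]
    have ha' : IsLocalRing.residue V (RingHom.codRestrict (algebraMap A L) V hdom.1 a) =
        IsLocalRing.residue V (e (algebraMap _ _ s)) := ha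
    rw [← sub_eq_zero, ← map_sub, IsLocalRing.residue_eq_zero_iff, V.valuation_lt_one_iff] at ha'
    have hval : (((RingHom.codRestrict (algebraMap A L) V hdom.1 a - e (algebraMap _ _ s) : V))
        : L) = ((algebraMap A (integralClosure A L) a - s : integralClosure A L) : L) := by
      push_cast
      rw [he]
      rfl
    rwa [hval] at ha'
  rw [hf, mul_one] at hsum
  exact hsum

end Bridge

section Core

variable (A B K L K₁ M : Type u) [CommRing A] [IsDomain A] [IsDiscreteValuationRing A]
  [CommRing B] [IsDomain B] [IsDiscreteValuationRing B] [Algebra A B]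
  [Field K] [Field L] [Algebra A K] [IsFractionRing A K] [Algebra B L] [IsFractionRing B L]
  [Field K₁] [Algebra K K₁] [FiniteDimensional K K₁] [Algebra.IsSeparable K K₁]
  [Algebra A K₁] [IsScalarTower A K K₁]
  [Field M] [Algebra L M] [Algebra K₁ M] [FiniteDimensional L M] [Algebra.IsSeparable L M]
  [Algebra B M] [IsScalarTower B L M]

set_option maxHeartbeats 2000000 in
/-- The numerical core: for a weakly unramified `A → B` and totally ramified `K₁ / K`, any
valuation subring `W` of a compositum `M` dominating `B` has `[K₁ : K] ≤ [M : L]`, and if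
equality holds then `W ∩ K₁ → W` is weakly unramified. -/
theorem core (hw : IsWeaklyUnramified A B)
    (ht : IsTotallyRamified A (algebraMap A K₁))
    (hcomm : ∀ a : A, algebraMap K₁ M (algebraMap A K₁ a) = algebraMap B M (algebraMap A B a))
    (W : ValuationSubring M) (hW : Dominates B (algebraMap B M) W) :
    Module.finrank K K₁ ≤ Module.finrank L M ∧
      (Module.finrank L M ≤ Module.finrank K K₁ →
        letI : Algebra (W.comap (algebraMap K₁ M)) W :=
          (inclOfComap W (algebraMap K₁ M)).toAlgebra
        IsWeaklyUnramified (W.comap (algebraMap K₁ M)) W) := by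
  classical
  have hdomV : Dominates A (algebraMap A K₁) (W.comap (algebraMap K₁ M)) := by
    refine ⟨fun a => ?_, fun a ha => ?_⟩
    · show algebraMap K₁ M (algebraMap A K₁ a) ∈ W
      rw [hcomm]
      exact hW.1 _
    · rw [valuation_comap_lt_one_iff, hcomm]
      apply hW.2
      have hw' : (maximalIdeal A).map (algebraMap A B) = maximalIdeal B := hw
      rw [← hw']
      exact Ideal.mem_map_of_mem _ ha
  haveI hdvrV : IsDiscreteValuationRing (W.comap (algebraMap K₁ M)) :=
    isDiscreteValuationRing_of_dominates A K _ hdomV
  haveI hdvrW : IsDiscreteValuationRing W := isDiscreteValuationRing_of_dominates B L W hW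
  obtain ⟨π, hπ⟩ := IsDiscreteValuationRing.exists_irreducible A
  obtain ⟨π₁, hπ₁⟩ := IsDiscreteValuationRing.exists_irreducible (W.comap (algebraMap K₁ M))
  obtain ⟨ϖ, hϖ⟩ := IsDiscreteValuationRing.exists_irreducible W
  -- `A → V₁`
  letI algAV : Algebra A (W.comap (algebraMap K₁ M)) :=
    (RingHom.codRestrict (algebraMap A K₁) (W.comap (algebraMap K₁ M)) hdomV.1).toAlgebra
  haveI : IsLocalHom (algebraMap A (W.comap (algebraMap K₁ M))) :=
    isLocalHom_of_dominates _ _ hdomV
  have hinjAV : Function.Injective (algebraMap A (W.comap (algebraMap K₁ M))) := by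
    intro a b hab
    apply algebraMap_injective_of_tower A K (L := K₁)
    exact congrArg (fun v : W.comap (algebraMap K₁ M) => (v : K₁)) hab
  obtain ⟨-, w₁, hw₁⟩ := exists_eq_unit_mul_pow hinjAV hπ hπ₁
  have hn := ramIdx_eq_finrank A K ht (W.comap (algebraMap K₁ M)) hdomV
  rw [hn] at hw₁
  -- `B → W`
  letI algBW : Algebra B W := (RingHom.codRestrict (algebraMap B M) W hW.1).toAlgebra
  haveI : IsLocalHom (algebraMap B W) := isLocalHom_of_dominates _ W hW
  have hinjBW : Function.Injective (algebraMap B W) := by
    intro a b hab
    apply algebraMap_injective_of_tower B L (L := M)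
    exact congrArg (fun v : W => (v : M)) hab
  have hπB : Irreducible (algebraMap A B π) := by
    have hw' : (maximalIdeal A).map (algebraMap A B) = maximalIdeal B := hw
    rw [IsDiscreteValuationRing.irreducible_iff_uniformizer, ← hw', hπ.maximalIdeal_eq,
      Ideal.map_span, Set.image_singleton]
  obtain ⟨-, w₂, hw₂⟩ := exists_eq_unit_mul_pow hinjBW hπB hϖ
  have hle := ramIdx_le_finrank B L W hW
  -- `V₁ → W`
  letI algVW : Algebra (W.comap (algebraMap K₁ M)) W :=
    (inclOfComap W (algebraMap K₁ M)).toAlgebra
  haveI : IsLocalHom (algebraMap (W.comap (algebraMap K₁ M)) W) :=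
    isLocalHom_inclOfComap W (algebraMap K₁ M)
  have hinjVW : Function.Injective (algebraMap (W.comap (algebraMap K₁ M)) W) := by
    intro a b hab
    have := congrArg (fun v : W => (v : M)) hab
    exact Subtype.ext ((algebraMap K₁ M).injective this)
  obtain ⟨he0, w₃, hw₃⟩ := exists_eq_unit_mul_pow hinjVW hπ₁ hϖ
  have hcompat : algebraMap (W.comap (algebraMap K₁ M)) W
      (algebraMap A (W.comap (algebraMap K₁ M)) π) = algebraMap B W (algebraMap A B π) :=
    Subtype.ext (hcomm π)
  have key : Ideal.ramificationIdx' (maximalIdeal (W.comap (algebraMap K₁ M))) (maximalIdeal W) *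
      Module.finrank K K₁ = Ideal.ramificationIdx' (maximalIdeal B) (maximalIdeal W) := by
    rw [hw₁, hw₂, map_mul, map_pow, hw₃, mul_pow, ← mul_assoc, ← pow_mul] at hcompat
    have hu : IsUnit (algebraMap (W.comap (algebraMap K₁ M)) W (w₁ : W.comap (algebraMap K₁ M)) *
        (w₃ : W) ^ Module.finrank K K₁) :=
      (w₁.isUnit.map _).mul (w₃.isUnit.pow _)
    exact IsDiscreteValuationRing.unit_mul_pow_congr_pow hϖ hϖ hu.unit w₂ _ _ hcompat
  have hnpos : 0 < Module.finrank K K₁ := Module.finrank_pos
  have he1 : 1 ≤ Ideal.ramificationIdx' (maximalIdeal (W.comap (algebraMap K₁ M)))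
      (maximalIdeal W) := Nat.one_le_iff_ne_zero.mpr he0
  refine ⟨?_, fun hle' => ?_⟩
  · calc Module.finrank K K₁ ≤ Ideal.ramificationIdx' (maximalIdeal (W.comap (algebraMap K₁ M)))
          (maximalIdeal W) * Module.finrank K K₁ := Nat.le_mul_of_pos_left _ he1
      _ = Ideal.ramificationIdx' (maximalIdeal B) (maximalIdeal W) := key
      _ ≤ Module.finrank L M := hle
  · have h1 : Ideal.ramificationIdx' (maximalIdeal (W.comap (algebraMap K₁ M)))
        (maximalIdeal W) = 1 := by
      have h2 : Ideal.ramificationIdx' (maximalIdeal (W.comap (algebraMap K₁ M)))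
          (maximalIdeal W) * Module.finrank K K₁ ≤ 1 * Module.finrank K K₁ := by
        rw [key, one_mul]
        exact hle.trans hle'
      have h3 := Nat.le_of_mul_le_mul_right h2 hnpos
      omega
    show Ideal.map (algebraMap (W.comap (algebraMap K₁ M)) W)
      (maximalIdeal (W.comap (algebraMap K₁ M))) = maximalIdeal W
    rw [hπ₁.maximalIdeal_eq, Ideal.map_span, Set.image_singleton, hw₃, h1, pow_one,
      hϖ.maximalIdeal_eq]
    exact Ideal.span_singleton_eq_span_singleton.mpr
      ⟨w₃⁻¹, by rw [mul_comm (w₃ : W), mul_assoc, Units.mul_inv, mul_one]⟩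

end Core

end Groth.Agent.Lib.Helper9.TotRam
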