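import Mathlib
import Groth.Agent.H34.NormalDimTwo
import Groth.Agent.H8.DimFormulaCat
import Groth.Agent.Lib.Helper48.NagataAnalyticallyUnramified

/-!
# Principal radical ideals in catenary Noetherian normal local domains (helper9)

Generalisation to arbitrary dimension of helper34's dimension-two argument
(`Groth.Agent.H34.NormalDimTwo.main`): the Artinian minimality argument is run simultaneously in the
localizations at the (height two, by catenarity) minimal primes of `(f₀, h)`.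
-/

set_option autoImplicit false
set_option linter.unusedSectionVars false
set_option linter.style.haveILetI false
universe u

namespace Groth.Agent.Lib.Helper9.PrincipalRadical

open IsLocalRing IsDiscreteValuationRing Groth.Agent.H34.NormalDimTwo

section Part1

variable {A : Type u} [CommRing A] [IsDomain A] [IsNoetherianRing A] [IsLocalRing A]
  [IsIntegrallyClosed A]

/-- a height one prime -/
def H1 (q : Ideal A) : Prop := q.IsPrime ∧ q.height = 1

theorem one_le_height {q : Ideal A} (hq : q.IsPrime) (hq0 : q ≠ ⊥) : 1 ≤ q.height := by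
  have hlt : (⊥ : Ideal A) < q := bot_lt_iff_ne_bot.mpr hq0
  have : (⊥ : Ideal A).IsPrime := Ideal.isPrime_bot
  have h2 := Ideal.height_strict_mono_of_isPrime_of_isPrime hlt
  rw [Ideal.height_bot] at h2
  exact Order.one_le_iff_pos.mpr h2

theorem H1.ne_bot {q : Ideal A} (hq : H1 q) : q ≠ ⊥ := Ideal.ne_bot_of_height_eq_one hq.2

theorem H1.eq_of_le {q P : Ideal A} (hq : H1 q) (hP : P.IsPrime) (hle : P ≤ q) (hP0 : P ≠ ⊥) :
    P = q := by
  by_contra hne
  have := hq.1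
  have hlt : P < q := lt_of_le_of_ne hle hne
  have h1 := Ideal.height_strict_mono_of_isPrime_of_isPrime hlt
  rw [hq.2] at h1
  have h2 := one_le_height hP hP0
  exact absurd (lt_of_le_of_lt h2 h1) (lt_irrefl _)

theorem mem_ass_of_h1 {f : A} (hf : f ≠ 0) {P : Ideal A} (hP : H1 P) (hfP : f ∈ P) :
    P ∈ associatedPrimes A (A ⧸ Ideal.span {f}) := by
  apply minimalPrimes_subset_ass f
  refine ⟨⟨hP.1, ?_⟩, ?_⟩
  · rw [Ideal.span_le]
    intro x hx
    rw [Set.mem_singleton_iff] at hx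
    rw [hx]; exact hfP
  · rintro P' ⟨hP', hle⟩ hP'P
    have hP'0 : P' ≠ ⊥ := by
      rintro rfl
      apply hf
      have : f ∈ (⊥ : Ideal A) := hle (Ideal.mem_span_singleton_self f)
      simpa using this
    rw [hP.eq_of_le hP' hP'P hP'0]

theorem isDVR_of_mem_ass {f : A} (hf : f ≠ 0) (q : Ideal A) [q.IsPrime]
    (hq : q ∈ associatedPrimes A (A ⧸ Ideal.span {f})) :
    IsDiscreteValuationRing (Localization.AtPrime q) :=
  Groth.Agent.Lib.Helper48.isDiscreteValuationRing_atPrime_of_mem_associatedPrimes f hf q hq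

theorem h1_of_mem_ass {f : A} (hf : f ≠ 0) {q : Ideal A}
    (hq : q ∈ associatedPrimes A (A ⧸ Ideal.span {f})) : H1 q ∧ f ∈ q := by
  haveI hqp : q.IsPrime := hq.isPrime
  have hfq : f ∈ q := by
    have := IsAssociatedPrime.annihilator_le hq
    rw [Submodule.annihilator_top, Ideal.annihilator_quotient] at this
    exact this (Ideal.mem_span_singleton_self f)
  haveI := isDVR_of_mem_ass hf q hq
  have hnf : ¬ IsField (Localization.AtPrime q) :=
    IsDiscreteValuationRing.not_isField (Localization.AtPrime q)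
  have h1 := IsPrincipalIdealRing.ringKrullDim_eq_one (Localization.AtPrime q) hnf
  rw [IsLocalization.AtPrime.ringKrullDim_eq_height q (Localization.AtPrime q)] at h1
  refine ⟨⟨hqp, ?_⟩, hfq⟩
  exact_mod_cast h1

theorem H1.isDVR (q : Ideal A) [hqp : q.IsPrime] (hq : H1 q) :
    IsDiscreteValuationRing (Localization.AtPrime q) := by
  obtain ⟨f, hfq, hf⟩ := Submodule.exists_mem_ne_zero_of_ne_bot hq.ne_bot
  exact isDVR_of_mem_ass hf q (mem_ass_of_h1 hf hq hfq)

end Part1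

section Part2

variable {A : Type u} [CommRing A] [IsDomain A] [IsNoetherianRing A] [IsLocalRing A]
  [IsIntegrallyClosed A]

/-- local data at a prime `q ≠ q₁`. -/
theorem exists_local_data {f : A} (hf : f ≠ 0) {q q₁ : Ideal A}
    (hq : H1 q) (hq₁ : H1 q₁) (hne : q ≠ q₁) :
    ∃ (e : A) (n : ℕ), e ∈ q ∧ e ∉ q₁ ∧ 0 < n ∧
      ∀ t : A, ∃ s, s ∉ q ∧ (f + e ^ n * t) ∣ s * f := by
  have hnle : ¬ q ≤ q₁ := fun hle => hne (hq₁.eq_of_le hq.1 hle hq.ne_bot)
  obtain ⟨e, heq, heq₁⟩ := SetLike.not_le_iff_exists.mp hnle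
  haveI := hq.1
  haveI := hq.isDVR q
  have hfin : ord q f ≠ ⊤ := fun h => hf ((ord_eq_top_iff q).mp h)
  obtain ⟨k, hk⟩ := ENat.ne_top_iff_exists.mp hfin
  refine ⟨e, k + 1, heq, heq₁, Nat.succ_pos k, fun t => ?_⟩
  have h1 : ord q f < ord q (e ^ (k + 1) * t) := by
    rw [ord_mul, ord_pow, ← hk]
    have he1 : 1 ≤ ord q e := (one_le_ord_iff q).mpr heq
    calc (k : ℕ∞) < ((k + 1 : ℕ) : ℕ∞) := by exact_mod_cast Nat.lt_succ_self k
      _ = (k + 1) • (1 : ℕ∞) := by simp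
      _ ≤ (k + 1) • ord q e := nsmul_le_nsmul_right he1 _
      _ ≤ (k + 1) • ord q e + ord q t := le_self_add
  have h2 : ord q (f + e ^ (k + 1) * t) = ord q f := ord_add_eq_of_lt q h1
  exact (ord_le_iff q).mp (le_of_eq h2)

/-- the perturbation lemma. -/
theorem exists_perturbation {f h : A} (hf : f ≠ 0)
    (hh : ∀ q ∈ associatedPrimes A (A ⧸ Ideal.span {f}), h ∉ q)
    {q₁ : Ideal A} (hq₁ : q₁ ∈ associatedPrimes A (A ⧸ Ideal.span {f}))
    (hbad : ∃ a ∈ q₁, ∀ s, s ∉ q₁ → ¬ f ∣ s * a) :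
    ∃ π : A, (∀ q ∈ associatedPrimes A (A ⧸ Ideal.span {f}), π ∈ q) ∧
      (∀ q ∈ associatedPrimes A (A ⧸ Ideal.span {f}), ∃ s, s ∉ q ∧ (f + h * π) ∣ s * f) ∧
      (∀ b, f = (f + h * π) * b → ¬ IsUnit b) := by
  classical
  have hmid₁ : H1 q₁ := (h1_of_mem_ass hf hq₁).1
  have hfq₁ : f ∈ q₁ := (h1_of_mem_ass hf hq₁).2
  haveI := hmid₁.1
  haveI := hmid₁.isDVR q₁
  -- ord f ≥ 2
  have hord2 : 2 ≤ ord q₁ f := by
    obtain ⟨a, haq, ha⟩ := hbad
    have h1 : ¬ ord q₁ f ≤ ord q₁ a := by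
      rw [ord_le_iff]
      rintro ⟨s, hs, hd⟩
      exact ha s hs hd
    have h2 : 1 ≤ ord q₁ a := (one_le_ord_iff q₁).mpr haq
    have h3 : ord q₁ a < ord q₁ f := not_le.mp h1
    have h4 : 1 < ord q₁ f := lt_of_le_of_lt h2 h3
    have : (2 : ℕ∞) = 1 + 1 := by norm_num
    rw [this]
    exact Order.add_one_le_of_lt h4
  -- local data
  have hdata : ∀ q : Ideal A, ∃ (e : A) (n : ℕ),
      q ∈ associatedPrimes A (A ⧸ Ideal.span {f}) → q ≠ q₁ →
        (e ∈ q ∧ e ∉ q₁ ∧ 0 < n ∧ ∀ t : A, ∃ s, s ∉ q ∧ (f + e ^ n * t) ∣ s * f) := by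
    intro q
    by_cases hq : q ∈ associatedPrimes A (A ⧸ Ideal.span {f}) ∧ q ≠ q₁
    · obtain ⟨e, n, hen⟩ := exists_local_data hf (h1_of_mem_ass hf hq.1).1 hmid₁ hq.2
      exact ⟨e, n, fun _ _ => hen⟩
    · exact ⟨1, 0, fun h1 h2 => absurd ⟨h1, h2⟩ hq⟩
  choose e n hen using hdata
  obtain ⟨π₁, hπ₁q, hπ₁⟩ := exists_ord_eq_one q₁
  set Q : Finset (Ideal A) := (associatedPrimes.finite A (A ⧸ Ideal.span {f})).toFinset with hQ
  have hQmem : ∀ q, q ∈ Q ↔ q ∈ associatedPrimes A (A ⧸ Ideal.span {f}) := by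
    intro q; rw [hQ, Set.Finite.mem_toFinset]
  set E : A := ∏ q ∈ Q.erase q₁, e q ^ n q with hE
  have hEq₁ : E ∉ q₁ := by
    rw [hE, Ideal.IsPrime.prod_mem_iff]
    rintro ⟨q, hq, hmem⟩
    rw [Finset.mem_erase] at hq
    have := hen q ((hQmem q).mp hq.2) hq.1
    exact this.2.1 (Ideal.IsPrime.mem_of_pow_mem inferInstance _ hmem)
  refine ⟨π₁ * E, ?_, ?_, ?_⟩
  · intro q hq
    by_cases hqq : q = q₁
    · rw [hqq]; exact Ideal.mul_mem_right _ _ hπ₁q
    · have hmemQ : q ∈ Q.erase q₁ := Finset.mem_erase.mpr ⟨hqq, (hQmem q).mpr hq⟩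
      have hd : e q ^ n q ∣ E := Finset.dvd_prod_of_mem (fun q => e q ^ n q) hmemQ
      obtain ⟨c, hc⟩ := hd
      have := hen q hq hqq
      rw [hc]
      apply Ideal.mul_mem_left
      apply Ideal.mul_mem_right
      exact Ideal.pow_mem_of_mem _ this.1 _ this.2.2.1
  · -- local divisibility
    have hordhπ : ord q₁ (h * (π₁ * E)) = 1 := by
      rw [ord_mul, ord_mul, hπ₁, (ord_eq_zero_iff q₁).mpr (hh q₁ hq₁),
        (ord_eq_zero_iff q₁).mpr hEq₁]
      simp
    intro q hq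
    by_cases hqq : q = q₁
    · rw [hqq, ← ord_le_iff]
      have hlt : ord q₁ (h * (π₁ * E)) < ord q₁ f := by
        rw [hordhπ]
        exact lt_of_lt_of_le (by norm_num) hord2
      rw [add_comm, ord_add_eq_of_lt q₁ hlt, hordhπ]
      exact le_trans (by norm_num) hord2
    · have hmemQ : q ∈ Q.erase q₁ := Finset.mem_erase.mpr ⟨hqq, (hQmem q).mpr hq⟩
      have hprod := Finset.mul_prod_erase (Q.erase q₁) (fun q => e q ^ n q) hmemQ
      obtain ⟨s, hs, hd⟩ := (hen q hq hqq).2.2.2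
        (h * π₁ * ∏ x ∈ (Q.erase q₁).erase q, e x ^ n x)
      refine ⟨s, hs, ?_⟩
      have : f + h * (π₁ * E) =
          f + e q ^ n q * (h * π₁ * ∏ x ∈ (Q.erase q₁).erase q, e x ^ n x) := by
        rw [hE, ← hprod]; ring
      rw [this]
      exact hd
  · intro b hb hbu
    have hordf' : ord q₁ (f + h * (π₁ * E)) = 1 := by
      have hordhπ : ord q₁ (h * (π₁ * E)) = 1 := by
        rw [ord_mul, ord_mul, hπ₁, (ord_eq_zero_iff q₁).mpr (hh q₁ hq₁),
          (ord_eq_zero_iff q₁).mpr hEq₁]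
        simp
      have hlt : ord q₁ (h * (π₁ * E)) < ord q₁ f := by
        rw [hordhπ]
        exact lt_of_lt_of_le (by norm_num) hord2
      rw [add_comm, ord_add_eq_of_lt q₁ hlt, hordhπ]
    have hb0 : ord q₁ b = 0 := by
      rw [ord_eq_zero_iff]
      intro hbq
      exact (inferInstance : q₁.IsPrime).ne_top (Ideal.eq_top_of_isUnit_mem _ hbq hbu)
    have : ord q₁ f = 1 := by
      conv_lhs => rw [hb]
      rw [ord_mul, hordf', hb0, add_zero]
    rw [this] at hord2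
    norm_num at hord2

end Part2

section Part3

/-- simultaneous minimal elements in finitely many Artinian quotients. -/
theorem exists_minimal_pi {α : Type*} {ι : Type*} [Finite ι] (R : ι → Type u)
    [∀ i, CommRing (R i)] (c : ∀ i, Ideal (R i)) [∀ i, IsArtinianRing (R i ⧸ c i)]
    (F : Set α) (hF : F.Nonempty) (μ : α → ∀ i, Ideal (R i)) (hμ : ∀ f ∈ F, ∀ i, c i ≤ μ f i) :
    ∃ f ∈ F, ∀ f' ∈ F, (∀ i, μ f' i ≤ μ f i) → ∀ i, μ f' i = μ f i := by
  have hwf : WellFounded ((· < ·) : (∀ i, Ideal (R i ⧸ c i)) → (∀ i, Ideal (R i ⧸ c i)) → Prop) :=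
    wellFounded_lt
  obtain ⟨f₀, hf₀⟩ := hF
  obtain ⟨J, ⟨f, hfF, rfl⟩, hmin⟩ := hwf.has_min
    ((fun f => fun i => (μ f i).map (Ideal.Quotient.mk (c i))) '' F) ⟨_, ⟨f₀, hf₀, rfl⟩⟩
  refine ⟨f, hfF, fun f' hf' hle i => ?_⟩
  have h1 : (fun i => (μ f' i).map (Ideal.Quotient.mk (c i))) ≤
      (fun i => (μ f i).map (Ideal.Quotient.mk (c i))) := fun i => Ideal.map_mono (hle i)
  have h2 : (fun i => (μ f' i).map (Ideal.Quotient.mk (c i))) =
      (fun i => (μ f i).map (Ideal.Quotient.mk (c i))) :=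
    eq_of_le_of_not_lt h1 (hmin _ ⟨f', hf', rfl⟩)
  have h2i := congrFun h2 i
  have hsurj : Function.Surjective (Ideal.Quotient.mk (c i)) := Ideal.Quotient.mk_surjective
  have h3 := congrArg (Ideal.comap (Ideal.Quotient.mk (c i))) h2i
  rw [Ideal.comap_map_of_surjective _ hsurj, Ideal.comap_map_of_surjective _ hsurj,
    ← RingHom.ker_eq_comap_bot, Ideal.mk_ker, sup_eq_left.mpr (hμ f' hf' i),
    sup_eq_left.mpr (hμ f hfF i)] at h3
  exact h3

/-- regularity of `h` modulo `r` passes to a localization. -/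
theorem mem_map_of_mul_mem_map {A : Type u} [CommRing A] (S : Submonoid A) (B : Type u)
    [CommRing B] [Algebra A B] [IsLocalization S B] (r : Ideal A) (h : A)
    (hreg : ∀ a, a * h ∈ r → a ∈ r) (x : B)
    (hx : x * algebraMap A B h ∈ r.map (algebraMap A B)) : x ∈ r.map (algebraMap A B) := by
  obtain ⟨a, s, rfl⟩ := IsLocalization.exists_mk'_eq S x
  have h1 : IsLocalization.mk' B a s * algebraMap A B h = IsLocalization.mk' B (a * h) s := by
    rw [mul_comm a h, mul_comm, IsLocalization.mul_mk'_eq_mk'_of_mul]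
  rw [h1, IsLocalization.mk'_mem_map_algebraMap_iff] at hx
  obtain ⟨s', hs', hmem⟩ := hx
  rw [IsLocalization.mk'_mem_map_algebraMap_iff]
  refine ⟨s', hs', hreg _ ?_⟩
  rw [mul_assoc]
  exact hmem

end Part3

/-- index type: the minimal primes over `c`. -/
abbrev MinIdx {A : Type u} [CommRing A] (c : Ideal A) :=
  {Q : PrimeSpectrum A // Q.asIdeal ∈ c.minimalPrimes}

/-- the localization at a minimal prime over `c`. -/
abbrev LocAt {A : Type u} [CommRing A] (c : Ideal A) (Q : MinIdx c) :=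
  Localization.AtPrime Q.1.asIdeal

section Part4

variable {A : Type u} [CommRing A] [IsDomain A] [IsNoetherianRing A] [IsLocalRing A]
  [IsIntegrallyClosed A]

theorem finite_minIdx (c : Ideal A) : Finite (MinIdx c) := by
  haveI : Finite c.minimalPrimes := (Ideal.finite_minimalPrimes_of_isNoetherianRing A c).to_subtype
  apply Finite.of_injective (fun Q : MinIdx c => (⟨Q.1.asIdeal, Q.2⟩ : c.minimalPrimes))
  intro Q Q' hQQ'
  have h1 : Q.1.asIdeal = Q'.1.asIdeal := congrArg Subtype.val hQQ'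
  exact Subtype.ext (PrimeSpectrum.ext h1)

theorem main (hcat : CAlg.IsCatenary A) (J : Ideal A) (hJ : J.IsRadical) (hJ0 : J ≠ ⊥)
    (hht : 2 ≤ (maximalIdeal A).height) :
    ∃ f ∈ J, f ≠ 0 ∧ (Ideal.span {f}).IsRadical := by
  classical
  obtain ⟨f₀, hf₀J, hf₀⟩ := Submodule.exists_mem_ne_zero_of_ne_bot hJ0
  -- the parameter `h`
  obtain ⟨h, hhm, hh₀⟩ : ∃ h ∈ maximalIdeal A,
      ∀ q ∈ associatedPrimes A (A ⧸ Ideal.span {f₀}), h ∉ q := by
    by_contra hcon
    push Not at hcon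
    set Q₀ : Finset (Ideal A) :=
      (associatedPrimes.finite A (A ⧸ Ideal.span {f₀})).toFinset with hQ₀
    have hsub : ((maximalIdeal A : Ideal A) : Set A) ⊆
        ⋃ q ∈ (↑Q₀ : Set (Ideal A)), (id q : Ideal A) := by
      intro x hx
      obtain ⟨q, hq, hxq⟩ := hcon x hx
      refine Set.mem_iUnion₂.mpr ⟨q, ?_, hxq⟩
      rw [hQ₀]; simpa using hq
    obtain ⟨q, hq, hle⟩ := (Ideal.subset_union_prime (f := id) ⊥ ⊥ (fun q hq _ _ => by
      rw [hQ₀, Set.Finite.mem_toFinset] at hq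
      exact hq.isPrime)).mp hsub
    rw [hQ₀, Set.Finite.mem_toFinset] at hq
    have hqh1 := (h1_of_mem_ass hf₀ hq).1
    have hmono := Ideal.height_mono hle
    simp only [id] at hmono
    rw [hqh1.2] at hmono
    exact absurd (le_trans hht hmono) (by norm_num)
  set c : Ideal A := Ideal.span {f₀, h} with hcdef
  have hf₀c : f₀ ∈ c := Ideal.subset_span (by simp)
  have hhc : h ∈ c := Ideal.subset_span (by simp)
  have hK0 : ∀ q : Ideal A, H1 q → ¬ c ≤ q := by
    intro q hq hcq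
    exact hh₀ q (mem_ass_of_h1 hf₀ hq (hcq hf₀c)) (hcq hhc)
  have hK0' : ∀ q : Ideal A, q.IsPrime → c ≤ q → 2 ≤ q.height := by
    intro q hq hcq
    have hq0 : q ≠ ⊥ := by
      rintro rfl
      exact hf₀ (by simpa using hcq hf₀c)
    have h1 := one_le_height hq hq0
    by_contra hlt
    push Not at hlt
    have h3 : (2 : ℕ∞) = 1 + 1 := by norm_num
    rw [h3, ENat.lt_add_one_iff (by simp)] at hlt
    exact hK0 q ⟨hq, le_antisymm hlt h1⟩ hcq
  -- the family
  set F : Set A := {f | f ∈ J ∧ Ideal.span {f, h} = c} with hFdef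
  have hf₀F : f₀ ∈ F := ⟨hf₀J, rfl⟩
  have hhle : Ideal.span {h} ≤ maximalIdeal A := by
    rw [Ideal.span_le, Set.singleton_subset_iff]; exact hhm
  have hK1 : ∀ g ∈ F, ¬ h ∣ g := by
    rintro g ⟨_, hg⟩ hdvd
    have hcle : c ≤ Ideal.span {h} := by
      rw [← hg, Ideal.span_le]
      intro x hx
      rcases hx with rfl | rfl
      · exact Ideal.mem_span_singleton.mpr hdvd
      · exact Ideal.mem_span_singleton_self _
    have hne : Ideal.span {h} ≠ ⊤ := by
      intro htop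
      rw [htop] at hhle
      exact (maximalIdeal.isMaximal A).ne_top (top_le_iff.mp hhle)
    obtain ⟨⟨q, hq⟩⟩ := Ideal.nonempty_minimalPrimes hne
    have hqp : q.IsPrime := hq.1.1
    have h1 := Ideal.height_le_one_of_isPrincipal_of_mem_minimalPrimes (Ideal.span {h}) q hq
    have h2 := hK0' q hqp (le_trans hcle hq.1.2)
    exact absurd (le_trans h2 h1) (by norm_num)
  have hK1' : ∀ g ∈ F, g ≠ 0 := by
    rintro g hg rfl
    exact hK1 0 hg (dvd_zero h)
  have hK2 : ∀ g ∈ F, ∀ q ∈ associatedPrimes A (A ⧸ Ideal.span {g}), h ∉ q := by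
    intro g hg q hq hhq
    obtain ⟨hqh1, hgq⟩ := h1_of_mem_ass (hK1' g hg) hq
    apply hK0 q hqh1
    rw [← hg.2, Ideal.span_le]
    intro x hx
    rcases hx with rfl | rfl
    · exact hgq
    · exact hhq
  have hK3 : ∀ g ∈ F, ∀ P : Ideal A, H1 P → g ∈ P → ∃ Q ∈ c.minimalPrimes, P ≤ Q := by
    intro g hg P hP hgP
    haveI := hP.1
    have hI : P ⊔ Ideal.span {h} ≠ ⊤ := by
      have hle : P ⊔ Ideal.span {h} ≤ maximalIdeal A :=
        sup_le (IsLocalRing.le_maximalIdeal hP.1.ne_top) hhle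
      intro htop
      rw [htop] at hle
      exact (maximalIdeal.isMaximal A).ne_top (top_le_iff.mp hle)
    obtain ⟨⟨Q, hQ⟩⟩ := Ideal.nonempty_minimalPrimes hI
    haveI hQp : Q.IsPrime := hQ.1.1
    have hPQ : P ≤ Q := le_trans le_sup_left hQ.1.2
    have hhQ : h ∈ Q := hQ.1.2 (Ideal.mem_sup_right (Ideal.mem_span_singleton_self h))
    have hcQ : c ≤ Q := by
      rw [← hg.2, Ideal.span_le]
      intro x hx
      rcases hx with rfl | rfl
      · exact hPQ hgP
      · exact hhQ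
    have hht1 : (Q.map (Ideal.Quotient.mk P)).height ≤ 1 :=
      Ideal.map_height_le_one_of_mem_minimalPrimes hQ
    have hform := Groth.Agent.H8.DimFormula.height_eq_height_map_mk_add_height A hcat P Q hPQ
    have hQ2 : Q.height ≤ 2 := by
      rw [hform, hP.2]
      calc (Q.map (Ideal.Quotient.mk P)).height + 1 ≤ (1 : ℕ∞) + 1 := by gcongr
        _ = 2 := by norm_num
    refine ⟨Q, ⟨⟨hQp, hcQ⟩, ?_⟩, hPQ⟩
    rintro Q' ⟨hQ'p, hcQ'⟩ hQ'Q
    by_contra hnle
    have hlt : Q' < Q := lt_of_le_of_ne hQ'Q (fun h => hnle (le_of_eq h.symm))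
    have h1 := Ideal.height_strict_mono_of_isPrime_of_isPrime hlt
    have h2 := hK0' Q' hQ'p hcQ'
    exact absurd (lt_of_le_of_lt h2 (lt_of_lt_of_le h1 hQ2)) (lt_irrefl _)
  -- the localizations at the minimal primes over `c`
  haveI : Finite (MinIdx c) := finite_minIdx c
  haveI hnoeth : ∀ Q : MinIdx c, IsNoetherianRing (LocAt c Q) := fun Q =>
    IsLocalization.isNoetherianRing Q.1.asIdeal.primeCompl _ inferInstance
  haveI hart : ∀ Q : MinIdx c,
      IsArtinianRing (LocAt c Q ⧸ c.map (algebraMap A (LocAt c Q))) := by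
    intro Q
    apply IsLocalRing.quotient_artinian_of_mem_minimalPrimes_of_isLocalRing
    rw [IsLocalization.minimalPrimes_map Q.1.asIdeal.primeCompl (LocAt c Q) c, Set.mem_preimage,
      Localization.AtPrime.under_maximalIdeal]
    exact Q.2
  set μ : A → ∀ Q : MinIdx c, Ideal (LocAt c Q) := fun f Q =>
    (Ideal.span {f}).radical.map (algebraMap A (LocAt c Q)) ⊔
      Ideal.span {algebraMap A (LocAt c Q) h} with hμdef
  have hμ : ∀ f ∈ F, ∀ Q : MinIdx c, c.map (algebraMap A (LocAt c Q)) ≤ μ f Q := by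
    rintro f ⟨_, hf⟩ Q
    have hcf : c ≤ Ideal.span {f} ⊔ Ideal.span {h} := by rw [← hf, Ideal.span_insert]
    refine le_trans (Ideal.map_mono hcf) ?_
    rw [Ideal.map_sup]
    have h1 : (Ideal.span {f}).map (algebraMap A (LocAt c Q)) ≤
        (Ideal.span {f}).radical.map (algebraMap A (LocAt c Q)) := Ideal.map_mono Ideal.le_radical
    have h2 : (Ideal.span {h}).map (algebraMap A (LocAt c Q)) ≤
        Ideal.span {algebraMap A (LocAt c Q) h} := by
      rw [Ideal.map_span, Set.image_singleton]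
    exact sup_le_sup h1 h2
  obtain ⟨f, hfF, hmin⟩ := exists_minimal_pi (fun Q : MinIdx c => LocAt c Q)
    (fun Q => c.map (algebraMap A (LocAt c Q))) F ⟨f₀, hf₀F⟩ μ hμ
  have hf : f ≠ 0 := hK1' f hfF
  refine ⟨f, hfF.1, hf, ?_⟩
  by_contra hnr
  have hbad : ∃ q₁ ∈ associatedPrimes A (A ⧸ Ideal.span {f}),
      ∃ a ∈ q₁, ∀ s, s ∉ q₁ → ¬ f ∣ s * a := by
    by_contra hcon
    push Not at hcon
    exact hnr (isRadical_of_forall_ass hcon)
  obtain ⟨q₁, hq₁, hbad'⟩ := hbad
  obtain ⟨π, hπ1, hπ2, hπ3⟩ := exists_perturbation hf (hK2 f hfF) hq₁ hbad'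
  set f' : A := f + h * π with hf'def
  have hπrad : π ∈ (Ideal.span {f}).radical := by
    rw [← Ideal.sInf_minimalPrimes, Ideal.mem_sInf]
    intro p hp
    exact hπ1 p (minimalPrimes_subset_ass f hp)
  have hradJ : (Ideal.span {f}).radical ≤ J := by
    rw [hJ.radical_le_iff, Ideal.span_le, Set.singleton_subset_iff]; exact hfF.1
  have hf'F : f' ∈ F := by
    refine ⟨?_, ?_⟩
    · exact Ideal.add_mem _ hfF.1 (Ideal.mul_mem_left _ _ (hradJ hπrad))
    · rw [hf'def, mul_comm h π, Ideal.span_pair_add_mul_right]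
      exact hfF.2
  have hf' : f' ≠ 0 := hK1' f' hf'F
  have hrad' : (Ideal.span {f'}).radical ≤ (Ideal.span {f}).radical := by
    rw [Ideal.radical_le_radical_iff, Ideal.span_le, Set.singleton_subset_iff, SetLike.mem_coe]
    exact Ideal.add_mem _ (Ideal.le_radical (Ideal.mem_span_singleton_self f))
      (Ideal.mul_mem_left _ _ hπrad)
  have heq : ∀ Q, μ f' Q = μ f Q :=
    hmin f' hf'F (fun Q => sup_le_sup_right (Ideal.map_mono hrad') _)
  have hregA : ∀ a, a * h ∈ (Ideal.span {f}).radical → a ∈ (Ideal.span {f}).radical := by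
    intro d hd
    rw [← Ideal.sInf_minimalPrimes, Ideal.mem_sInf] at hd ⊢
    intro p hp
    have hpass := minimalPrimes_subset_ass f hp
    have hpp : p.IsPrime := hp.1.1
    exact (hpp.mem_or_mem (hd hp)).resolve_right (hK2 f hfF p hpass)
  have hradQ : ∀ Q : MinIdx c, (Ideal.span {f}).radical.map (algebraMap A (LocAt c Q)) ≤
      (Ideal.span {f'}).radical.map (algebraMap A (LocAt c Q)) := by
    intro Q
    apply le_of_le_sup_span _ _ (algebraMap A (LocAt c Q) h)
    · rw [IsLocalization.AtPrime.to_map_mem_maximal_iff (LocAt c Q) Q.1.asIdeal h]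
      exact Q.2.1.2 hhc
    · exact Ideal.map_mono hrad'
    · intro x hx
      exact mem_map_of_mul_mem_map Q.1.asIdeal.primeCompl (LocAt c Q) _ h hregA x hx
    · calc (Ideal.span {f}).radical.map (algebraMap A (LocAt c Q)) ≤ μ f Q := le_sup_left
        _ = μ f' Q := (heq Q).symm
  have hsub : ∀ q' ∈ associatedPrimes A (A ⧸ Ideal.span {f'}),
      q' ∈ associatedPrimes A (A ⧸ Ideal.span {f}) := by
    intro q' hq'
    obtain ⟨hq'h1, hf'q'⟩ := h1_of_mem_ass hf' hq'
    apply mem_ass_of_h1 hf hq'h1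
    obtain ⟨Q, hQ, hq'Q⟩ := hK3 f' hf'F q' hq'h1 hf'q'
    haveI hQp : Q.IsPrime := hQ.1.1
    let Qi : MinIdx c := ⟨⟨Q, hQp⟩, hQ⟩
    have h1 : algebraMap A (LocAt c Qi) f ∈
        (Ideal.span {f}).radical.map (algebraMap A (LocAt c Qi)) :=
      Ideal.mem_map_of_mem _ (Ideal.le_radical (Ideal.mem_span_singleton_self f))
    have h2 := hradQ Qi h1
    have h3 : (Ideal.span {f'}).radical ≤ q' := by
      rw [hq'h1.1.radical_le_iff, Ideal.span_le, Set.singleton_subset_iff]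
      exact hf'q'
    have h4 := Ideal.map_mono (f := algebraMap A (LocAt c Qi)) h3 h2
    rw [IsLocalization.algebraMap_mem_map_algebraMap_iff Q.primeCompl] at h4
    obtain ⟨m, hm, hmf⟩ := h4
    exact (hq'h1.1.mem_or_mem hmf).resolve_left (fun hmq => hm (hq'Q hmq))
  have hdvd : f' ∣ f := dvd_of_forall_ass (fun q' hq' => hπ2 q' (hsub q' hq'))
  obtain ⟨b, hb⟩ := hdvd
  have hbnu : ¬ IsUnit b := hπ3 b hb
  have hu : IsUnit (1 - b) := IsLocalRing.isUnit_one_sub_self_of_mem_nonunits b hbnu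
  obtain ⟨u, hu⟩ := hu
  apply hK1 f hfF
  refine ⟨π * b * ↑u⁻¹, ?_⟩
  have h1 : f * (1 - b) = h * π * b := by
    rw [hf'def] at hb
    linear_combination hb
  calc f = f * (1 - b) * ↑u⁻¹ := by rw [← hu, mul_assoc, Units.mul_inv, mul_one]
    _ = h * (π * b * ↑u⁻¹) := by rw [h1]; ring

end Part4

end Groth.Agent.Lib.Helper9.PrincipalRadical
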