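import Mathlib

/-!
# An abstract local criterion: a DVR generated by a ring with reduced Artinian "special fibre"

Let `W` be a discrete valuation ring, `Ψ : T → W` a ring homomorphism, `q : T → D` a surjection
onto a reduced Artinian ring and `p : T` an element with `Ψ p` a nonzero non-unit, such that every
element of `ker q` maps into `Ψ p * Ψ(T)`.  If the fraction field of `W` is generated by `Ψ(T)`,
then `Ψ p` is a uniformizer of `W` and the residue field of `W` is a quotient (and a localization)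
of `D`.  (helper9)
-/

universe u

open IsLocalRing

namespace Groth.Agent.Lib.Helper9.AbhCore

section Core

variable {W : Type u} [CommRing W] [IsDomain W] [IsDiscreteValuationRing W]
  {T : Type u} [CommRing T] (Ψ : T →+* W)
  {D : Type u} [CommRing D] (q : T →+* D)

/-- The induced map from `D` to the residue field of `W`. -/
noncomputable def resMap (hq : Function.Surjective q)
    (hker : ∀ t, q t = 0 → Ψ t ∈ maximalIdeal W) : D →+* ResidueField W :=
  q.liftOfSurjective hq ⟨(residue W).comp Ψ, fun t ht => by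
    rw [RingHom.mem_ker] at ht ⊢
    rw [RingHom.comp_apply, residue_eq_zero_iff]
    exact hker t ht⟩

theorem resMap_apply (hq : Function.Surjective q)
    (hker : ∀ t, q t = 0 → Ψ t ∈ maximalIdeal W) (t : T) :
    resMap Ψ q hq hker (q t) = residue W (Ψ t) :=
  RingHom.liftOfSurjective_comp_apply q hq _ t

variable [IsReduced D] [IsArtinianRing D]

/-- Key step: an element of `T` mapping into the maximal ideal of `W` is, up to an element mapping
to a unit, in `Ψ p * Ψ(T)`. -/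
theorem key (hq : Function.Surjective q) (p : T) (hpm : Ψ p ∈ maximalIdeal W)
    (H : ∀ t, q t = 0 → ∃ t₁, Ψ t = Ψ p * Ψ t₁) (t : T) (ht : Ψ t ∈ maximalIdeal W) :
    ∃ s t₁, Ψ s ∉ maximalIdeal W ∧ Ψ s * Ψ t = Ψ p * Ψ t₁ := by
  classical
  have hker : ∀ t, q t = 0 → Ψ t ∈ maximalIdeal W := by
    intro t ht
    obtain ⟨t₁, h⟩ := H t ht
    rw [h]
    exact Ideal.mul_mem_right _ _ hpm
  set Φ := resMap Ψ q hq hker with hΦ
  have hΦq : ∀ t, Φ (q t) = residue W (Ψ t) := resMap_apply Ψ q hq hker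
  haveI hprime : (RingHom.ker Φ).IsPrime := RingHom.ker_isPrime Φ
  haveI : IsReduced (Localization.AtPrime (RingHom.ker Φ)) := inferInstance
  have hfield : IsField (Localization.AtPrime (RingHom.ker Φ)) :=
    IsArtinianRing.isField_of_isReduced_of_isLocalRing _
  have hmem : q t ∈ RingHom.ker Φ := by
    rw [RingHom.mem_ker, hΦq, residue_eq_zero_iff]
    exact ht
  have hzero : algebraMap D (Localization.AtPrime (RingHom.ker Φ)) (q t) = 0 := by
    have hm : algebraMap D (Localization.AtPrime (RingHom.ker Φ)) (q t) ∈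
        maximalIdeal (Localization.AtPrime (RingHom.ker Φ)) := by
      rw [← Localization.AtPrime.map_eq_maximalIdeal]
      exact Ideal.mem_map_of_mem _ hmem
    have hbot : maximalIdeal (Localization.AtPrime (RingHom.ker Φ)) = ⊥ :=
      IsLocalRing.isField_iff_maximalIdeal_eq.mp hfield
    rw [hbot] at hm
    exact hm
  obtain ⟨m, hm⟩ := (IsLocalization.map_eq_zero_iff (RingHom.ker Φ).primeCompl _ _).mp hzero
  obtain ⟨s, hs⟩ := hq (m : D)
  have hsm : Ψ s ∉ maximalIdeal W := by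
    intro hmem'
    apply m.2
    show (m : D) ∈ RingHom.ker Φ
    rw [RingHom.mem_ker, ← hs, hΦq, residue_eq_zero_iff]
    exact hmem'
  have hst : q (s * t) = 0 := by
    rw [map_mul, hs]
    exact hm
  obtain ⟨t₁, ht₁⟩ := H (s * t) hst
  refine ⟨s, t₁, hsm, ?_⟩
  rw [← map_mul]
  exact ht₁

theorem hker_of_H (p : T) (hpm : Ψ p ∈ maximalIdeal W)
    (H : ∀ t, q t = 0 → ∃ t₁, Ψ t = Ψ p * Ψ t₁) : ∀ t, q t = 0 → Ψ t ∈ maximalIdeal W := by
  intro t ht
  obtain ⟨t₁, h⟩ := H t ht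
  rw [h]
  exact Ideal.mul_mem_right _ _ hpm

set_option maxHeartbeats 1000000 in
/-- Every nonzero element `x` with `x * Ψ s = Ψ t` (`Ψ s` a unit) is a power of `Ψ p` up to
elements of the same shape which are units. -/
theorem claim (hq : Function.Surjective q) (p : T) (hpm : Ψ p ∈ maximalIdeal W) (hp0 : Ψ p ≠ 0)
    (H : ∀ t, q t = 0 → ∃ t₁, Ψ t = Ψ p * Ψ t₁) {ϖ : W} (hϖ : Irreducible ϖ) :
    ∀ (n : ℕ) (x : W) (s t : T), Ψ s ∉ maximalIdeal W → x * Ψ s = Ψ t →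
      (∃ u : Wˣ, x = u * ϖ ^ n) →
      ∃ (m : ℕ) (s' t' : T), Ψ s' ∉ maximalIdeal W ∧ Ψ t' ∉ maximalIdeal W ∧
        x * Ψ s' = Ψ t' * Ψ p ^ m := by
  intro n
  induction n using Nat.strong_induction_on with
  | _ n ih =>
    intro x s t hs hxs hxu
    obtain ⟨u, hu⟩ := hxu
    by_cases ht : Ψ t ∈ maximalIdeal W
    · obtain ⟨s₁, t₁, hs₁, h1⟩ := key Ψ q hq p hpm H t ht
      obtain ⟨r, up, hup⟩ := IsDiscreteValuationRing.eq_unit_mul_pow_irreducible hp0 hϖ
      have hus : IsUnit (Ψ s) := by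
        rwa [mem_maximalIdeal, mem_nonunits_iff, not_not] at hs
      have hus₁ : IsUnit (Ψ s₁) := by
        rwa [mem_maximalIdeal, mem_nonunits_iff, not_not] at hs₁
      have hx0 : x ≠ 0 := by
        rw [hu]
        exact mul_ne_zero u.ne_zero (pow_ne_zero _ hϖ.ne_zero)
      have heq : x * (Ψ s * Ψ s₁) = Ψ p * Ψ t₁ := by
        rw [← mul_assoc, hxs, mul_comm, h1]
      have ht₁0 : Ψ t₁ ≠ 0 := by
        intro h0
        rw [h0, mul_zero] at heq
        exact (mul_ne_zero hx0 (mul_ne_zero hus.ne_zero hus₁.ne_zero)) heq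
      obtain ⟨k, u₁, hu₁⟩ := IsDiscreteValuationRing.eq_unit_mul_pow_irreducible ht₁0 hϖ
      have hnk : n = r + k := by
        have h3 : ((u * hus.unit * hus₁.unit : Wˣ) : W) * ϖ ^ n =
            ((up * u₁ : Wˣ) : W) * ϖ ^ (r + k) := by
          push_cast
          rw [pow_add, IsUnit.unit_spec, IsUnit.unit_spec]
          calc (u : W) * Ψ s * Ψ s₁ * ϖ ^ n = ((u : W) * ϖ ^ n) * (Ψ s * Ψ s₁) := by ring
            _ = x * (Ψ s * Ψ s₁) := by rw [hu]
            _ = Ψ p * Ψ t₁ := heq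
            _ = ((up : W) * ϖ ^ r) * ((u₁ : W) * ϖ ^ k) := by rw [← hup, ← hu₁]
            _ = (up : W) * (u₁ : W) * (ϖ ^ r * ϖ ^ k) := by ring
        exact IsDiscreteValuationRing.unit_mul_pow_congr_pow hϖ hϖ _ _ _ _ h3
      have hr : r ≠ 0 := by
        rintro rfl
        rw [pow_zero, mul_one] at hup
        have : IsUnit (Ψ p) := by rw [hup]; exact up.isUnit
        exact (mem_maximalIdeal _).mp hpm this
      have hunit : IsUnit (Ψ s * Ψ s₁) := hus.mul hus₁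
      obtain ⟨v, hv⟩ := hunit
      have hvinv : ((v⁻¹ : Wˣ) : W) * (Ψ s * Ψ s₁) = 1 := by
        rw [← hv]
        exact v.inv_mul
      have hx₁s : (Ψ t₁ * ((v⁻¹ : Wˣ) : W)) * Ψ (s * s₁) = Ψ t₁ := by
        rw [map_mul, mul_assoc, hvinv, mul_one]
      have hx₁u : ∃ u' : Wˣ, Ψ t₁ * ((v⁻¹ : Wˣ) : W) = u' * ϖ ^ k := by
        refine ⟨u₁ * v⁻¹, ?_⟩
        rw [hu₁]
        push_cast
        ring
      have hss₁ : Ψ (s * s₁) ∉ maximalIdeal W := by
        rw [map_mul, mem_maximalIdeal, mem_nonunits_iff, not_not, ← hv]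
        exact v.isUnit
      obtain ⟨m, s', t', hs', ht', h2⟩ :=
        ih k (by omega) (Ψ t₁ * ((v⁻¹ : Wˣ) : W)) (s * s₁) t₁ hss₁ hx₁s hx₁u
      have hne : Ψ s * Ψ s₁ ≠ 0 := by
        rw [← hv]
        exact v.ne_zero
      have hxp : x = Ψ p * (Ψ t₁ * ((v⁻¹ : Wˣ) : W)) := by
        apply mul_right_cancel₀ hne
        rw [heq, mul_assoc, mul_assoc, hvinv, mul_one]
      refine ⟨m + 1, s', t', hs', ht', ?_⟩
      rw [hxp, mul_assoc, h2, pow_succ]
      ring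
    · exact ⟨0, s, t, hs, ht, by rw [pow_zero, mul_one]; exact hxs⟩

/-- The previous statement for elements of the image of `Ψ`. -/
theorem claim_image (hq : Function.Surjective q) (p : T) (hpm : Ψ p ∈ maximalIdeal W)
    (hp0 : Ψ p ≠ 0) (H : ∀ t, q t = 0 → ∃ t₁, Ψ t = Ψ p * Ψ t₁) (a : T) (ha : Ψ a ≠ 0) :
    ∃ (m : ℕ) (s' t' : T), Ψ s' ∉ maximalIdeal W ∧ Ψ t' ∉ maximalIdeal W ∧
      Ψ a * Ψ s' = Ψ t' * Ψ p ^ m := by
  obtain ⟨ϖ, hϖ⟩ := IsDiscreteValuationRing.exists_irreducible W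
  obtain ⟨n, u, hu⟩ := IsDiscreteValuationRing.eq_unit_mul_pow_irreducible ha hϖ
  refine claim Ψ q hq p hpm hp0 H hϖ n (Ψ a) 1 a ?_ ?_ ⟨u, hu⟩
  · rw [map_one]
    exact fun h => (mem_maximalIdeal _).mp h isUnit_one
  · rw [map_one, mul_one]

set_option maxHeartbeats 1000000 in
/-- If the fraction field of `W` is generated by `Ψ(T)`, then `Ψ p` is a uniformizer. -/
theorem uniformizer (hq : Function.Surjective q) (p : T) (hpm : Ψ p ∈ maximalIdeal W)
    (hp0 : Ψ p ≠ 0) (H : ∀ t, q t = 0 → ∃ t₁, Ψ t = Ψ p * Ψ t₁)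
    (hgen : ∀ w : W, ∃ c s : T, Ψ s ≠ 0 ∧ w * Ψ s = Ψ c) :
    maximalIdeal W = Ideal.span {Ψ p} := by
  obtain ⟨ϖ, hϖ⟩ := IsDiscreteValuationRing.exists_irreducible W
  obtain ⟨c₀, s₀, hs₀, h0⟩ := hgen ϖ
  have hc₀ : Ψ c₀ ≠ 0 := by
    rw [← h0]
    exact mul_ne_zero hϖ.ne_zero hs₀
  obtain ⟨m, a, a', ha, ha', h1⟩ := claim_image Ψ q hq p hpm hp0 H s₀ hs₀
  obtain ⟨n, b, b', hb, hb', h2⟩ := claim_image Ψ q hq p hpm hp0 H c₀ hc₀
  obtain ⟨r, up, hup⟩ := IsDiscreteValuationRing.eq_unit_mul_pow_irreducible hp0 hϖ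
  have hunit : ∀ {y : T}, Ψ y ∉ maximalIdeal W → IsUnit (Ψ y) := by
    intro y hy
    rwa [mem_maximalIdeal, mem_nonunits_iff, not_not] at hy
  obtain ⟨ua, hua⟩ := hunit ha
  obtain ⟨ua', hua'⟩ := hunit ha'
  obtain ⟨ub, hub⟩ := hunit hb
  obtain ⟨ub', hub'⟩ := hunit hb'
  have h3 : ((ua' * ub * up ^ m : Wˣ) : W) * ϖ ^ (1 + r * m) =
      ((ub' * ua * up ^ n : Wˣ) : W) * ϖ ^ (r * n) := by
    push_cast
    rw [hua', hub, hub', hua]
    calc Ψ a' * Ψ b * (up : W) ^ m * ϖ ^ (1 + r * m)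
        = ϖ * (Ψ a' * ((up : W) * ϖ ^ r) ^ m) * Ψ b := by
          rw [mul_pow, ← pow_mul, pow_add, pow_one]; ring
      _ = ϖ * (Ψ a' * Ψ p ^ m) * Ψ b := by rw [← hup]
      _ = ϖ * (Ψ s₀ * Ψ a) * Ψ b := by rw [h1]
      _ = (ϖ * Ψ s₀) * Ψ a * Ψ b := by ring
      _ = (Ψ c₀ * Ψ b) * Ψ a := by rw [h0]; ring
      _ = Ψ b' * Ψ p ^ n * Ψ a := by rw [h2]
      _ = Ψ b' * ((up : W) * ϖ ^ r) ^ n * Ψ a := by rw [← hup]
      _ = Ψ b' * Ψ a * (up : W) ^ n * ϖ ^ (r * n) := by rw [mul_pow, ← pow_mul]; ring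
  have h4 : 1 + r * m = r * n := IsDiscreteValuationRing.unit_mul_pow_congr_pow hϖ hϖ _ _ _ _ h3
  have hr1 : r = 1 := by
    have hdvd : r ∣ 1 := by
      have h5 : r ∣ 1 + r * m := by rw [h4]; exact Dvd.intro n rfl
      exact (Nat.dvd_add_iff_left (Dvd.intro m rfl)).mpr h5
    exact Nat.dvd_one.mp hdvd
  rw [hr1, pow_one] at hup
  rw [hϖ.maximalIdeal_eq, hup]
  exact (Ideal.span_singleton_eq_span_singleton.mpr
    ⟨up⁻¹, by rw [mul_comm (up : W), mul_assoc, Units.mul_inv, mul_one]⟩).symm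

set_option maxHeartbeats 1000000 in
/-- If the fraction field of `W` is generated by `Ψ(T)`, the residue field of `W` is a quotient
of `D`. -/
theorem resMap_surjective (hq : Function.Surjective q) (p : T) (hpm : Ψ p ∈ maximalIdeal W)
    (hp0 : Ψ p ≠ 0) (H : ∀ t, q t = 0 → ∃ t₁, Ψ t = Ψ p * Ψ t₁)
    (hgen : ∀ w : W, ∃ c s : T, Ψ s ≠ 0 ∧ w * Ψ s = Ψ c) :
    Function.Surjective (resMap Ψ q hq (hker_of_H Ψ q p hpm H)) := by
  classical
  set Φ := resMap Ψ q hq (hker_of_H Ψ q p hpm H) with hΦ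
  have hΦq : ∀ t, Φ (q t) = residue W (Ψ t) := resMap_apply Ψ q hq _
  intro κ
  obtain ⟨w, rfl⟩ := residue_surjective κ
  by_cases hw : w ∈ maximalIdeal W
  · exact ⟨0, by rw [map_zero]; exact ((residue_eq_zero_iff w).mpr hw).symm⟩
  have hwu : IsUnit w := by
    rwa [mem_maximalIdeal, mem_nonunits_iff, not_not] at hw
  obtain ⟨ϖ, hϖ⟩ := IsDiscreteValuationRing.exists_irreducible W
  obtain ⟨c₀, s₀, hs₀, h0⟩ := hgen w
  have hc₀ : Ψ c₀ ≠ 0 := by
    rw [← h0]
    exact mul_ne_zero hwu.ne_zero hs₀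
  obtain ⟨m, a, a', ha, ha', h1⟩ := claim_image Ψ q hq p hpm hp0 H s₀ hs₀
  obtain ⟨n, b, b', hb, hb', h2⟩ := claim_image Ψ q hq p hpm hp0 H c₀ hc₀
  obtain ⟨r, up, hup⟩ := IsDiscreteValuationRing.eq_unit_mul_pow_irreducible hp0 hϖ
  have hr : r ≠ 0 := by
    rintro rfl
    rw [pow_zero, mul_one] at hup
    have : IsUnit (Ψ p) := by rw [hup]; exact up.isUnit
    exact (mem_maximalIdeal _).mp hpm this
  have hunit : ∀ {y : T}, Ψ y ∉ maximalIdeal W → IsUnit (Ψ y) := by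
    intro y hy
    rwa [mem_maximalIdeal, mem_nonunits_iff, not_not] at hy
  obtain ⟨uw, huw⟩ := hwu
  obtain ⟨ua, hua⟩ := hunit ha
  obtain ⟨ua', hua'⟩ := hunit ha'
  obtain ⟨ub, hub⟩ := hunit hb
  obtain ⟨ub', hub'⟩ := hunit hb'
  have hmain : w * (Ψ a' * Ψ p ^ m) * Ψ b = Ψ b' * Ψ p ^ n * Ψ a := by
    calc w * (Ψ a' * Ψ p ^ m) * Ψ b = w * (Ψ s₀ * Ψ a) * Ψ b := by rw [h1]
      _ = (w * Ψ s₀) * Ψ a * Ψ b := by ring
      _ = (Ψ c₀ * Ψ b) * Ψ a := by rw [h0]; ring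
      _ = Ψ b' * Ψ p ^ n * Ψ a := by rw [h2]
  have h3 : ((uw * ua' * ub * up ^ m : Wˣ) : W) * ϖ ^ (r * m) =
      ((ub' * ua * up ^ n : Wˣ) : W) * ϖ ^ (r * n) := by
    push_cast
    rw [huw, hua', hub, hub', hua]
    calc w * Ψ a' * Ψ b * (up : W) ^ m * ϖ ^ (r * m)
        = w * (Ψ a' * ((up : W) * ϖ ^ r) ^ m) * Ψ b := by
          rw [mul_pow, ← pow_mul]; ring
      _ = w * (Ψ a' * Ψ p ^ m) * Ψ b := by rw [← hup]
      _ = Ψ b' * Ψ p ^ n * Ψ a := hmain
      _ = Ψ b' * ((up : W) * ϖ ^ r) ^ n * Ψ a := by rw [← hup]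
      _ = Ψ b' * Ψ a * (up : W) ^ n * ϖ ^ (r * n) := by rw [mul_pow, ← pow_mul]; ring
  have h4 : r * m = r * n := IsDiscreteValuationRing.unit_mul_pow_congr_pow hϖ hϖ _ _ _ _ h3
  have hmn : m = n := Nat.eq_of_mul_eq_mul_left (Nat.pos_of_ne_zero hr) h4
  subst hmn
  have hcancel : w * (Ψ a' * Ψ b) = Ψ b' * Ψ a := by
    apply mul_right_cancel₀ (pow_ne_zero m hp0)
    calc w * (Ψ a' * Ψ b) * Ψ p ^ m = w * (Ψ a' * Ψ p ^ m) * Ψ b := by ring
      _ = Ψ b' * Ψ p ^ m * Ψ a := hmain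
      _ = Ψ b' * Ψ a * Ψ p ^ m := by ring
  have hres : residue W w * Φ (q (a' * b)) = Φ (q (b' * a)) := by
    rw [hΦq, hΦq, ← map_mul, map_mul Ψ, hcancel, map_mul Ψ]
  haveI hprime : (RingHom.ker Φ).IsPrime := RingHom.ker_isPrime Φ
  haveI hmax : (RingHom.ker Φ).IsMaximal := IsArtinianRing.isMaximal_of_isPrime _
  have hnot : q (a' * b) ∉ RingHom.ker Φ := by
    rw [RingHom.mem_ker, hΦq, residue_eq_zero_iff, map_mul, mem_maximalIdeal, mem_nonunits_iff,
      not_not]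
    exact (hunit ha').mul (hunit hb)
  obtain ⟨y, i, hi, hyi⟩ := hmax.exists_inv hnot
  have hinv : Φ y * Φ (q (a' * b)) = 1 := by
    have := congrArg Φ hyi
    rw [map_add, map_mul, (RingHom.mem_ker).mp hi, add_zero, map_one] at this
    exact this
  refine ⟨q (b' * a) * y, ?_⟩
  rw [map_mul, ← hres, mul_assoc, mul_comm (Φ (q (a' * b))), hinv, mul_one]

set_option maxHeartbeats 1000000 in
/-- The residue field of `W` is formally smooth over any field over which `D` is formally smooth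
(compatibly). -/
theorem formallySmooth_residueField (hq : Function.Surjective q) (p : T)
    (hpm : Ψ p ∈ maximalIdeal W) (hp0 : Ψ p ≠ 0) (H : ∀ t, q t = 0 → ∃ t₁, Ψ t = Ψ p * Ψ t₁)
    (hgen : ∀ w : W, ∃ c s : T, Ψ s ≠ 0 ∧ w * Ψ s = Ψ c)
    (k₀ : Type u) [Field k₀] [Algebra k₀ D] [Algebra.FormallySmooth k₀ D]
    [Algebra k₀ (ResidueField W)]
    (hcomp : ∀ (c : k₀) (t : T), q t = algebraMap k₀ D c →
      residue W (Ψ t) = algebraMap k₀ (ResidueField W) c) :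
    Algebra.FormallySmooth k₀ (ResidueField W) := by
  classical
  set Φ := resMap Ψ q hq (hker_of_H Ψ q p hpm H) with hΦ
  have hΦq : ∀ t, Φ (q t) = residue W (Ψ t) := resMap_apply Ψ q hq _
  have hΦsurj : Function.Surjective Φ := resMap_surjective Ψ q hq p hpm hp0 H hgen
  haveI hprime : (RingHom.ker Φ).IsPrime := RingHom.ker_isPrime Φ
  haveI : IsReduced (Localization.AtPrime (RingHom.ker Φ)) := inferInstance
  have hfield : IsField (Localization.AtPrime (RingHom.ker Φ)) :=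
    IsArtinianRing.isField_of_isReduced_of_isLocalRing _
  let Φa : D →ₐ[k₀] ResidueField W :=
    { Φ with
      commutes' := fun c => by
        obtain ⟨t, ht⟩ := hq (algebraMap k₀ D c)
        show Φ (algebraMap k₀ D c) = _
        rw [← ht, hΦq]
        exact hcomp c t ht }
  have hunits : ∀ y : (RingHom.ker Φ).primeCompl, IsUnit (Φa y) := by
    intro y
    have : Φ (y : D) ≠ 0 := fun h => y.2 ((RingHom.mem_ker).mpr h)
    exact IsUnit.mk0 _ this
  let lam : Localization.AtPrime (RingHom.ker Φ) →ₐ[k₀] ResidueField W :=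
    IsLocalization.liftAlgHom (M := (RingHom.ker Φ).primeCompl) (f := Φa) hunits
  have hlam : ∀ d : D, lam (algebraMap D _ d) = Φ d := by
    intro d
    exact IsLocalization.lift_eq _ d
  have hbij : Function.Bijective lam := by
    constructor
    · rw [injective_iff_map_eq_zero]
      intro x hx
      by_contra hx0
      obtain ⟨y, hy⟩ := hfield.mul_inv_cancel hx0
      have := congrArg lam hy
      rw [map_mul, hx, zero_mul, map_one] at this
      exact zero_ne_one this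
    · intro κ
      obtain ⟨d, rfl⟩ := hΦsurj κ
      exact ⟨algebraMap D _ d, hlam d⟩
  haveI : Algebra.FormallySmooth D (Localization.AtPrime (RingHom.ker Φ)) :=
    Algebra.FormallySmooth.of_isLocalization (RingHom.ker Φ).primeCompl
  haveI : Algebra.FormallySmooth k₀ (Localization.AtPrime (RingHom.ker Φ)) :=
    Algebra.FormallySmooth.comp k₀ D _
  exact Algebra.FormallySmooth.of_equiv (AlgEquiv.ofBijective lam hbij)

end Core

end Groth.Agent.Lib.Helper9.AbhCore
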