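import Mathlib
import Groth.Prelude.Def_EtRam

/-!
# Generation of a compositum by a DVR and a valuation subring (helper9)
-/

universe u

namespace Groth.Agent.Lib.Helper9.AbhGen

open TensorProduct IsLocalRing EtRam in
set_option maxHeartbeats 4000000 in
set_option synthInstance.maxHeartbeats 100000 in
/-- Generation: every element of a compositum `M = L K₁` is a quotient of elements of the ring
generated by `B` and a valuation subring `V₁` of `K₁`. -/
theorem generation (A B K L K₁ M : Type u) [CommRing A] [CommRing B] [IsDomain B]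
    [Field K] [Field L] [Algebra B L] [IsFractionRing B L] [Algebra K L]
    [Field K₁] [Algebra K K₁] [Field M] [Algebra K M] [Algebra L M] [Algebra K₁ M]
    [IsScalarTower K L M] [IsScalarTower K K₁ M]
    (hgenM : Algebra.adjoin L (Set.range (algebraMap K₁ M)) = ⊤)
    (V₁ : ValuationSubring K₁) (x : M) :
    ∃ (n : ℕ) (v : Fin n → V₁) (b : Fin n → B) (v₀ : V₁) (b₀ : B),
      algebraMap K₁ M (v₀ : K₁) * algebraMap L M (algebraMap B L b₀) ≠ 0 ∧
      x * (algebraMap K₁ M (v₀ : K₁) * algebraMap L M (algebraMap B L b₀)) =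
        ∑ i, algebraMap K₁ M (v i : K₁) * algebraMap L M (algebraMap B L (b i)) := by
  classical
  let ψM : L ⊗[K] K₁ →ₐ[L] M :=
    Algebra.TensorProduct.productLeftAlgHom (Algebra.ofId L M) (IsScalarTower.toAlgHom K K₁ M)
  have hψMr : ψM.range = ⊤ := by
    rw [eq_top_iff, ← hgenM]
    apply Algebra.adjoin_le
    rintro _ ⟨k, rfl⟩
    refine ⟨(1 : L) ⊗ₜ[K] k, ?_⟩
    simp [ψM]
  have hψM : Function.Surjective ψM := (AlgHom.range_eq_top ψM).mp hψMr
  obtain ⟨y, rfl⟩ := hψM x
  induction y using TensorProduct.induction_on with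
  | zero =>
    refine ⟨0, Fin.elim0, Fin.elim0, 1, 1, ?_, ?_⟩
    · simp
    · simp
  | tmul l k =>
    obtain ⟨b₁, b₂, hb₂, rfl⟩ := IsFractionRing.div_surjective (A := B) l
    have hb₂0 : algebraMap B L b₂ ≠ 0 := by
      intro h
      have := (IsFractionRing.injective B L) (by rw [h, map_zero] : algebraMap B L b₂ = algebraMap B L 0)
      exact (nonZeroDivisors.ne_zero hb₂) this
    have hval : ψM ((algebraMap B L b₁ / algebraMap B L b₂) ⊗ₜ[K] k) =
        algebraMap L M (algebraMap B L b₁ / algebraMap B L b₂) * algebraMap K₁ M k := by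
      simp [ψM]
    rw [hval]
    by_cases hk : k ∈ V₁
    · refine ⟨1, fun _ => ⟨k, hk⟩, fun _ => b₁, 1, b₂, ?_, ?_⟩
      · simp only [OneMemClass.coe_one, map_one, one_mul]
        exact fun h => hb₂0 ((algebraMap L M).injective (by rw [h, map_zero]))
      · simp only [OneMemClass.coe_one, map_one, one_mul, Finset.univ_unique, Fin.default_eq_zero,
          Fin.isValue, Finset.sum_singleton]
        rw [map_div₀]
        have h0 : algebraMap L M (algebraMap B L b₂) ≠ 0 :=
          fun h => hb₂0 ((algebraMap L M).injective (by rw [h, map_zero]))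
        field_simp
    · have hkinv : k⁻¹ ∈ V₁ := (V₁.mem_or_inv_mem k).resolve_left hk
      have hk0 : k ≠ 0 := fun h => hk (by rw [h]; exact V₁.zero_mem)
      refine ⟨1, fun _ => 1, fun _ => b₁, ⟨k⁻¹, hkinv⟩, b₂, ?_, ?_⟩
      · apply mul_ne_zero
        · exact fun h => (inv_ne_zero hk0) ((algebraMap K₁ M).injective (by rw [h, map_zero]))
        · exact fun h => hb₂0 ((algebraMap L M).injective (by rw [h, map_zero]))
      · simp only [OneMemClass.coe_one, map_one, one_mul, Finset.univ_unique, Fin.default_eq_zero,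
          Fin.isValue, Finset.sum_singleton]
        rw [map_div₀, map_inv₀]
        have h0 : algebraMap L M (algebraMap B L b₂) ≠ 0 :=
          fun h => hb₂0 ((algebraMap L M).injective (by rw [h, map_zero]))
        have h1 : algebraMap K₁ M k ≠ 0 :=
          fun h => hk0 ((algebraMap K₁ M).injective (by rw [h, map_zero]))
        field_simp
  | add y₁ y₂ h₁ h₂ =>
    obtain ⟨n₁, v₁, b₁, v₀₁, b₀₁, hne₁, he₁⟩ := h₁
    obtain ⟨n₂, v₂, b₂, v₀₂, b₀₂, hne₂, he₂⟩ := h₂
    refine ⟨n₁ + n₂, Fin.append (fun i => v₁ i * v₀₂) (fun i => v₂ i * v₀₁),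
      Fin.append (fun i => b₁ i * b₀₂) (fun i => b₂ i * b₀₁), v₀₁ * v₀₂, b₀₁ * b₀₂, ?_, ?_⟩
    · simp only [MulMemClass.coe_mul, map_mul]
      have : algebraMap K₁ M (v₀₁ : K₁) * algebraMap K₁ M (v₀₂ : K₁) *
          (algebraMap L M (algebraMap B L b₀₁) * algebraMap L M (algebraMap B L b₀₂)) =
          (algebraMap K₁ M (v₀₁ : K₁) * algebraMap L M (algebraMap B L b₀₁)) *
          (algebraMap K₁ M (v₀₂ : K₁) * algebraMap L M (algebraMap B L b₀₂)) := by ring
      rw [this]
      exact mul_ne_zero hne₁ hne₂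
    · rw [Fin.sum_univ_add]
      simp only [Fin.append_left, Fin.append_right, MulMemClass.coe_mul, map_mul, map_add]
      have e1 : ∑ i, algebraMap K₁ M (v₁ i : K₁) * algebraMap K₁ M (v₀₂ : K₁) *
          (algebraMap L M (algebraMap B L (b₁ i)) * algebraMap L M (algebraMap B L b₀₂)) =
          (∑ i, algebraMap K₁ M (v₁ i : K₁) * algebraMap L M (algebraMap B L (b₁ i))) *
          (algebraMap K₁ M (v₀₂ : K₁) * algebraMap L M (algebraMap B L b₀₂)) := by
        rw [Finset.sum_mul]
        apply Finset.sum_congr rfl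
        intro i _
        ring
      have e2 : ∑ i, algebraMap K₁ M (v₂ i : K₁) * algebraMap K₁ M (v₀₁ : K₁) *
          (algebraMap L M (algebraMap B L (b₂ i)) * algebraMap L M (algebraMap B L b₀₁)) =
          (∑ i, algebraMap K₁ M (v₂ i : K₁) * algebraMap L M (algebraMap B L (b₂ i))) *
          (algebraMap K₁ M (v₀₁ : K₁) * algebraMap L M (algebraMap B L b₀₁)) := by
        rw [Finset.sum_mul]
        apply Finset.sum_congr rfl
        intro i _
        ring
      rw [e1, e2, ← he₁, ← he₂]
      ring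

end Groth.Agent.Lib.Helper9.AbhGen
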