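import Mathlib
import Groth.Prelude.Def_EtRam
import Groth.Agent.Lib.Helper9.AbhCore
import Groth.Agent.Lib.Helper9.AbhDVR
import Groth.Agent.Lib.Helper9.TameBase
import Groth.Agent.S2451
import Groth.Agent.S9407

/-!
# Abhyankar's lemma, abstract version for discrete valuation rings (helper9)
-/

universe u

open IsLocalRing TensorProduct EtRam Polynomial

namespace Groth.Agent.Lib.Helper9.AbhTame

open Groth.Agent.Lib.Helper9.TameBase

section Z

variable {A B V W : Type u} [CommRing A]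
  [CommRing B] [CommRing V]
  [CommRing W] [IsDomain W] [IsDiscreteValuationRing W]
  [Algebra A B] [Algebra A V] [Algebra B W] [Algebra V W] [Algebra A W]
  [IsScalarTower A B W] [IsScalarTower A V W]

/-- The unit `z = θ / π_B` with `z ^ e = u_B / u₁`. -/
theorem exists_z {π : A} {πB : B} {π₁ : V} (uB : Bˣ) (u₁ : Vˣ) (e k : ℕ) (he0 : e ≠ 0)
    (hB0 : algebraMap B W πB ≠ 0) (h10 : algebraMap V W π₁ ≠ 0)
    (huB : algebraMap A B π = uB * πB ^ e) (hu₁ : algebraMap A V π = u₁ * π₁ ^ (e * k)) :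
    ∃ z : Wˣ, algebraMap V W (π₁ ^ k) = z * algebraMap B W πB ∧
      (z : W) ^ e * algebraMap V W u₁ = algebraMap B W uB := by
  obtain ⟨ϖ, hϖ⟩ := IsDiscreteValuationRing.exists_irreducible W
  have hcompat : algebraMap V W (algebraMap A V π) = algebraMap B W (algebraMap A B π) := by
    rw [← IsScalarTower.algebraMap_apply, ← IsScalarTower.algebraMap_apply]
  rw [huB, hu₁, map_mul, map_mul, map_pow, map_pow, pow_mul'] at hcompat
  obtain ⟨a, wB, hwB⟩ := IsDiscreteValuationRing.eq_unit_mul_pow_irreducible hB0 hϖ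
  have hθ0 : algebraMap V W π₁ ^ k ≠ 0 := pow_ne_zero _ h10
  obtain ⟨c, wθ, hwθ⟩ := IsDiscreteValuationRing.eq_unit_mul_pow_irreducible hθ0 hϖ
  have hu₁W : IsUnit (algebraMap V W u₁) := u₁.isUnit.map _
  have huBW : IsUnit (algebraMap B W uB) := uB.isUnit.map _
  obtain ⟨y₁, hy₁⟩ := hu₁W
  obtain ⟨yB, hyB⟩ := huBW
  have hca : c = a := by
    have h3 : ((y₁ * wθ ^ e : Wˣ) : W) * ϖ ^ (c * e) = ((yB * wB ^ e : Wˣ) : W) * ϖ ^ (a * e) := by
      push_cast
      rw [hy₁, hyB]
      calc algebraMap V W u₁ * (wθ : W) ^ e * ϖ ^ (c * e)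
          = algebraMap V W u₁ * ((wθ : W) * ϖ ^ c) ^ e := by rw [mul_pow, ← pow_mul]; ring
        _ = algebraMap V W u₁ * (algebraMap V W π₁ ^ k) ^ e := by rw [← hwθ]
        _ = algebraMap B W uB * algebraMap B W πB ^ e := hcompat
        _ = algebraMap B W uB * ((wB : W) * ϖ ^ a) ^ e := by rw [← hwB]
        _ = algebraMap B W uB * (wB : W) ^ e * ϖ ^ (a * e) := by rw [mul_pow, ← pow_mul]; ring
    have h4 := IsDiscreteValuationRing.unit_mul_pow_congr_pow hϖ hϖ _ _ _ _ h3
    exact Nat.eq_of_mul_eq_mul_right (Nat.pos_of_ne_zero he0) h4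
  subst hca
  refine ⟨wθ * wB⁻¹, ?_, ?_⟩
  · rw [map_pow, hwθ, hwB]
    push_cast
    rw [mul_assoc, ← mul_assoc ((wB⁻¹ : Wˣ) : W), Units.inv_mul, one_mul]
  · have hz : algebraMap V W π₁ ^ k = ((wθ * wB⁻¹ : Wˣ) : W) * algebraMap B W πB := by
      rw [hwθ, hwB]
      push_cast
      rw [mul_assoc, ← mul_assoc ((wB⁻¹ : Wˣ) : W), Units.inv_mul, one_mul]
    rw [hz, mul_pow] at hcompat
    have hne : algebraMap B W πB ^ e ≠ 0 := pow_ne_zero _ hB0
    apply mul_right_cancel₀ hne
    rw [← hcompat]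
    ring

end Z

section Pair

variable {D₀ : Type u} [CommRing D₀] (e : ℕ) (he0 : e ≠ 0) (ū : D₀) (hū : IsUnit ū)
  (he : IsUnit ((e : ℕ) : D₀))

/-- The standard étale pair `(X ^ e - ū, 1)`. -/
noncomputable def pair : StandardEtalePair D₀ where
  f := X ^ e - C ū
  monic_f := monic_X_pow_sub_C ū he0
  g := 1
  cond := by
    obtain ⟨c, hc⟩ := he.mul hū
    refine ⟨C ((c⁻¹ : D₀ˣ) : D₀) * X, - C (((c⁻¹ : D₀ˣ) : D₀) * (e : D₀)), 0, ?_⟩
    have hX : (X : D₀[X]) ^ (e - 1) * X = X ^ e := by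
      rw [← pow_succ, Nat.sub_add_cancel (Nat.one_le_iff_ne_zero.mpr he0)]
    have hC : C ((c⁻¹ : D₀ˣ) : D₀) * C ((e : ℕ) : D₀) * C ū = (1 : D₀[X]) := by
      rw [← C_mul, ← C_mul, mul_assoc, ← hc, Units.inv_mul, C_1]
    have hder : derivative (X ^ e - C ū : D₀[X]) = C ((e : ℕ) : D₀) * X ^ (e - 1) := by
      rw [derivative_sub, derivative_C, sub_zero, derivative_X_pow]
    rw [hder, pow_zero, C_mul]
    linear_combination (C ((e : ℕ) : D₀) * C ((c⁻¹ : D₀ˣ) : D₀)) * hX + hC

theorem pair_f : (pair e he0 ū hū he).f = X ^ e - C ū := rfl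

theorem pair_g : (pair e he0 ū hū he).g = 1 := rfl

/-- `aeval X` from the polynomial ring is surjective onto the standard étale algebra of `pair`. -/
theorem aeval_X_surjective :
    Function.Surjective (aeval (R := D₀) (pair e he0 ū hū he).X) := by
  intro x
  let Pres : StandardEtalePresentation D₀ (pair e he0 ū hū he).Ring :=
    ⟨pair e he0 ū hū he, (pair e he0 ū hū he).X, (pair e he0 ū hū he).hasMap_X, by
      simpa [StandardEtalePair.lift_X_left] using Function.bijective_id⟩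
  obtain ⟨p, n, hp⟩ := Pres.exists_mul_aeval_x_g_pow_eq_aeval_x x
  refine ⟨p, ?_⟩
  have hg : (aeval Pres.x) Pres.g = 1 := by
    show (aeval Pres.x) (1 : D₀[X]) = 1
    exact map_one _
  rw [hg, one_pow, mul_one] at hp
  exact hp.symm

/-- The kernel of `aeval X` is generated by `X ^ e - ū`. -/
theorem dvd_of_aeval_X_eq_zero (p : D₀[X]) (hp : aeval (pair e he0 ū hū he).X p = 0) :
    (X ^ e - C ū : D₀[X]) ∣ p := by
  have hmap : (pair e he0 ū hū he).HasMap (AdjoinRoot.root (X ^ e - C ū : D₀[X])) := by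
    constructor
    · show aeval (AdjoinRoot.root (X ^ e - C ū : D₀[X])) (X ^ e - C ū : D₀[X]) = 0
      rw [AdjoinRoot.aeval_eq, AdjoinRoot.mk_self]
    · show IsUnit (aeval (AdjoinRoot.root (X ^ e - C ū : D₀[X])) (1 : D₀[X]))
      rw [map_one]
      exact isUnit_one
  let φ := (pair e he0 ū hū he).lift _ hmap
  have h1 : φ (aeval (pair e he0 ū hū he).X p) = aeval (AdjoinRoot.root _) p := by
    rw [← aeval_algHom_apply, StandardEtalePair.lift_X]
  rw [hp, map_zero, AdjoinRoot.aeval_eq] at h1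
  exact AdjoinRoot.mk_eq_zero.mp h1.symm

variable [IsReduced D₀] [IsArtinianRing D₀]

theorem pair_isReduced : IsReduced (pair e he0 ū hū he).Ring := by
  haveI : Algebra.Smooth D₀ (pair e he0 ū hū he).Ring := inferInstance
  exact Groth.Agent.S9407.result D₀ _

theorem pair_isArtinianRing : IsArtinianRing (pair e he0 ū hū he).Ring := by
  haveI : Algebra.QuasiFinite D₀ (pair e he0 ū hū he).Ring := inferInstance
  haveI : Module.Finite D₀ (pair e he0 ū hū he).Ring := Module.Finite.of_quasiFinite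
  exact IsArtinianRing.of_finite D₀ _

end Pair

section Tame

variable (A B V W : Type u) [CommRing A] [IsDomain A] [IsDiscreteValuationRing A]
  [CommRing B] [IsDomain B] [IsDiscreteValuationRing B]
  [CommRing V] [IsDomain V] [IsDiscreteValuationRing V]
  [CommRing W] [IsDomain W] [IsDiscreteValuationRing W]
  [Algebra A B] [Algebra A V] [Algebra B W] [Algebra V W] [Algebra A W]
  [IsScalarTower A B W] [IsScalarTower A V W]
  [IsLocalHom (algebraMap A B)] [IsLocalHom (algebraMap A V)] [IsLocalHom (algebraMap B W)]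
  [IsLocalHom (algebraMap V W)]

set_option maxHeartbeats 4000000 in
set_option synthInstance.maxHeartbeats 200000 in
/-- **Abhyankar's lemma**, abstract version: if the ramification index `e` of `A → B` is
invertible in the residue field, the residue extension of `A → B` is geometrically reduced,
`e` divides the ramification index of `A → V`, and `W` is a DVR generated by `B` and `V`, then
`V → W` is weakly unramified with geometrically reduced residue field extension. -/
theorem tame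
    [Module.Finite (ResidueField A) (ResidueField V)]
    [Algebra.IsGeometricallyReduced (ResidueField A) (ResidueField B)]
    (hAB : Function.Injective (algebraMap A B)) (hAV : Function.Injective (algebraMap A V))
    (hBW : Function.Injective (algebraMap B W)) (hVW : Function.Injective (algebraMap V W))
    (he : IsUnit ((Ideal.ramificationIdx' (maximalIdeal A) (maximalIdeal B) : ℕ) :
      ResidueField A))
    (hdiv : Ideal.ramificationIdx' (maximalIdeal A) (maximalIdeal B) ∣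
      Ideal.ramificationIdx' (maximalIdeal A) (maximalIdeal V))
    (hgen : ∀ w : W, ∃ c s : V ⊗[A] B,
      Algebra.TensorProduct.productMap (IsScalarTower.toAlgHom A V W)
        (IsScalarTower.toAlgHom A B W) s ≠ 0 ∧
      w * Algebra.TensorProduct.productMap (IsScalarTower.toAlgHom A V W)
        (IsScalarTower.toAlgHom A B W) s =
      Algebra.TensorProduct.productMap (IsScalarTower.toAlgHom A V W)
        (IsScalarTower.toAlgHom A B W) c) :
    IsWeaklyUnramified V W ∧
      Algebra.IsGeometricallyReduced (ResidueField V) (ResidueField W) := by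
  classical
  -- uniformizers and ramification
  obtain ⟨π, hπ⟩ := IsDiscreteValuationRing.exists_irreducible A
  obtain ⟨πB, hπB⟩ := IsDiscreteValuationRing.exists_irreducible B
  obtain ⟨π₁, hπ₁⟩ := IsDiscreteValuationRing.exists_irreducible V
  obtain ⟨he0, uB, huB⟩ := exists_eq_unit_mul_pow hAB hπ hπB
  obtain ⟨he₁0, u₁, hu₁⟩ := exists_eq_unit_mul_pow hAV hπ hπ₁
  obtain ⟨k, hk⟩ := hdiv
  rw [hk] at hu₁ he₁0
  generalize Ideal.ramificationIdx' (maximalIdeal A) (maximalIdeal B) = e at he he0 huB hu₁ he₁0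
  have hk0 : k ≠ 0 := by
    rintro rfl
    exact he₁0 (mul_zero _)
  have hB0 : algebraMap B W πB ≠ 0 := fun h => hπB.ne_zero (hBW (by rw [h, map_zero]))
  have h10 : algebraMap V W π₁ ≠ 0 := fun h => hπ₁.ne_zero (hVW (by rw [h, map_zero]))
  obtain ⟨z, hz, hze⟩ := exists_z (A := A) uB u₁ e k he0 hB0 h10 huB hu₁
  -- the rings
  let ψ₀ : V ⊗[A] B →ₐ[A] W :=
    Algebra.TensorProduct.productMap (IsScalarTower.toAlgHom A V W) (IsScalarTower.toAlgHom A B W)
  let Ψ₀ : V ⊗[A] B →+* W := ψ₀.toRingHom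
  have hΨ₀ : ∀ (v : V) (b : B), Ψ₀ (v ⊗ₜ[A] b) = algebraMap V W v * algebraMap B W b := by
    intro v b
    show ψ₀ (v ⊗ₜ[A] b) = _
    rw [Algebra.TensorProduct.productMap_apply_tmul]
    rfl
  let fV : V →ₐ[A] ResidueField V := IsScalarTower.toAlgHom A V (ResidueField V)
  let fB : B →ₐ[A] ResidueField B := IsScalarTower.toAlgHom A B (ResidueField B)
  have hfV : Function.Surjective fV := residue_surjective
  have hfB : Function.Surjective fB := residue_surjective
  let μ : V ⊗[A] B →ₐ[A] ResidueField V ⊗[A] ResidueField B := Algebra.TensorProduct.map fV fB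
  let q₀ : V ⊗[A] B →+* ResidueField V ⊗[A] ResidueField B := μ.toRingHom
  have hq₀ : Function.Surjective q₀ := Algebra.TensorProduct.map_surjective fV fB hfV hfB
  have hkerμ : RingHom.ker q₀ =
      (maximalIdeal V).map (Algebra.TensorProduct.includeLeft : V →ₐ[A] V ⊗[A] B) ⊔
      (maximalIdeal B).map (Algebra.TensorProduct.includeRight : B →ₐ[A] V ⊗[A] B) := by
    have h := Algebra.TensorProduct.map_ker fV fB hfV hfB
    have h1 : RingHom.ker fV = maximalIdeal V := ker_residue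
    have h2 : RingHom.ker fB = maximalIdeal B := ker_residue
    rw [h1, h2] at h
    exact h
  -- structure of `D₀`
  haveI := AbhDVR.compatibleSMul_residue A B V
  let ε : ResidueField V ⊗[A] ResidueField B ≃ₐ[ResidueField V]
      ResidueField V ⊗[ResidueField A] ResidueField B :=
    Algebra.TensorProduct.equivOfCompatibleSMul (ResidueField A) A (ResidueField V)
      (ResidueField V) (ResidueField B)
  haveI : Algebra.IsAlgebraic (ResidueField A) (ResidueField V) := Algebra.IsAlgebraic.of_finite _ _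
  haveI hred00 : IsReduced (ResidueField V ⊗[ResidueField A] ResidueField B) := inferInstance
  haveI hred0 : IsReduced (ResidueField V ⊗[A] ResidueField B) :=
    isReduced_of_injective ε.toAlgHom ε.injective
  haveI hart00 : IsArtinianRing (ResidueField B ⊗[ResidueField A] ResidueField V) :=
    IsArtinianRing.of_finite (ResidueField B) _
  haveI hart01 : IsArtinianRing (ResidueField V ⊗[ResidueField A] ResidueField B) :=
    (Algebra.TensorProduct.comm (ResidueField A) (ResidueField B)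
      (ResidueField V)).toRingEquiv.isArtinianRing
  haveI hart0 : IsArtinianRing (ResidueField V ⊗[A] ResidueField B) :=
    ε.symm.toRingEquiv.isArtinianRing
  haveI hfsAB : Algebra.FormallySmooth (ResidueField A) (ResidueField B) :=
    Groth.Agent.S2451.result.mpr inferInstance
  haveI hfs00 : Algebra.FormallySmooth (ResidueField V)
      (ResidueField V ⊗[ResidueField A] ResidueField B) := inferInstance
  haveI hfs0 : Algebra.FormallySmooth (ResidueField V) (ResidueField V ⊗[A] ResidueField B) :=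
    Algebra.FormallySmooth.of_equiv ε.symm
  -- the unit `w₀`
  let w₀ : V ⊗[A] B := ((u₁⁻¹ : Vˣ) : V) ⊗ₜ[A] (uB : B)
  have hw₀u : IsUnit w₀ := by
    refine ⟨⟨w₀, (u₁ : V) ⊗ₜ[A] ((uB⁻¹ : Bˣ) : B), ?_, ?_⟩, rfl⟩
    · show ((u₁⁻¹ : Vˣ) : V) ⊗ₜ[A] (uB : B) * ((u₁ : V) ⊗ₜ[A] ((uB⁻¹ : Bˣ) : B)) = 1
      rw [Algebra.TensorProduct.tmul_mul_tmul, Units.inv_mul, Units.mul_inv]
      rfl
    · show ((u₁ : V) ⊗ₜ[A] ((uB⁻¹ : Bˣ) : B)) * (((u₁⁻¹ : Vˣ) : V) ⊗ₜ[A] (uB : B)) = 1
      rw [Algebra.TensorProduct.tmul_mul_tmul, Units.mul_inv, Units.inv_mul]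
      rfl
  have hΨ₀w₀ : Ψ₀ w₀ = (z : W) ^ e := by
    rw [hΨ₀, ← hze]
    have : algebraMap V W ((u₁⁻¹ : Vˣ) : V) * algebraMap V W (u₁ : V) = 1 := by
      rw [← map_mul, Units.inv_mul, map_one]
    calc algebraMap V W ((u₁⁻¹ : Vˣ) : V) * ((z : W) ^ e * algebraMap V W (u₁ : V))
        = (z : W) ^ e * (algebraMap V W ((u₁⁻¹ : Vˣ) : V) * algebraMap V W (u₁ : V)) := by ring
      _ = (z : W) ^ e := by rw [this, mul_one]
  have hū : IsUnit (q₀ w₀) := hw₀u.map q₀
  have heD : IsUnit ((e : ℕ) : ResidueField V ⊗[A] ResidueField B) := by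
    have h1 : IsUnit (algebraMap (ResidueField A) (ResidueField V) ((e : ℕ) : ResidueField A)) :=
      he.map _
    rw [map_natCast] at h1
    have h2 := h1.map (algebraMap (ResidueField V) (ResidueField V ⊗[A] ResidueField B))
    rwa [map_natCast] at h2
  let P : StandardEtalePair (ResidueField V ⊗[A] ResidueField B) := pair e he0 (q₀ w₀) hū heD
  haveI hredD : IsReduced P.Ring := pair_isReduced e he0 (q₀ w₀) hū heD
  haveI hartD : IsArtinianRing P.Ring := pair_isArtinianRing e he0 (q₀ w₀) hū heD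
  letI algkVD : Algebra (ResidueField V) P.Ring :=
    ((algebraMap (ResidueField V ⊗[A] ResidueField B) P.Ring).comp
      (algebraMap (ResidueField V) (ResidueField V ⊗[A] ResidueField B))).toAlgebra
  haveI towD : IsScalarTower (ResidueField V) (ResidueField V ⊗[A] ResidueField B) P.Ring :=
    IsScalarTower.of_algebraMap_eq (fun _ => rfl)
  haveI hfsD0 : Algebra.FormallySmooth (ResidueField V ⊗[A] ResidueField B) P.Ring :=
    inferInstance
  haveI hfsD : Algebra.FormallySmooth (ResidueField V) P.Ring :=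
    Algebra.FormallySmooth.comp (ResidueField V) (ResidueField V ⊗[A] ResidueField B) P.Ring
  -- the maps from the polynomial ring
  let Ψ : (V ⊗[A] B)[X] →+* W := eval₂RingHom Ψ₀ (z : W)
  have hΨC : ∀ t₀, Ψ (C t₀) = Ψ₀ t₀ := fun t₀ => eval₂_C _ _
  have hΨX : Ψ X = (z : W) := eval₂_X _ _
  let q : (V ⊗[A] B)[X] →+* P.Ring :=
    (aeval (R := ResidueField V ⊗[A] ResidueField B) P.X).toRingHom.comp (mapRingHom q₀)
  have hqapp : ∀ t, q t = aeval P.X (t.map q₀) := fun _ => rfl
  have hq : Function.Surjective q := by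
    intro d
    obtain ⟨p', hp'⟩ := aeval_X_surjective e he0 (q₀ w₀) hū heD d
    obtain ⟨t, ht⟩ := Polynomial.map_surjective q₀ hq₀ p'
    exact ⟨t, by rw [hqapp, ht, hp']⟩
  let p : (V ⊗[A] B)[X] := C (π₁ ⊗ₜ[A] (1 : B))
  have hΨl : ∀ v : V, Ψ (C (v ⊗ₜ[A] (1 : B))) = algebraMap V W v := by
    intro v
    rw [hΨC, hΨ₀, map_one, mul_one]
  have hΨr : ∀ b : B, Ψ (C ((1 : V) ⊗ₜ[A] b)) = algebraMap B W b := by
    intro b
    rw [hΨC, hΨ₀, map_one, one_mul]
  have hΨp : Ψ p = algebraMap V W π₁ := hΨl π₁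
  have hpm : Ψ p ∈ maximalIdeal W := by
    rw [hΨp]
    exact ((mem_maximalIdeal _).mpr (fun hu =>
      hπ₁.not_isUnit (isUnit_of_map_unit (algebraMap V W) π₁ hu)))
  have hp0 : Ψ p ≠ 0 := by
    rw [hΨp]
    exact h10
  -- the hypothesis `H`
  let J : Ideal (V ⊗[A] B)[X] := Ideal.comap Ψ.rangeRestrict (Ideal.span {Ψ.rangeRestrict p})
  have hJmul : ∀ t t' : (V ⊗[A] B)[X], Ψ t = Ψ t' * Ψ p → t ∈ J := by
    intro t t' h
    show Ψ.rangeRestrict t ∈ Ideal.span {Ψ.rangeRestrict p}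
    have : Ψ.rangeRestrict t = Ψ.rangeRestrict t' * Ψ.rangeRestrict p := by
      apply Subtype.ext
      simp only [Subring.coe_mul, RingHom.coe_rangeRestrict]
      exact h
    rw [this]
    exact Ideal.mul_mem_left _ _ (Ideal.mem_span_singleton_self _)
  have hJl : ∀ v ∈ maximalIdeal V, C (v ⊗ₜ[A] (1 : B)) ∈ J := by
    intro v hv
    rw [hπ₁.maximalIdeal_eq, Ideal.mem_span_singleton'] at hv
    obtain ⟨v', rfl⟩ := hv
    apply hJmul _ (C (v' ⊗ₜ[A] (1 : B)))
    rw [hΨl, hΨl, hΨp, map_mul]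
  -- the inverse of `z` lies in the image of `Ψ`
  let Zinv : (V ⊗[A] B)[X] := X ^ (e - 1) * C ((u₁ : V) ⊗ₜ[A] ((uB⁻¹ : Bˣ) : B))
  have hZinv : Ψ Zinv * (z : W) = 1 := by
    have h1 : Ψ Zinv = (z : W) ^ (e - 1) * (algebraMap V W (u₁ : V) *
        algebraMap B W ((uB⁻¹ : Bˣ) : B)) := by
      show Ψ (X ^ (e - 1) * C ((u₁ : V) ⊗ₜ[A] ((uB⁻¹ : Bˣ) : B))) = _
      rw [map_mul, map_pow, hΨX, hΨC, hΨ₀]
    have h2 : (z : W) ^ (e - 1) * (z : W) = (z : W) ^ e := by
      rw [← pow_succ, Nat.sub_add_cancel (Nat.one_le_iff_ne_zero.mpr he0)]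
    have h3 : algebraMap B W (uB : B) * algebraMap B W ((uB⁻¹ : Bˣ) : B) = 1 := by
      rw [← map_mul, Units.mul_inv, map_one]
    calc Ψ Zinv * (z : W)
        = ((z : W) ^ (e - 1) * (z : W)) * algebraMap V W (u₁ : V) *
            algebraMap B W ((uB⁻¹ : Bˣ) : B) := by rw [h1]; ring
      _ = ((z : W) ^ e * algebraMap V W (u₁ : V)) * algebraMap B W ((uB⁻¹ : Bˣ) : B) := by
          rw [h2]
      _ = 1 := by rw [hze, h3]
  have hJr : ∀ b ∈ maximalIdeal B, C ((1 : V) ⊗ₜ[A] b) ∈ J := by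
    intro b hb
    rw [hπB.maximalIdeal_eq, Ideal.mem_span_singleton'] at hb
    obtain ⟨b', rfl⟩ := hb
    apply hJmul _ (C ((1 : V) ⊗ₜ[A] b') * Zinv * C ((π₁ ^ (k - 1)) ⊗ₜ[A] (1 : B)))
    have hθ : algebraMap V W (π₁ ^ (k - 1)) * algebraMap V W π₁ =
        (z : W) * algebraMap B W πB := by
      rw [← map_mul, ← pow_succ, Nat.sub_add_cancel (Nat.one_le_iff_ne_zero.mpr hk0), hz]
    have e1 : Ψ (C ((1 : V) ⊗ₜ[A] (b' * πB))) = algebraMap B W b' * algebraMap B W πB := by
      rw [hΨr, map_mul]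
    have e2 : Ψ (C ((1 : V) ⊗ₜ[A] b') * Zinv * C ((π₁ ^ (k - 1)) ⊗ₜ[A] (1 : B))) * Ψ p =
        algebraMap B W b' * Ψ Zinv * algebraMap V W (π₁ ^ (k - 1)) * algebraMap V W π₁ := by
      rw [map_mul, map_mul, hΨr, hΨl, hΨp]
    rw [e1, e2]
    calc algebraMap B W b' * algebraMap B W πB
        = algebraMap B W b' * ((Ψ Zinv * (z : W)) * algebraMap B W πB) := by
          rw [hZinv, one_mul]
      _ = algebraMap B W b' * Ψ Zinv * ((z : W) * algebraMap B W πB) := by ring
      _ = algebraMap B W b' * Ψ Zinv *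
            (algebraMap V W (π₁ ^ (k - 1)) * algebraMap V W π₁) := by rw [hθ]
      _ = algebraMap B W b' * Ψ Zinv * algebraMap V W (π₁ ^ (k - 1)) * algebraMap V W π₁ := by
          ring
  have hJC : RingHom.ker q₀ ≤ Ideal.comap (C : V ⊗[A] B →+* (V ⊗[A] B)[X]) J := by
    rw [hkerμ]
    refine sup_le ?_ ?_
    · rw [Ideal.map_le_iff_le_comap]
      intro v hv
      exact hJl v hv
    · rw [Ideal.map_le_iff_le_comap]
      intro b hb
      exact hJr b hb
  let F : (V ⊗[A] B)[X] := X ^ e - C w₀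
  have hFJ : F ∈ J := by
    show Ψ.rangeRestrict F ∈ Ideal.span {Ψ.rangeRestrict p}
    have : Ψ.rangeRestrict F = 0 := by
      apply Subtype.ext
      simp only [RingHom.coe_rangeRestrict, ZeroMemClass.coe_zero]
      show Ψ (X ^ e - C w₀) = 0
      rw [map_sub, map_pow, hΨX, hΨC, hΨ₀w₀, sub_self]
    rw [this]
    exact Ideal.zero_mem _
  have hFmap : F.map q₀ = (X ^ e - C (q₀ w₀) : (ResidueField V ⊗[A] ResidueField B)[X]) := by
    show (X ^ e - C w₀ : (V ⊗[A] B)[X]).map q₀ = _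
    rw [Polynomial.map_sub, Polynomial.map_pow, Polynomial.map_X, Polynomial.map_C]
  have hkerJ : RingHom.ker q ≤ J := by
    intro t ht
    rw [RingHom.mem_ker, hqapp] at ht
    obtain ⟨h, hh⟩ := dvd_of_aeval_X_eq_zero e he0 (q₀ w₀) hū heD _ ht
    obtain ⟨h', rfl⟩ := Polynomial.map_surjective q₀ hq₀ h
    rw [← hFmap, ← Polynomial.map_mul] at hh
    have hdiff : t - F * h' ∈ RingHom.ker (mapRingHom q₀) := by
      rw [RingHom.mem_ker, coe_mapRingHom, Polynomial.map_sub, hh, sub_self]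
    rw [Polynomial.ker_mapRingHom] at hdiff
    have hdJ : t - F * h' ∈ J := (Ideal.map_le_iff_le_comap.mpr hJC) hdiff
    have : t = (t - F * h') + F * h' := by ring
    rw [this]
    exact J.add_mem hdJ (J.mul_mem_right _ hFJ)
  have H : ∀ t, q t = 0 → ∃ t₁, Ψ t = Ψ p * Ψ t₁ := by
    intro t ht
    have htJ : t ∈ J := hkerJ ((RingHom.mem_ker).mpr ht)
    have h1 : Ψ.rangeRestrict t ∈ Ideal.span {Ψ.rangeRestrict p} := htJ
    rw [Ideal.mem_span_singleton'] at h1
    obtain ⟨a, ha⟩ := h1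
    obtain ⟨t₁, ht₁⟩ := a.2
    refine ⟨t₁, ?_⟩
    have h2 := congrArg (fun x : Ψ.range => (x : W)) ha
    simp only [Subring.coe_mul, RingHom.coe_rangeRestrict] at h2
    rw [← h2, ht₁, mul_comm]
  have hgen' : ∀ w : W, ∃ c s : (V ⊗[A] B)[X], Ψ s ≠ 0 ∧ w * Ψ s = Ψ c := by
    intro w
    obtain ⟨c, s, hs, hcs⟩ := hgen w
    refine ⟨C c, C s, ?_, ?_⟩
    · rw [hΨC]
      exact hs
    · rw [hΨC, hΨC]
      exact hcs
  constructor
  · -- weakly unramified
    have h1 := AbhCore.uniformizer Ψ q hq p hpm hp0 H hgen'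
    show (maximalIdeal V).map (algebraMap V W) = maximalIdeal W
    rw [h1, hΨp, hπ₁.maximalIdeal_eq, Ideal.map_span, Set.image_singleton]
  · -- residue field extension
    have h2 : Algebra.FormallySmooth (ResidueField V) (ResidueField W) := by
      refine AbhCore.formallySmooth_residueField Ψ q hq p hpm hp0 H hgen' (ResidueField V) ?_
      intro c t ht
      obtain ⟨v, rfl⟩ := residue_surjective c
      have hqv : q (C (v ⊗ₜ[A] (1 : B))) = algebraMap (ResidueField V) P.Ring (residue V v) := by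
        rw [hqapp, Polynomial.map_C, aeval_C]
        show algebraMap _ P.Ring (μ (v ⊗ₜ[A] (1 : B))) = _
        rw [Algebra.TensorProduct.map_tmul, map_one]
        rfl
      have hdiff : q (t - C (v ⊗ₜ[A] (1 : B))) = 0 := by
        rw [map_sub, ht, hqv, sub_self]
      have hmem := AbhCore.hker_of_H Ψ q p hpm H _ hdiff
      rw [map_sub, ← residue_eq_zero_iff, map_sub, sub_eq_zero, hΨl] at hmem
      rw [hmem]
      rfl
    exact Groth.Agent.S2451.result.mp h2

end Tame

end Groth.Agent.Lib.Helper9.AbhTame
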