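import Mathlib

/-!
# Abhyankar's inequality for extensions of valued fields (helper9)

`rat.rank (|L^×|/|K^×|) + trdeg (κ_L / κ_K) ≤ trdeg (L / K)`.
-/

set_option autoImplicit false

namespace Groth.Agent.Lib.Helper9.Abhyankar

open IsLocalRing

/-- A finite sum of nonzero terms with pairwise distinct valuations is nonzero. -/
theorem sum_ne_zero_of_valuation_injOn {L Γ ι : Type*} [Field L]
    [LinearOrderedCommGroupWithZero Γ] (v : Valuation L Γ) (s : Finset ι) (f : ι → L)
    (hne : s.Nonempty) (hf : ∀ i ∈ s, f i ≠ 0)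
    (hinj : ∀ i ∈ s, ∀ j ∈ s, v (f i) = v (f j) → i = j) : ∑ i ∈ s, f i ≠ 0 := by
  classical
  obtain ⟨i₀, hi₀, hmax⟩ := s.exists_max_image (fun i => v (f i)) hne
  have h0 : v (f i₀) ≠ 0 := (Valuation.ne_zero_iff v).mpr (hf i₀ hi₀)
  have hlt : ∀ j ∈ s.erase i₀, v (f j) < v (f i₀) := by
    intro j hj
    have hj' := Finset.mem_erase.mp hj
    exact lt_of_le_of_ne (hmax j hj'.2) (fun h => hj'.1 (hinj j hj'.2 i₀ hi₀ h))
  have h1 : v (∑ j ∈ s.erase i₀, f j) < v (f i₀) := Valuation.map_sum_lt v h0 hlt
  rw [← Finset.add_sum_erase s f hi₀]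
  intro h2
  have h3 := Valuation.map_add_eq_of_lt_left v h1
  rw [h2, map_zero] at h3
  exact h0 h3.symm

section Gauss

variable {K L Γ₀ Γ₁ : Type*} [Field K] [Field L] [Algebra K L]
  [LinearOrderedCommGroupWithZero Γ₀] [LinearOrderedCommGroupWithZero Γ₁]
  (vK : Valuation K Γ₀) (vL : Valuation L Γ₁) [vK.HasExtension vL]

/-- **Gauss lemma**: if the residues of `y` are algebraically independent over the residue field of
`K`, then the valuation of a nonzero polynomial expression in `y` over `K` is the valuation of one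
of its coefficients. -/
theorem gauss {J : Type*} (y : J → vL.valuationSubring)
    (hy : AlgebraicIndependent (ResidueField vK.valuationSubring)
      (fun j => residue vL.valuationSubring (y j)))
    (P : MvPolynomial J K) (hP : P ≠ 0) :
    ∃ a : K, a ≠ 0 ∧
      vL (MvPolynomial.aeval (fun j => ((y j : vL.valuationSubring) : L)) P)
        = vL (algebraMap K L a) := by
  classical
  have hne : P.support.Nonempty := by
    rw [Finset.nonempty_iff_ne_empty, Ne, MvPolynomial.support_eq_empty]
    exact hP
  obtain ⟨m₀, hm₀, hmax⟩ := P.support.exists_max_image (fun m => vK (P.coeff m)) hne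
  have ha : P.coeff m₀ ≠ 0 := MvPolynomial.mem_support_iff.mp hm₀
  obtain ⟨a, ha_def⟩ : ∃ a : K, a = P.coeff m₀ := ⟨_, rfl⟩
  rw [← ha_def] at ha
  refine ⟨a, ha, ?_⟩
  have hva : vK a ≠ 0 := (Valuation.ne_zero_iff vK).mpr ha
  have hcoeff : ∀ m, vK (a⁻¹ * P.coeff m) ≤ 1 := by
    intro m
    by_cases hm : m ∈ P.support
    · rw [map_mul, map_inv₀, inv_mul_le_iff₀ (zero_lt_iff.mpr hva), mul_one, ha_def]
      exact hmax m hm
    · rw [MvPolynomial.notMem_support_iff.mp hm]
      simp
  obtain ⟨P'', hP''⟩ : ∃ P'' : MvPolynomial J vK.valuationSubring,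
      MvPolynomial.map (algebraMap vK.valuationSubring K) P'' = MvPolynomial.C a⁻¹ * P := by
    have h1 : MvPolynomial.C a⁻¹ * P ∈
        Set.range (MvPolynomial.map (algebraMap vK.valuationSubring K) (σ := J)) := by
      rw [MvPolynomial.mem_range_map_iff_coeffs_subset]
      intro c hc
      obtain ⟨m, -, rfl⟩ := MvPolynomial.mem_coeffs_iff.mp hc
      rw [MvPolynomial.coeff_C_mul]
      exact ⟨⟨_, hcoeff m⟩, rfl⟩
    exact h1
  obtain ⟨u, hu⟩ : ∃ u : vL.valuationSubring, u = MvPolynomial.aeval y P'' := ⟨_, rfl⟩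
  have hu1 : ((u : vL.valuationSubring) : L)
      = MvPolynomial.aeval (fun j => ((y j : vL.valuationSubring) : L))
          (MvPolynomial.C a⁻¹ * P) := by
    rw [← hP'', MvPolynomial.aeval_map_algebraMap, hu]
    exact MvPolynomial.comp_aeval_apply (f := y)
      (IsScalarTower.toAlgHom vK.valuationSubring vL.valuationSubring L) P''
  have hu2 : residue vL.valuationSubring u
      = MvPolynomial.aeval (fun j => residue vL.valuationSubring (y j))
          (MvPolynomial.map (residue vK.valuationSubring) P'') := by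
    rw [hu, MvPolynomial.aeval_def, MvPolynomial.aeval_def, MvPolynomial.eval₂_map,
      MvPolynomial.eval₂_comp_left]
    rfl
  have hne0 : MvPolynomial.map (residue vK.valuationSubring) P'' ≠ 0 := by
    intro h0
    have h1 := congrArg (MvPolynomial.coeff m₀) h0
    rw [MvPolynomial.coeff_map, MvPolynomial.coeff_zero] at h1
    have h2 : MvPolynomial.coeff m₀ P'' = 1 := by
      apply Subtype.ext
      have h3 := congrArg (MvPolynomial.coeff m₀) hP''
      rw [MvPolynomial.coeff_map, MvPolynomial.coeff_C_mul, ← ha_def, inv_mul_cancel₀ ha] at h3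
      exact h3
    rw [h2, map_one] at h1
    exact one_ne_zero h1
  have hunit : IsUnit u := by
    rw [← IsLocalRing.notMem_maximalIdeal, ← IsLocalRing.residue_eq_zero_iff, hu2]
    intro h0
    exact hne0 ((algebraicIndependent_iff.mp hy) _ h0)
  have hv1 : vL ((u : vL.valuationSubring) : L) = 1 :=
    ((Valuation.valuationSubring.integers vL).isUnit_iff_valuation_eq_one).mp hunit
  have hfinal : MvPolynomial.aeval (fun j => ((y j : vL.valuationSubring) : L)) P
      = algebraMap K L a * ((u : vL.valuationSubring) : L) := by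
    rw [hu1, map_mul, MvPolynomial.aeval_C, ← mul_assoc, ← map_mul, mul_inv_cancel₀ ha, map_one,
      one_mul]
  rw [hfinal, map_mul, hv1, mul_one]

end Gauss

section RatRank

variable {K L Γ₁ : Type*} [Field K] [Field L] [Algebra K L]
  [LinearOrderedCommGroupWithZero Γ₁] (vL : Valuation L Γ₁)

/-- The class of a monomial in the units `x i` in the quotient group is the corresponding integer
combination of the classes of the `x i`. -/
theorem mk_ofMul_prod_pow {I : Type*} (N : Subgroup Lˣ) (x : I → Lˣ) (d : I →₀ ℕ)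
    (s : Finset I) (hs : d.support ⊆ s) :
    (QuotientAddGroup.mk (Additive.ofMul (∏ i ∈ d.support, x i ^ d i)) :
        Additive Lˣ ⧸ Subgroup.toAddSubgroup N)
      = ∑ i ∈ s, (d i : ℤ) • (QuotientAddGroup.mk (Additive.ofMul (x i)) :
        Additive Lˣ ⧸ Subgroup.toAddSubgroup N) := by
  have h1 : ∏ i ∈ d.support, x i ^ d i = ∏ i ∈ s, x i ^ d i :=
    Finset.prod_subset hs (fun i _ hi => by rw [Finsupp.notMem_support_iff.mp hi, pow_zero])
  rw [h1, ofMul_prod]
  rw [← QuotientAddGroup.mk'_apply, map_sum]
  refine Finset.sum_congr rfl (fun i _ => ?_)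
  rw [ofMul_pow, map_nsmul, natCast_zsmul]
  rfl

/-- If every nonzero element of the subalgebra `R₁` has the valuation of an element of `K`, and the
classes of the units `x i` are ℤ-linearly independent modulo units and `K^×`, then the `x i` are
algebraically independent over `R₁`. -/
theorem algebraicIndependent_units {I : Type*} (R₁ : Subalgebra K L)
    (hR₁ : ∀ c : R₁, c ≠ 0 → ∃ a : K, a ≠ 0 ∧ vL (c : L) = vL (algebraMap K L a))
    (x : I → Lˣ)
    (hx : LinearIndependent ℤ (fun i => (QuotientAddGroup.mk (Additive.ofMul (x i)) :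
        Additive Lˣ ⧸ Subgroup.toAddSubgroup (vL.valuationSubring.unitGroup ⊔
          (Units.map (algebraMap K L).toMonoidHom).range)))) :
    AlgebraicIndependent R₁ (fun i => ((x i : Lˣ) : L)) := by
  classical
  rw [algebraicIndependent_iff]
  intro Q hQ
  by_contra hQ0
  have hne : Q.support.Nonempty := by
    rw [Finset.nonempty_iff_ne_empty, Ne, MvPolynomial.support_eq_empty]
    exact hQ0
  rw [MvPolynomial.aeval_def, MvPolynomial.eval₂_eq] at hQ
  have hUcoe : ∀ d : I →₀ ℕ, ((∏ i ∈ d.support, x i ^ d i : Lˣ) : L)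
      = ∏ i ∈ d.support, ((x i : Lˣ) : L) ^ d i := by
    intro d
    rw [Units.coe_prod]
    exact Finset.prod_congr rfl (fun i _ => Units.val_pow_eq_pow_val _ _)
  refine sum_ne_zero_of_valuation_injOn vL Q.support _ hne ?_ ?_ hQ
  · intro d hd
    apply mul_ne_zero
    · intro h0
      exact (MvPolynomial.mem_support_iff.mp hd) (Subtype.ext h0)
    · exact Finset.prod_ne_zero_iff.mpr (fun i _ => pow_ne_zero _ (x i).ne_zero)
  · intro d hd d' hd' hv
    obtain ⟨a, ha, hca⟩ := hR₁ (Q.coeff d) (MvPolynomial.mem_support_iff.mp hd)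
    obtain ⟨a', ha', hca'⟩ := hR₁ (Q.coeff d') (MvPolynomial.mem_support_iff.mp hd')
    rw [map_mul, map_mul, ← hUcoe, ← hUcoe] at hv
    have hv' : vL (algebraMap K L a) * vL ((∏ i ∈ d.support, x i ^ d i : Lˣ) : L)
        = vL (algebraMap K L a') * vL ((∏ i ∈ d'.support, x i ^ d' i : Lˣ) : L) := by
      rw [← hca, ← hca']
      exact hv
    -- the key membership
    have hmem : (∏ i ∈ d.support, x i ^ d i)⁻¹ * (∏ i ∈ d'.support, x i ^ d' i) ∈
        vL.valuationSubring.unitGroup ⊔ (Units.map (algebraMap K L).toMonoidHom).range := by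
      have hw : (∏ i ∈ d.support, x i ^ d i)⁻¹ * (∏ i ∈ d'.support, x i ^ d' i)
            * Units.map (algebraMap K L).toMonoidHom ((Units.mk0 a ha)⁻¹ * Units.mk0 a' ha')
          ∈ vL.valuationSubring.unitGroup := by
        rw [ValuationSubring.mem_unitGroup_iff,
          ← (Valuation.isEquiv_iff_val_eq_one.mp
            (Valuation.isEquiv_valuation_valuationSubring vL))]
        have ha0 : vL (algebraMap K L a) ≠ 0 :=
          (Valuation.ne_zero_iff vL).mpr (fun h => ha ((algebraMap K L).injective (by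
            rw [h, map_zero])))
        have hU0 : vL ((∏ i ∈ d.support, x i ^ d i : Lˣ) : L) ≠ 0 :=
          (Valuation.ne_zero_iff vL).mpr (Units.ne_zero _)
        simp only [Units.val_mul, Units.val_inv_eq_inv_val, Units.coe_map, Units.val_mk0,
          map_mul, map_inv₀, RingHom.toMonoidHom_eq_coe, MonoidHom.coe_coe]
        field_simp
        rw [mul_comm, ← hv', mul_comm]
      have h2 : (∏ i ∈ d.support, x i ^ d i)⁻¹ * (∏ i ∈ d'.support, x i ^ d' i)
          = ((∏ i ∈ d.support, x i ^ d i)⁻¹ * (∏ i ∈ d'.support, x i ^ d' i)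
            * Units.map (algebraMap K L).toMonoidHom ((Units.mk0 a ha)⁻¹ * Units.mk0 a' ha'))
            * Units.map (algebraMap K L).toMonoidHom ((Units.mk0 a ha)⁻¹ * Units.mk0 a' ha')⁻¹ := by
        rw [mul_assoc, ← map_mul, mul_inv_cancel, map_one, mul_one]
      rw [h2]
      exact Subgroup.mul_mem_sup hw ⟨_, rfl⟩
    have hmk : (QuotientAddGroup.mk (Additive.ofMul (∏ i ∈ d.support, x i ^ d i)) :
          Additive Lˣ ⧸ Subgroup.toAddSubgroup (vL.valuationSubring.unitGroup ⊔
            (Units.map (algebraMap K L).toMonoidHom).range))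
        = QuotientAddGroup.mk (Additive.ofMul (∏ i ∈ d'.support, x i ^ d' i)) := by
      rw [QuotientAddGroup.eq]
      exact hmem
    rw [mk_ofMul_prod_pow _ x d (d.support ∪ d'.support) Finset.subset_union_left,
      mk_ofMul_prod_pow _ x d' (d.support ∪ d'.support) Finset.subset_union_right] at hmk
    have hsum : ∑ i ∈ d.support ∪ d'.support, ((d i : ℤ) - (d' i : ℤ)) •
        (QuotientAddGroup.mk (Additive.ofMul (x i)) :
          Additive Lˣ ⧸ Subgroup.toAddSubgroup (vL.valuationSubring.unitGroup ⊔
            (Units.map (algebraMap K L).toMonoidHom).range)) = 0 := by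
      have h4 : ∀ i ∈ d.support ∪ d'.support, ((d i : ℤ) - (d' i : ℤ)) •
          (QuotientAddGroup.mk (Additive.ofMul (x i)) :
            Additive Lˣ ⧸ Subgroup.toAddSubgroup (vL.valuationSubring.unitGroup ⊔
              (Units.map (algebraMap K L).toMonoidHom).range))
          = (d i : ℤ) • (QuotientAddGroup.mk (Additive.ofMul (x i)) :
            Additive Lˣ ⧸ Subgroup.toAddSubgroup (vL.valuationSubring.unitGroup ⊔
              (Units.map (algebraMap K L).toMonoidHom).range))
            - (d' i : ℤ) • (QuotientAddGroup.mk (Additive.ofMul (x i)) :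
            Additive Lˣ ⧸ Subgroup.toAddSubgroup (vL.valuationSubring.unitGroup ⊔
              (Units.map (algebraMap K L).toMonoidHom).range)) :=
        fun i _ => sub_zsmul _ _ _
      have h5 := Finset.sum_sub_distrib (s := d.support ∪ d'.support)
        (f := fun i => (d i : ℤ) • (QuotientAddGroup.mk (Additive.ofMul (x i)) :
            Additive Lˣ ⧸ Subgroup.toAddSubgroup (vL.valuationSubring.unitGroup ⊔
              (Units.map (algebraMap K L).toMonoidHom).range)))
        (g := fun i => (d' i : ℤ) • (QuotientAddGroup.mk (Additive.ofMul (x i)) :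
            Additive Lˣ ⧸ Subgroup.toAddSubgroup (vL.valuationSubring.unitGroup ⊔
              (Units.map (algebraMap K L).toMonoidHom).range)))
      refine (Finset.sum_congr rfl h4).trans (h5.trans ?_)
      rw [hmk, sub_self]
    have hzero := linearIndependent_iff'.mp hx _ _ hsum
    ext i
    by_cases hi : i ∈ d.support ∪ d'.support
    · have h3 := hzero i hi
      omega
    · rw [Finset.mem_union, not_or] at hi
      rw [Finsupp.notMem_support_iff.mp hi.1, Finsupp.notMem_support_iff.mp hi.2]

end RatRank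

end Groth.Agent.Lib.Helper9.Abhyankar
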