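import Groth.Agent.Lib.Helper50.TensorDomain

/-!
# Functions vanishing on a fibrewise dense open of `R ⊗ A` (helper9)

Let `k` be an algebraically closed field, `A` a `k`-algebra which is a domain, `R` any
`k`-algebra.  If `h * f = 0` in `R ⊗[k] A`, where `h` is nonzero modulo a maximal ideal `q` of `R`
containing the annihilator of `f`, then `f = 0`.
-/

set_option autoImplicit false

namespace Groth.Agent.Lib.Helper9

open TensorProduct

universe u

/-- Key linear algebra lemma: if `h * f = 0` in `R ⊗[k] A` and `h` does not vanish in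
`(R ⧸ q) ⊗[k] A` (a domain), then some `d ∉ q` kills `f`. -/
theorem exists_notMem_smul_eq_zero_of_mul_eq_zero {k : Type u} [Field k] [IsAlgClosed k]
    {A : Type u} [CommRing A] [Algebra k A] [IsDomain A]
    {R : Type u} [CommRing R] [Algebra k R] (q : Ideal R) [hq : q.IsMaximal]
    (f h : R ⊗[k] A) (hhf : h * f = 0)
    (hh : Algebra.TensorProduct.map (Ideal.Quotient.mkₐ k q) (AlgHom.id k A) h ≠ 0) :
    ∃ d : R, d ∉ q ∧ d • f = 0 := by
  classical
  letI : Field (R ⧸ q) := Ideal.Quotient.field q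
  haveI : IsDomain ((R ⧸ q) ⊗[k] A) := Groth.Agent.Lib.Helper50.isDomain_tensorProduct_of_isAlgClosed
  set π : R ⊗[k] A →ₐ[k] (R ⧸ q) ⊗[k] A :=
    Algebra.TensorProduct.map (Ideal.Quotient.mkₐ k q) (AlgHom.id k A) with hπ
  let b := Module.Free.chooseBasis k A
  let B : Module.Basis _ R (R ⊗[k] A) := Algebra.TensorProduct.basis R b
  let Bq : Module.Basis _ (R ⧸ q) ((R ⧸ q) ⊗[k] A) := Algebra.TensorProduct.basis (R ⧸ q) b
  have hπB : ∀ i, π (B i) = Bq i := by
    intro i
    simp only [B, Bq, Algebra.TensorProduct.basis_apply, hπ, Algebra.TensorProduct.map_tmul,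
      map_one, AlgHom.id_apply]
  have hπsmul : ∀ (r : R) (t : R ⊗[k] A), π (r • t) = Ideal.Quotient.mk q r • π t := by
    intro r t
    induction t using TensorProduct.induction_on with
    | zero => rw [smul_zero, map_zero, smul_zero]
    | tmul x a =>
      rw [TensorProduct.smul_tmul', hπ, Algebra.TensorProduct.map_tmul,
        Algebra.TensorProduct.map_tmul, TensorProduct.smul_tmul', smul_eq_mul, smul_eq_mul, map_mul]
      rfl
    | add x y hx hy => rw [smul_add, map_add, hx, hy, map_add, smul_add]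
  -- the finite support of `f`
  let F : Finset _ := (B.repr f).support
  let fc : F → R := fun j => B.repr f j
  have hfsum : ∑ j : F, fc j • B j = f := by
    have h1 : Finsupp.linearCombination R B (B.repr f) = f := B.linearCombination_repr f
    rw [Finsupp.linearCombination_apply, Finsupp.sum] at h1
    rw [← h1]
    exact Finset.sum_coe_sort F (fun j => B.repr f j • B j)
  -- the maps Φ and Φ̄
  let Φ : (F → R) →ₗ[R] R ⊗[k] A :=
    (LinearMap.mulLeft R h) ∘ₗ (Fintype.linearCombination R (fun j : F => B j))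
  let Φq : (F → R ⧸ q) →ₗ[R ⧸ q] (R ⧸ q) ⊗[k] A :=
    (LinearMap.mulLeft (R ⧸ q) (π h)) ∘ₗ (Fintype.linearCombination (R ⧸ q) (fun j : F => Bq j))
  have hΦfc : Φ fc = 0 := by
    show h * (Fintype.linearCombination R (fun j : F => B j) fc) = 0
    rw [Fintype.linearCombination_apply, hfsum, hhf]
  have hΦq_inj : Function.Injective Φq := by
    have h1 : Function.Injective (Fintype.linearCombination (R ⧸ q) (fun j : F => Bq j)) :=
      (Bq.linearIndependent.comp _ Subtype.val_injective).fintypeLinearCombination_injective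
    have h2 : Function.Injective (LinearMap.mulLeft (R ⧸ q) (π h)) := mul_right_injective₀ hh
    exact h2.comp h1
  have hπΦ : ∀ v : F → R, π (Φ v) = Φq (fun j => Ideal.Quotient.mk q (v j)) := by
    intro v
    show π (h * (Fintype.linearCombination R (fun j : F => B j) v)) =
      π h * (Fintype.linearCombination (R ⧸ q) (fun j : F => Bq j)
        (fun j => Ideal.Quotient.mk q (v j)))
    rw [map_mul, Fintype.linearCombination_apply, Fintype.linearCombination_apply, map_sum]
    congr 1
    refine Finset.sum_congr rfl (fun j _ => ?_)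
    rw [hπsmul, hπB]
  obtain ⟨Ψq, hΨq⟩ := LinearMap.exists_leftInverse_of_injective Φq
    (LinearMap.ker_eq_bot.mpr hΦq_inj)
  -- lift Ψ̄ to Ψ
  have hlift : ∀ w : F → R ⧸ q, ∃ v : F → R, (fun j => Ideal.Quotient.mk q (v j)) = w := by
    intro w
    choose v hv using fun j => Ideal.Quotient.mk_surjective (w j)
    exact ⟨v, funext hv⟩
  choose lift hliftspec using hlift
  let Ψ : R ⊗[k] A →ₗ[R] (F → R) := B.constr R (fun l => lift (Ψq (Bq l)))
  have hΨ : ∀ t : R ⊗[k] A, (fun j => Ideal.Quotient.mk q (Ψ t j)) = Ψq (π t) := by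
    intro t
    let L1 : R ⊗[k] A →ₗ[R] (F → R ⧸ q) :=
      ((Ideal.Quotient.mkₐ R q).toLinearMap.compLeft F) ∘ₗ Ψ
    let L2 : R ⊗[k] A →ₗ[R] (F → R ⧸ q) :=
      { toFun := fun t => Ψq (π t)
        map_add' := fun x y => by rw [map_add, map_add]
        map_smul' := fun r x => by
          rw [hπsmul, map_smul, RingHom.id_apply]
          funext j
          rw [Pi.smul_apply, Pi.smul_apply, smul_eq_mul, Algebra.smul_def r,
            Ideal.Quotient.algebraMap_eq] }
    have hL : L1 = L2 := by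
      apply B.ext
      intro l
      show (fun j => Ideal.Quotient.mk q (Ψ (B l) j)) = Ψq (π (B l))
      rw [hπB]
      have : Ψ (B l) = lift (Ψq (Bq l)) := B.constr_basis R _ l
      rw [this, hliftspec]
    exact DFunLike.congr_fun hL t
  -- the endomorphism E and its matrix
  let E : (F → R) →ₗ[R] (F → R) := Ψ ∘ₗ Φ
  have hE : ∀ v : F → R, (fun j => Ideal.Quotient.mk q (E v j)) =
      fun j => Ideal.Quotient.mk q (v j) := by
    intro v
    show (fun j => Ideal.Quotient.mk q (Ψ (Φ v) j)) = _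
    rw [hΨ, hπΦ]
    exact DFunLike.congr_fun hΨq _
  let M : Matrix F F R := LinearMap.toMatrix' E
  have hMfc : M.mulVec fc = 0 := by
    rw [LinearMap.toMatrix'_mulVec]
    show Ψ (Φ fc) = 0
    rw [hΦfc, map_zero]
  have hMmap : M.map (Ideal.Quotient.mk q) = 1 := by
    ext i j
    show Ideal.Quotient.mk q (LinearMap.toMatrix' E i j) = (1 : Matrix F F (R ⧸ q)) i j
    rw [LinearMap.toMatrix'_apply]
    have h3 : Ideal.Quotient.mk q (E (Pi.single j 1) i) =
        Ideal.Quotient.mk q ((Pi.single j (1 : R) : F → R) i) :=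
      congrFun (hE (Pi.single j 1)) i
    rw [h3, Matrix.one_apply, Pi.single_apply]
    split_ifs with hij
    · exact map_one _
    · exact map_zero _
  refine ⟨M.det, ?_, ?_⟩
  · intro hmem
    have h1 : Ideal.Quotient.mk q M.det = 1 := by
      rw [RingHom.map_det, RingHom.mapMatrix_apply, hMmap, Matrix.det_one]
    rw [Ideal.Quotient.eq_zero_iff_mem.mpr hmem] at h1
    exact zero_ne_one h1
  · have h1 : M.det • fc = 0 := by
      have h2 : (M.adjugate * M).mulVec fc = 0 := by
        rw [← Matrix.mulVec_mulVec, hMfc, Matrix.mulVec_zero]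
      rw [Matrix.adjugate_mul, Matrix.smul_mulVec, Matrix.one_mulVec] at h2
      exact h2
    rw [← hfsum, Finset.smul_sum]
    refine Finset.sum_eq_zero (fun j _ => ?_)
    rw [smul_smul]
    have := congrFun h1 j
    simp only [Pi.smul_apply, smul_eq_mul, Pi.zero_apply] at this
    rw [this, zero_smul]


/-- A function on `Spec (R ⊗ A)` vanishing on an open subset meeting every fibre over `Spec R`
is zero (`k` algebraically closed, `A` a domain). -/
theorem eq_zero_of_forall_away_eq_zero
    (k : Type u) [Field k] [IsAlgClosed k]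
    (A : Type u) [CommRing A] [Algebra k A] [IsDomain A]
    (R : Type u) [CommRing R] [Algebra k R]
    (U : TopologicalSpace.Opens (PrimeSpectrum (R ⊗[k] A)))
    (hsurj : ∀ q : PrimeSpectrum R, ∃ P ∈ U,
      PrimeSpectrum.comap (Algebra.TensorProduct.includeLeftRingHom : R →+* R ⊗[k] A) P = q)
    (f : R ⊗[k] A)
    (hf : ∀ g : R ⊗[k] A, (PrimeSpectrum.basicOpen g : Set (PrimeSpectrum (R ⊗[k] A))) ⊆ U →
      algebraMap (R ⊗[k] A) (Localization.Away g) f = 0) :
    f = 0 := by
  by_contra hf0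
  let 𝔞 : Ideal R := LinearMap.ker (LinearMap.toSpanSingleton R (R ⊗[k] A) f)
  have hmem : ∀ r : R, r ∈ 𝔞 ↔ r • f = 0 := by
    intro r
    show LinearMap.toSpanSingleton R (R ⊗[k] A) f r = 0 ↔ _
    rw [LinearMap.toSpanSingleton_apply]
  have hne : 𝔞 ≠ ⊤ := by
    rw [Ideal.ne_top_iff_one, hmem, one_smul]
    exact hf0
  obtain ⟨q, hqmax, hle⟩ := Ideal.exists_le_maximal 𝔞 hne
  obtain ⟨P, hPU, hPq⟩ := hsurj ⟨q, hqmax.isPrime⟩
  obtain ⟨_, ⟨g, rfl⟩, hPg, hsub⟩ :=
    PrimeSpectrum.isTopologicalBasis_basic_opens.exists_subset_of_mem_open hPU U.isOpen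
  have h0 := hf g hsub
  rw [IsLocalization.map_eq_zero_iff (Submonoid.powers g)] at h0
  obtain ⟨⟨_, n, rfl⟩, hn⟩ := h0
  have hgP : g ∉ P.asIdeal := hPg
  have hgnP : g ^ n ∉ P.asIdeal := fun hmem' => hgP (P.isPrime.mem_of_pow_mem n hmem')
  have hqP : q = P.asIdeal.comap
      (Algebra.TensorProduct.includeLeftRingHom : R →+* R ⊗[k] A) := by
    have := congrArg PrimeSpectrum.asIdeal hPq
    exact this.symm
  have hπ : Algebra.TensorProduct.map (Ideal.Quotient.mkₐ k q) (AlgHom.id k A) (g ^ n) ≠ 0 := by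
    intro hzero
    apply hgnP
    have hker := Algebra.TensorProduct.rTensor_ker (R := k) (S := k) (C := A)
      (Ideal.Quotient.mkₐ k q) (Ideal.Quotient.mkₐ_surjective k q)
    have hmem' : g ^ n ∈ RingHom.ker
        (Algebra.TensorProduct.map (Ideal.Quotient.mkₐ k q) (AlgHom.id k A)) := hzero
    rw [hker] at hmem'
    have hkq : RingHom.ker (Ideal.Quotient.mkₐ k q) = q := by
      ext x
      rw [RingHom.mem_ker]
      exact Ideal.Quotient.eq_zero_iff_mem
    rw [hkq] at hmem'
    have hle' : Ideal.map (Algebra.TensorProduct.includeLeft : R →ₐ[k] R ⊗[k] A) q ≤ P.asIdeal := by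
      rw [Ideal.map_le_iff_le_comap, hqP]
      exact le_rfl
    exact hle' hmem'
  obtain ⟨d, hd, hdf⟩ := exists_notMem_smul_eq_zero_of_mul_eq_zero q f (g ^ n) hn hπ
  exact hd (hle ((hmem d).mpr hdf))

end Groth.Agent.Lib.Helper9
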