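import Mathlib
import Groth.Agent.Lib.Helper9.AbhyankarCore

/-!
# Local rings cut out by Galois-stable valuations are henselian (helper9)

`henselian_of_galois_stable`: an abstract criterion.  Let `S` be a local ring embedded in a
separably closed field `Ks`, dominated by a valuation subring `V` of `Ks`, and let `G` be a set of
endomorphisms of `Ks` fixing `S`, preserving (on `S`-integral elements) the maximal ideal of `V`, and
such that `S`-integral `G`-invariant elements of `Ks` lie in `S`.  Then `S` is henselian.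
-/

universe u

open Polynomial IsLocalRing

namespace Groth.Agent.Lib.Helper9.FixedHenselian

/-- A root of `g` congruent modulo `I` to a root `a` with `g'(a) ∉ I` is equal to `a`. -/
theorem root_unique {D : Type*} [CommRing D] [IsDomain D] (I : Ideal D) (g : D[X]) {a a' : D}
    (ha : g.eval a = 0) (ha' : g.eval a' = 0) (hI : a' - a ∈ I)
    (hd : g.derivative.eval a ∉ I) : a' = a := by
  by_contra hne
  obtain ⟨q, hq⟩ := dvd_iff_isRoot.mpr ha
  have h1 : g.derivative.eval a = q.eval a := by
    rw [hq, derivative_mul]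
    simp
  have h2 : q.eval a' = 0 := by
    have h := ha'
    rw [hq, eval_mul] at h
    simp only [eval_sub, eval_X, eval_C, mul_eq_zero] at h
    rcases h with h | h
    · exact absurd (sub_eq_zero.mp h) hne
    · exact h
  apply hd
  rw [h1]
  have h3 : a' - a ∣ q.eval a' - q.eval a := sub_dvd_eval_sub a' a q
  rw [h2, zero_sub] at h3
  obtain ⟨c, hc⟩ := h3
  have h4 : q.eval a = -((a' - a) * c) := by rw [← hc]; ring
  rw [h4]
  exact I.neg_mem (I.mul_mem_right _ hI)

/-- If a product of elements of valuation `≤ 1` has valuation `< 1`, some factor has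
valuation `< 1`. -/
theorem exists_lt_one_of_prod_lt_one {F : Type*} [Field F] (W : ValuationSubring F)
    (m : Multiset F) (hm : ∀ x ∈ m, x ∈ W) (hprod : W.valuation m.prod < 1) :
    ∃ x ∈ m, W.valuation x < 1 := by
  by_contra hcon
  push_neg at hcon
  have h1 : ∀ y ∈ m.map W.valuation, y = 1 := by
    intro y hy
    obtain ⟨x, hx, rfl⟩ := Multiset.mem_map.mp hy
    exact le_antisymm ((W.valuation_le_one_iff x).mpr (hm x hx)) (hcon x hx)
  have h2 : W.valuation m.prod = 1 := by
    rw [map_multiset_prod]
    exact Multiset.prod_eq_one h1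
  rw [h2] at hprod
  exact lt_irrefl _ hprod

set_option maxHeartbeats 1000000 in
theorem henselian_of_galois_stable {S Ks : Type u} [CommRing S] [IsLocalRing S] [Field Ks]
    [IsSepClosed Ks] [Algebra S Ks] (hinj : Function.Injective (algebraMap S Ks))
    (V : ValuationSubring Ks) (hV : ∀ s : S, algebraMap S Ks s ∈ V)
    (hVm : ∀ s : S, s ∈ maximalIdeal S ↔ V.valuation (algebraMap S Ks s) < 1)
    (G : Set (Ks →+* Ks))
    (hfix : ∀ σ ∈ G, ∀ s : S, σ (algebraMap S Ks s) = algebraMap S Ks s)
    (hstab : ∀ σ ∈ G, ∀ z : Ks, IsIntegral S z → V.valuation z < 1 → V.valuation (σ z) < 1)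
    (hdesc : ∀ b : Ks, IsIntegral S b → (∀ σ ∈ G, σ b = b) →
      b ∈ Set.range (algebraMap S Ks)) :
    HenselianLocalRing S := by
  refine { is_henselian := ?_ }
  intro f hf a₀ h₁ h₂
  obtain ⟨W, hW⟩ := AbhyankarCore.exists_extension V (algebraMap Ks (AlgebraicClosure Ks))
  have hWmem : ∀ z : Ks, algebraMap Ks (AlgebraicClosure Ks) z ∈ W ↔ z ∈ V := by
    intro z
    rw [← hW]
    rfl
  have hWlt : ∀ z : Ks, W.valuation (algebraMap Ks (AlgebraicClosure Ks) z) < 1 ↔
      V.valuation z < 1 := by
    intro z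
    rw [← hW]
    exact (AbhyankarCore.valuation_comap_lt_one_iff W _ z).symm
  have hφW : ∀ s : S, algebraMap S (AlgebraicClosure Ks) s ∈ W := by
    intro s
    rw [IsScalarTower.algebraMap_apply S Ks (AlgebraicClosure Ks)]
    exact (hWmem _).mpr (hV s)
  -- roots
  have hfΩ : (f.map (algebraMap S (AlgebraicClosure Ks))).Monic := hf.map _
  have hroots : ∀ a ∈ (f.map (algebraMap S (AlgebraicClosure Ks))).roots, a ∈ W := by
    intro a ha
    have h0 : (f.map (algebraMap S (AlgebraicClosure Ks))).eval a = 0 :=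
      ((mem_roots hfΩ.ne_zero).mp ha)
    apply DVRExt.mem_of_isIntegral W hφW (x := a)
    refine ⟨f, hf, ?_⟩
    rw [← eval_map]
    exact h0
  have hx₀W : algebraMap S (AlgebraicClosure Ks) a₀ ∈ W := hφW a₀
  have hprod := (IsAlgClosed.splits (f.map (algebraMap S (AlgebraicClosure Ks)))).eval_eq_prod_roots_of_monic
    hfΩ (algebraMap S (AlgebraicClosure Ks) a₀)
  have hval0 : W.valuation ((f.map (algebraMap S (AlgebraicClosure Ks))).eval
      (algebraMap S (AlgebraicClosure Ks) a₀)) < 1 := by
    rw [eval_map, eval₂_at_apply, IsScalarTower.algebraMap_apply S Ks (AlgebraicClosure Ks), hWlt]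
    exact (hVm _).mp h₁
  rw [hprod] at hval0
  obtain ⟨d, hd, hdlt⟩ := exists_lt_one_of_prod_lt_one W _ (by
    intro x hx
    obtain ⟨a, ha, rfl⟩ := Multiset.mem_map.mp hx
    exact W.sub_mem hx₀W (hroots a ha)) hval0
  obtain ⟨a, ha, rfl⟩ := Multiset.mem_map.mp hd
  have haroot : (f.map (algebraMap S (AlgebraicClosure Ks))).eval a = 0 :=
    ((mem_roots hfΩ.ne_zero).mp ha)
  have haW : a ∈ W := hroots a ha
  -- work in W
  let φW : S →+* W := (algebraMap S (AlgebraicClosure Ks)).codRestrict W hφW
  have hφWsub : W.subtype.comp φW = algebraMap S (AlgebraicClosure Ks) := by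
    ext s; rfl
  have hmapW : (f.map φW).map W.subtype = f.map (algebraMap S (AlgebraicClosure Ks)) := by
    rw [Polynomial.map_map, hφWsub]
  have hinjW : Function.Injective W.subtype := Subtype.val_injective
  have hevalW' : ∀ (p : S[X]) (w : W), (((p.map φW).eval w : W) : AlgebraicClosure Ks) =
      (p.map (algebraMap S (AlgebraicClosure Ks))).eval (w : AlgebraicClosure Ks) := by
    intro p w
    rw [← hφWsub, ← Polynomial.map_map, eval_map (f := W.subtype)]
    exact (eval₂_hom (p := p.map φW) W.subtype w).symm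
  have hevalW : ∀ w : W, (((f.map φW).eval w : W) : AlgebraicClosure Ks) =
      (f.map (algebraMap S (AlgebraicClosure Ks))).eval (w : AlgebraicClosure Ks) := hevalW' f
  have hmemmax : ∀ w : W, w ∈ maximalIdeal W ↔ W.valuation (w : AlgebraicClosure Ks) < 1 :=
    fun w => W.valuation_lt_one_iff w
  -- derivative at `a` is a unit of `W`
  have hder_a₀ : (f.map φW).derivative.eval (φW a₀) ∉ maximalIdeal W := by
    rw [derivative_map, eval_map, eval₂_at_apply]
    intro hmem
    have hunit : IsUnit (φW (f.derivative.eval a₀)) := h₂.map φW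
    exact (mem_maximalIdeal _).mp hmem hunit
  have hsub_mem : (⟨a, haW⟩ : W) - φW a₀ ∈ maximalIdeal W := by
    rw [hmemmax]
    have : ((⟨a, haW⟩ - φW a₀ : W) : AlgebraicClosure Ks) =
        -(algebraMap S (AlgebraicClosure Ks) a₀ - a) := by
      simp [φW]
    rw [this, Valuation.map_neg]
    exact hdlt
  have hder_a : (f.map φW).derivative.eval (⟨a, haW⟩ : W) ∉ maximalIdeal W := by
    intro hmem
    apply hder_a₀
    have hdvd := sub_dvd_eval_sub (⟨a, haW⟩ : W) (φW a₀) (f.map φW).derivative
    obtain ⟨c, hc⟩ := hdvd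
    have : (f.map φW).derivative.eval (φW a₀) =
        (f.map φW).derivative.eval (⟨a, haW⟩ : W) - ((⟨a, haW⟩ : W) - φW a₀) * c := by
      rw [← hc]; ring
    rw [this]
    exact (maximalIdeal W).sub_mem hmem ((maximalIdeal W).mul_mem_right _ hsub_mem)
  have hrootW : (f.map φW).eval (⟨a, haW⟩ : W) = 0 := by
    apply hinjW
    rw [W.subtype_apply, hevalW]
    simpa using haroot
  -- `a` comes from `Ks`
  have hderΩ : (f.map (algebraMap S (AlgebraicClosure Ks))).derivative.eval a ≠ 0 := by
    intro h0
    apply hder_a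
    have : (f.map φW).derivative.eval (⟨a, haW⟩ : W) = 0 := by
      apply hinjW
      rw [W.subtype_apply, map_zero, derivative_map, hevalW' f.derivative ⟨a, haW⟩,
        ← derivative_map]
      exact h0
    rw [this]
    exact zero_mem _
  have haint : IsIntegral Ks a := Algebra.IsIntegral.isIntegral a
  have hfKs0 : aeval a (f.map (algebraMap S Ks)) = 0 := by
    rw [aeval_def, eval₂_map, ← IsScalarTower.algebraMap_eq, ← eval_map]
    exact haroot
  obtain ⟨g, hg⟩ := minpoly.dvd Ks a hfKs0
  have hminsep : (minpoly Ks a).Separable := by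
    rw [separable_iff_derivative_ne_zero (minpoly.irreducible haint)]
    intro h0
    apply hderΩ
    have h5 : f.map (algebraMap S (AlgebraicClosure Ks)) =
        (f.map (algebraMap S Ks)).map (algebraMap Ks (AlgebraicClosure Ks)) := by
      rw [Polynomial.map_map, ← IsScalarTower.algebraMap_eq]
    rw [h5, hg, derivative_map, derivative_mul, h0, zero_mul, zero_add, Polynomial.map_mul,
      eval_mul, eval_map, ← aeval_def, minpoly.aeval, zero_mul]
  have hdeg : (minpoly Ks a).degree = 1 :=
    IsSepClosed.degree_eq_one_of_irreducible Ks (minpoly.irreducible haint) hminsep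
  obtain ⟨b, hb⟩ := minpoly.mem_range_of_degree_eq_one Ks a hdeg
  -- `b` is a root of `f` in `Ks`
  have hjinj : Function.Injective (algebraMap Ks (AlgebraicClosure Ks)) :=
    (algebraMap Ks (AlgebraicClosure Ks)).injective
  have hevalKs : ∀ y : Ks, algebraMap Ks (AlgebraicClosure Ks) ((f.map (algebraMap S Ks)).eval y) =
      (f.map (algebraMap S (AlgebraicClosure Ks))).eval (algebraMap Ks (AlgebraicClosure Ks) y) := by
    intro y
    rw [eval_map, eval_map, hom_eval₂, ← IsScalarTower.algebraMap_eq]
  have hbroot : (f.map (algebraMap S Ks)).eval b = 0 := by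
    apply hjinj
    rw [hevalKs, hb, map_zero]
    exact haroot
  have hbint : IsIntegral S b := ⟨f, hf, by rw [← eval_map]; exact hbroot⟩
  have hbnear : V.valuation (b - algebraMap S Ks a₀) < 1 := by
    rw [← hWlt, map_sub, hb, ← IsScalarTower.algebraMap_apply, ← Valuation.map_neg, neg_sub]
    exact hdlt
  -- Galois invariance
  have hGb : ∀ σ ∈ G, σ b = b := by
    intro σ hσ
    have hσroot : (f.map (algebraMap S Ks)).eval (σ b) = 0 := by
      have h6 : σ.comp (algebraMap S Ks) = algebraMap S Ks := RingHom.ext (hfix σ hσ)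
      have h7 : σ ((f.map (algebraMap S Ks)).eval b) = (f.map (algebraMap S Ks)).eval (σ b) := by
        rw [eval_map, eval_map, hom_eval₂, h6]
      rw [← h7, hbroot, map_zero]
    have hσnear : V.valuation (σ b - algebraMap S Ks a₀) < 1 := by
      have h8 := hstab σ hσ (b - algebraMap S Ks a₀) (hbint.sub isIntegral_algebraMap) hbnear
      rwa [map_sub, hfix σ hσ] at h8
    have hσW : algebraMap Ks (AlgebraicClosure Ks) (σ b) ∈ W := by
      have h9 : σ b = (σ b - algebraMap S Ks a₀) + algebraMap S Ks a₀ := by ring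
      rw [hWmem, h9]
      exact V.add_mem _ _ ((V.valuation_le_one_iff _).mp hσnear.le) (hV a₀)
    have hσrootW : (f.map φW).eval (⟨_, hσW⟩ : W) = 0 := by
      apply hinjW
      rw [W.subtype_apply, hevalW, map_zero]
      show (f.map (algebraMap S (AlgebraicClosure Ks))).eval
        (algebraMap Ks (AlgebraicClosure Ks) (σ b)) = 0
      rw [← hevalKs, hσroot, map_zero]
    have hclose : (⟨_, hσW⟩ : W) - (⟨a, haW⟩ : W) ∈ maximalIdeal W := by
      rw [hmemmax]
      have h10 : (((⟨_, hσW⟩ : W) - (⟨a, haW⟩ : W) : W) : AlgebraicClosure Ks) =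
          algebraMap Ks (AlgebraicClosure Ks) ((σ b - algebraMap S Ks a₀) -
            (b - algebraMap S Ks a₀)) := by
        simp [hb]
      rw [h10, hWlt]
      exact lt_of_le_of_lt (Valuation.map_sub _ _ _) (max_lt hσnear hbnear)
    have heq := root_unique (maximalIdeal W) (f.map φW) hrootW hσrootW hclose hder_a
    have h11 := congrArg (fun w : W => (w : AlgebraicClosure Ks)) heq
    simp only at h11
    apply hjinj
    rw [h11, hb]
  obtain ⟨s, hs⟩ := hdesc b hbint hGb
  refine ⟨s, ?_, ?_⟩
  · show f.eval s = 0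
    apply hinj
    rw [map_zero, ← eval₂_at_apply, ← eval_map, hs]
    exact hbroot
  · rw [hVm, map_sub, hs]
    exact hbnear


section Instance

variable (R K Ks : Type u) [CommRing R] [Field K] [Algebra R K]
  [Field Ks] [Algebra K Ks] [IsSepClosure K Ks] [Algebra R Ks] [IsScalarTower R K Ks]

set_option maxHeartbeats 1000000 in
theorem henselian_fixed
    (Ps : Ideal (integralClosure R Ks)) [hPs : Ps.IsMaximal]
    (G : Set (Ks ≃ₐ[K] Ks))
    (hG : ∀ σ ∈ G, ∀ x : integralClosure R Ks, x ∈ Ps →
        ∃ h : σ (x : Ks) ∈ integralClosure R Ks, (⟨σ (x : Ks), h⟩ : integralClosure R Ks) ∈ Ps)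
    (L : IntermediateField K Ks)
    (hL : L = IntermediateField.fixedField (Subgroup.closure G))
    (Q : Ideal (integralClosure R L)) [hQp : Q.IsPrime]
    (hQ : ∀ y : integralClosure R L, y ∈ Q ↔
      ∃ x : integralClosure R Ks, x ∈ Ps ∧ (x : Ks) = ((y : L) : Ks)) :
    HenselianLocalRing (Localization.AtPrime Q) := by
  classical
  haveI : IsSepClosed Ks := IsSepClosure.sep_closed K
  haveI hRLKs : IsScalarTower R L Ks := IsScalarTower.of_algebraMap_eq (fun r => rfl)
  -- the map `B → Ks`
  let ιB : integralClosure R L →+* Ks := (algebraMap L Ks).comp (algebraMap (integralClosure R L) L)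
  have hιBinj : Function.Injective ιB :=
    (algebraMap L Ks).injective.comp Subtype.val_injective
  have hunits : ∀ y : Q.primeCompl, IsUnit (ιB y) := by
    intro y
    apply IsUnit.mk0
    intro h0
    have : (y : integralClosure R L) = 0 := hιBinj (by rw [h0, map_zero])
    exact y.2 (this ▸ Q.zero_mem)
  letI algSKs : Algebra (Localization.AtPrime Q) Ks :=
    (IsLocalization.lift (M := Q.primeCompl) (g := ιB) hunits).toAlgebra
  haveI towBSKs : IsScalarTower (integralClosure R L) (Localization.AtPrime Q) Ks :=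
    IsScalarTower.of_algebraMap_eq (fun y => (IsLocalization.lift_eq hunits y).symm)
  haveI towRBKs : IsScalarTower R (integralClosure R L) Ks :=
    IsScalarTower.of_algebraMap_eq (fun r => rfl)
  have halgB : ∀ y : integralClosure R L,
      algebraMap (Localization.AtPrime Q) Ks (algebraMap _ _ y) = ιB y :=
    fun y => IsLocalization.lift_eq hunits y
  -- the valuation subring dominating `(Rs)_{Ps}`
  have hunits₀ : ∀ y : Ps.primeCompl, IsUnit (algebraMap (integralClosure R Ks) Ks y) := by
    intro y
    apply IsUnit.mk0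
    intro h0
    have : (y : integralClosure R Ks) = 0 :=
      Subtype.val_injective (show ((y : integralClosure R Ks) : Ks) = ((0 : integralClosure R Ks) : Ks) from h0)
    exact y.2 (this ▸ Ps.zero_mem)
  obtain ⟨V, hVr, hloc⟩ := IsLocalRing.exists_factor_valuationRing
    (IsLocalization.lift (M := Ps.primeCompl) (S := Localization.AtPrime Ps)
      (g := algebraMap (integralClosure R Ks) Ks) hunits₀)
  have hg₀ : ∀ x : integralClosure R Ks,
      (IsLocalization.lift (M := Ps.primeCompl) (S := Localization.AtPrime Ps)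
        (g := algebraMap (integralClosure R Ks) Ks) hunits₀) (algebraMap _ _ x) = (x : Ks) :=
    fun x => IsLocalization.lift_eq hunits₀ x
  have hV1 : ∀ x : integralClosure R Ks, (x : Ks) ∈ V := by
    intro x
    rw [← hg₀ x]
    exact hVr _
  have hV2 : ∀ x : integralClosure R Ks, x ∈ Ps → V.valuation (x : Ks) < 1 := by
    intro x hx
    have hmem : algebraMap (integralClosure R Ks) (Localization.AtPrime Ps) x ∈
        maximalIdeal (Localization.AtPrime Ps) :=
      (IsLocalization.AtPrime.to_map_mem_maximal_iff (Localization.AtPrime Ps) Ps x).mpr hx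
    have hnu : ¬ IsUnit (algebraMap (integralClosure R Ks) (Localization.AtPrime Ps) x) :=
      (mem_maximalIdeal _).mp hmem
    have h2 : (⟨(x : Ks), hV1 x⟩ : V) ∈ maximalIdeal V := by
      rw [mem_maximalIdeal, mem_nonunits_iff]
      intro hu
      apply hnu
      apply hloc.map_nonunit
      have heq : (IsLocalization.lift (M := Ps.primeCompl) (S := Localization.AtPrime Ps)
          (g := algebraMap (integralClosure R Ks) Ks) hunits₀).codRestrict V.toSubring hVr
          (algebraMap _ _ x) = (⟨(x : Ks), hV1 x⟩ : V) := Subtype.ext (hg₀ x)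
      rw [heq]
      exact hu
    exact (V.valuation_lt_one_iff ⟨(x : Ks), hV1 x⟩).mp h2
  have hV3 : ∀ x : integralClosure R Ks, x ∉ Ps → V.valuation (x : Ks) = 1 := by
    intro x hx
    have hu : IsUnit (algebraMap (integralClosure R Ks) (Localization.AtPrime Ps) x) :=
      IsLocalization.map_units (Localization.AtPrime Ps) (⟨x, hx⟩ : Ps.primeCompl)
    have hu2 := hu.map ((IsLocalization.lift (M := Ps.primeCompl) (S := Localization.AtPrime Ps)
      (g := algebraMap (integralClosure R Ks) Ks) hunits₀).codRestrict V.toSubring hVr)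
    have heq : (IsLocalization.lift (M := Ps.primeCompl) (S := Localization.AtPrime Ps)
        (g := algebraMap (integralClosure R Ks) Ks) hunits₀).codRestrict V.toSubring hVr
        (algebraMap _ _ x) = (⟨(x : Ks), hV1 x⟩ : V) := Subtype.ext (hg₀ x)
    have hu3 : IsUnit (⟨(x : Ks), hV1 x⟩ : V) := by
      rw [← heq]
      exact hu2
    exact (V.valuation_eq_one_iff ⟨(x : Ks), hV1 x⟩).mp hu3
  -- elements of `B` as elements of `Rs`
  have hBint : ∀ y : integralClosure R L, IsIntegral R (ιB y) := by
    intro y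
    have h1 : IsIntegral R (y : L) := y.2
    exact h1.map (IsScalarTower.toAlgHom R L Ks)
  have hQ' : ∀ y : integralClosure R L, y ∈ Q ↔
      (⟨ιB y, hBint y⟩ : integralClosure R Ks) ∈ Ps := by
    intro y
    rw [hQ]
    constructor
    · rintro ⟨x, hx, hxy⟩
      have : x = (⟨ιB y, hBint y⟩ : integralClosure R Ks) := Subtype.ext hxy
      rwa [← this]
    · intro h
      exact ⟨⟨ιB y, hBint y⟩, h, rfl⟩
  have hvalB_lt : ∀ y : integralClosure R L, y ∈ Q → V.valuation (ιB y) < 1 :=
    fun y hy => hV2 ⟨ιB y, hBint y⟩ ((hQ' y).mp hy)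
  have hvalB_one : ∀ y : integralClosure R L, y ∉ Q → V.valuation (ιB y) = 1 :=
    fun y hy => hV3 ⟨ιB y, hBint y⟩ (fun h => hy ((hQ' y).mpr h))
  have hvalB_le : ∀ y : integralClosure R L, V.valuation (ιB y) ≤ 1 :=
    fun y => (V.valuation_le_one_iff _).mpr (hV1 ⟨ιB y, hBint y⟩)
  have hrep : ∀ s : Localization.AtPrime Q, ∃ (c : integralClosure R L) (t : Q.primeCompl),
      algebraMap (Localization.AtPrime Q) Ks s * ιB t = ιB c ∧
        (s ∈ maximalIdeal (Localization.AtPrime Q) ↔ c ∈ Q) := by
    intro s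
    obtain ⟨⟨c, t⟩, rfl⟩ := IsLocalization.mk'_surjective Q.primeCompl s
    dsimp only
    refine ⟨c, t, ?_, IsLocalization.AtPrime.mk'_mem_maximal_iff (Localization.AtPrime Q) Q c t⟩
    rw [← halgB t, ← halgB c, ← map_mul, IsLocalization.mk'_spec]
  have hvalS : ∀ (s : Localization.AtPrime Q) (c : integralClosure R L) (t : Q.primeCompl),
      algebraMap (Localization.AtPrime Q) Ks s * ιB t = ιB c →
      V.valuation (algebraMap (Localization.AtPrime Q) Ks s) = V.valuation (ιB c) := by
    intro s c t h
    rw [← h, map_mul, hvalB_one t t.2, mul_one]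
  have hLfix : ∀ σ ∈ G, ∀ l : L, σ (algebraMap L Ks l) = algebraMap L Ks l := by
    intro σ hσ l
    have h1 : (l : Ks) ∈ IntermediateField.fixedField (Subgroup.closure G) := hL ▸ l.2
    exact (IntermediateField.mem_fixedField_iff _ _).mp h1 σ (Subgroup.subset_closure hσ)
  have hBfix : ∀ σ ∈ G, ∀ y : integralClosure R L, σ (ιB y) = ιB y :=
    fun σ hσ y => hLfix σ hσ _
  apply henselian_of_galois_stable (S := Localization.AtPrime Q) (Ks := Ks) ?hinj V ?hV ?hVm
    ((fun σ : Ks ≃ₐ[K] Ks => (σ : Ks →+* Ks)) '' G) ?hfix ?hstab ?hdesc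
  case hinj =>
    rw [show (algebraMap (Localization.AtPrime Q) Ks) =
      IsLocalization.lift (M := Q.primeCompl) (g := ιB) hunits from rfl,
      IsLocalization.lift_injective_iff]
    intro x y
    constructor
    · intro h
      rw [IsLocalization.injective (Localization.AtPrime Q)
        (Ideal.primeCompl_le_nonZeroDivisors Q) h]
    · intro h
      rw [hιBinj h]
  case hV =>
    intro s
    obtain ⟨c, t, h, -⟩ := hrep s
    rw [← V.valuation_le_one_iff, hvalS s c t h]
    exact hvalB_le c
  case hVm =>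
    intro s
    obtain ⟨c, t, h, hm⟩ := hrep s
    rw [hm, hvalS s c t h]
    constructor
    · exact hvalB_lt c
    · intro hlt
      by_contra hc
      rw [hvalB_one c hc] at hlt
      exact lt_irrefl _ hlt
  case hfix =>
    rintro _ ⟨σ, hσ, rfl⟩ s
    obtain ⟨c, t, h, -⟩ := hrep s
    have h1 : σ (algebraMap (Localization.AtPrime Q) Ks s) * ιB t = ιB c := by
      rw [← hBfix σ hσ t, ← map_mul, h, hBfix σ hσ c]
    exact mul_right_cancel₀ (hunits t).ne_zero (h1.trans h.symm)
  case hstab =>
    rintro _ ⟨σ, hσ, rfl⟩ z hz hlt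
    obtain ⟨t, ht⟩ := IsIntegral.exists_multiple_integral_of_isLocalization Q.primeCompl z hz
    have h1 : t • z = ιB t * z := by
      rw [Submonoid.smul_def, Algebra.smul_def]
      rfl
    rw [h1] at ht
    have h2 : IsIntegral R (ιB t * z) := isIntegral_trans _ ht
    have hxlt : V.valuation (ιB t * z) < 1 := by
      rw [map_mul, hvalB_one t t.2, one_mul]
      exact hlt
    have hxPs : (⟨ιB t * z, h2⟩ : integralClosure R Ks) ∈ Ps := by
      by_contra h
      have := hV3 ⟨ιB t * z, h2⟩ h
      exact ne_of_lt hxlt this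
    obtain ⟨hmem, hσPs⟩ := hG σ hσ _ hxPs
    have h3 := hV2 _ hσPs
    have h4 : σ (ιB t * z) = ιB t * σ z := by
      rw [map_mul, hBfix σ hσ t]
    show V.valuation (σ z) < 1
    have h5 : V.valuation (σ (ιB t * z)) < 1 := h3
    rw [h4, map_mul, hvalB_one t t.2, one_mul] at h5
    exact h5
  case hdesc =>
    intro b hb hGb
    have hbL : b ∈ L := by
      rw [hL, IntermediateField.mem_fixedField_iff]
      intro σ hσ
      have hle : Subgroup.closure G ≤ MulAction.stabilizer (Ks ≃ₐ[K] Ks) b := by
        rw [Subgroup.closure_le]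
        intro τ hτ
        rw [SetLike.mem_coe, MulAction.mem_stabilizer_iff]
        exact hGb _ ⟨τ, hτ, rfl⟩
      exact MulAction.mem_stabilizer_iff.mp (hle hσ)
    obtain ⟨t, ht⟩ := IsIntegral.exists_multiple_integral_of_isLocalization Q.primeCompl b hb
    have h1 : t • b = ιB t * b := by
      rw [Submonoid.smul_def, Algebra.smul_def]
      rfl
    rw [h1] at ht
    have h2 : IsIntegral R (ιB t * b) := isIntegral_trans _ ht
    have h3 : IsIntegral R ((((t : integralClosure R L) : L)) * (⟨b, hbL⟩ : L)) := by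
      rw [← isIntegral_algebraMap_iff (algebraMap L Ks).injective]
      exact h2
    refine ⟨IsLocalization.mk' _ (⟨_, h3⟩ : integralClosure R L) t, ?_⟩
    have h4 : algebraMap (Localization.AtPrime Q) Ks
        (IsLocalization.mk' _ (⟨_, h3⟩ : integralClosure R L) t) * ιB t =
        ιB (⟨_, h3⟩ : integralClosure R L) := by
      rw [← halgB t, ← halgB (⟨_, h3⟩ : integralClosure R L), ← map_mul, IsLocalization.mk'_spec]
    have h5 : ιB (⟨_, h3⟩ : integralClosure R L) = b * ιB t :=
      (mul_comm (ιB t) b)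
    exact mul_right_cancel₀ (hunits t).ne_zero (h4.trans h5)

end Instance

end Groth.Agent.Lib.Helper9.FixedHenselian
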