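import Mathlib

/-! Von Neumann regularity of reduced Artinian rings, and a reducedness criterion for quotients by
ideals generated by the image of an ideal of a von Neumann regular ring (helper9). -/

set_option autoImplicit false
universe u

namespace Groth.Agent.Lib.Helper9.VNRKernel

/-- In a reduced Artinian ring every element `y` satisfies `y = y² c` for some `c`. -/
theorem exists_eq_sq_mul_of_artinian_reduced {E : Type*} [CommRing E] [IsArtinianRing E]
    [IsReduced E] (y : E) : ∃ c : E, y = y ^ 2 * c := by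
  -- the descending chain `(y^n)` stabilizes
  let f : ℕ →o (Ideal E)ᵒᵈ :=
    { toFun := fun n => OrderDual.toDual (Ideal.span {y ^ n})
      monotone' := fun m n hmn => by
        show Ideal.span {y ^ n} ≤ Ideal.span {y ^ m}
        rw [Ideal.span_singleton_le_span_singleton]
        exact pow_dvd_pow y hmn }
  obtain ⟨n, hn⟩ := IsArtinian.monotone_stabilizes f
  have h1 : Ideal.span {y ^ n} = Ideal.span {y ^ (n + 1)} := hn (n + 1) (Nat.le_succ n)
  have h2 : y ^ n ∈ Ideal.span {y ^ (n + 1)} := h1 ▸ Ideal.mem_span_singleton_self _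
  obtain ⟨c, hc⟩ := Ideal.mem_span_singleton'.mp h2
  -- `hc : c * y^(n+1) = y^n`
  refine ⟨c, ?_⟩
  have hnil : IsNilpotent (y - y ^ 2 * c) := by
    refine ⟨n + 1, ?_⟩
    have : y - y ^ 2 * c = y * (1 - y * c) := by ring
    rw [this, mul_pow]
    have h3 : y ^ n * (1 - y * c) = 0 := by
      have : y ^ n * (1 - y * c) = y ^ n - c * y ^ (n + 1) := by ring
      rw [this, hc, sub_self]
    calc y ^ (n + 1) * (1 - y * c) ^ (n + 1)
        = y * (y ^ n * (1 - y * c)) * (1 - y * c) ^ n := by ring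
      _ = 0 := by rw [h3, mul_zero, zero_mul]
  exact sub_eq_zero.mp hnil.eq_zero

/-- `W/NW` is reduced when `W` is reduced and `N` is an ideal of a von Neumann regular ring `Z`
mapping to `W`; formulated for a surjection `Φ : W → W'` with `ker Φ ≤ N W` and `Φ(N) = 0`. -/
theorem isReduced_of_vnr_kernel {Z W W' : Type*} [CommRing Z] [CommRing W] [CommRing W']
    (ι : Z →+* W) (Φ : W →+* W') (hΦ : Function.Surjective Φ)
    (hZ : ∀ z : Z, ∃ c : Z, z = z ^ 2 * c) (N₀ : Ideal Z) (hN₀ : ∀ z ∈ N₀, Φ (ι z) = 0)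
    (hker : RingHom.ker Φ ≤ N₀.map ι) [IsReduced W] : IsReduced W' := by
  -- every element of `N₀ W` is fixed by an idempotent coming from `N₀`
  have key : ∀ w ∈ N₀.map ι, ∃ e ∈ N₀, e * e = e ∧ ι e * w = w := by
    intro w hw
    rw [Ideal.map, Ideal.span] at hw
    induction hw using Submodule.span_induction with
    | mem w hw =>
      obtain ⟨z, hz, rfl⟩ := hw
      obtain ⟨c, hc⟩ := hZ z
      refine ⟨z * c, N₀.mul_mem_right c hz, ?_, ?_⟩
      · calc z * c * (z * c) = z ^ 2 * c * c := by ring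
          _ = z * c := by rw [← hc]
      · rw [← map_mul]
        congr 1
        calc z * c * z = z ^ 2 * c := by ring
          _ = z := hc.symm
    | zero => exact ⟨0, N₀.zero_mem, by ring, by simp⟩
    | add w₁ w₂ _ _ h₁ h₂ =>
      obtain ⟨e₁, he₁, hi₁, hw₁⟩ := h₁
      obtain ⟨e₂, he₂, hi₂, hw₂⟩ := h₂
      refine ⟨e₁ + e₂ - e₁ * e₂, N₀.sub_mem (N₀.add_mem he₁ he₂) (N₀.mul_mem_left _ he₂), ?_, ?_⟩
      · have : (e₁ + e₂ - e₁ * e₂) * (e₁ + e₂ - e₁ * e₂)
            = e₁ * e₁ + e₂ * e₂ + 2 * (e₁ * e₂) - 2 * (e₁ * e₁) * e₂ - 2 * e₁ * (e₂ * e₂)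
              + (e₁ * e₁) * (e₂ * e₂) := by ring
        rw [this, hi₁, hi₂]
        ring
      · have h1 : (e₁ + e₂ - e₁ * e₂) * e₁ = e₁ := by
          have : (e₁ + e₂ - e₁ * e₂) * e₁ = e₁ * e₁ + e₂ * e₁ - (e₁ * e₁) * e₂ := by ring
          rw [this, hi₁]; ring
        have h2 : (e₁ + e₂ - e₁ * e₂) * e₂ = e₂ := by
          have : (e₁ + e₂ - e₁ * e₂) * e₂ = e₁ * e₂ + e₂ * e₂ - e₁ * (e₂ * e₂) := by ring
          rw [this, hi₂]; ring
        rw [mul_add]
        nth_rewrite 1 [← hw₁]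
        nth_rewrite 1 [← hw₂]
        rw [← mul_assoc, ← mul_assoc, ← map_mul, ← map_mul, h1, h2, hw₁, hw₂]
    | smul a w _ h =>
      obtain ⟨e, he, hi, hw⟩ := h
      refine ⟨e, he, hi, ?_⟩
      rw [smul_eq_mul, mul_left_comm, hw]
  constructor
  intro x' hx'
  obtain ⟨x, rfl⟩ := hΦ x'
  obtain ⟨n, hn⟩ := hx'
  have hmem : x ^ (n + 1) ∈ RingHom.ker Φ := by
    rw [RingHom.mem_ker, map_pow, pow_succ, hn, zero_mul]
  obtain ⟨e, he, hi, hw⟩ := key _ (hker hmem)
  have hnil : IsNilpotent ((1 - ι e) * x) := by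
    refine ⟨n + 1, ?_⟩
    rw [mul_pow, ← hw, ← mul_assoc]
    have h0 : (1 - ι e) * ι e = 0 := by
      rw [sub_mul, one_mul, ← map_mul, hi, sub_self]
    have : (1 - ι e) ^ (n + 1) * ι e = 0 := by
      rw [pow_succ, mul_assoc, h0, mul_zero]
    rw [this, zero_mul]
  have hx0 : (1 - ι e) * x = 0 := hnil.eq_zero
  have hx1 : x = ι e * x := by
    have : (1 - ι e) * x = x - ι e * x := by ring
    rw [this] at hx0
    exact sub_eq_zero.mp hx0
  rw [hx1, map_mul, hN₀ e he, zero_mul]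

end Groth.Agent.Lib.Helper9.VNRKernel
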