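import Mathlib
import Groth.Agent.Lib.Helper9.VNRKernel
import Groth.Agent.Lib.Helper9.Hens.FibreRing
import Groth.Agent.Lib.Helper9.Hens.NoetherianHens

/-! Reducedness of `k ⊗[S] T` from `k ⊗[R] T` when `S` is covered by étale `R`-algebras (helper9). -/

set_option autoImplicit false
universe u

namespace Groth.Agent.Lib.Helper9.HensNagata

open TensorProduct Groth.Agent.Lib.Helper9

/-- an algebra over a field covered by étale algebras is von Neumann regular -/
theorem exists_eq_sq_mul_of_isEtaleCovered {K F : Type u} [Field K] [CommRing F] [Algebra K F]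
    (h : IsEtaleCovered K F) (z : F) : ∃ c : F, z = z ^ 2 * c := by
  obtain ⟨E, _, _, _, φ, y, rfl⟩ := h z
  haveI : Module.Finite K E := Algebra.FormallyUnramified.finite_of_free K E
  haveI : IsArtinianRing E := IsArtinianRing.of_finite K E
  haveI : IsReduced E := Algebra.FormallyUnramified.isReduced_of_field K E
  obtain ⟨c, hc⟩ := VNRKernel.exists_eq_sq_mul_of_artinian_reduced y
  refine ⟨φ c, ?_⟩
  show φ y = φ y ^ 2 * φ c
  rw [← map_pow, ← map_mul, ← hc]

variable {R S T : Type u} [CommRing R] [CommRing S] [CommRing T] [Algebra R S] [Algebra R T]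
  [Algebra S T] [IsScalarTower R S T]

theorem isReduced_tensor_of_isEtaleCoveredFin (hS : IsEtaleCoveredFin R S)
    (k : Type u) [Field k] [Algebra S k] [Algebra R k] [IsScalarTower R S k]
    [IsReduced (k ⊗[R] T)] : IsReduced (k ⊗[S] T) := by
  have hZ := exists_eq_sq_mul_of_isEtaleCovered (hS.isEtaleCovered_baseChange k)
  let ι : k ⊗[R] S →ₐ[k] k ⊗[R] T :=
    Algebra.TensorProduct.map (AlgHom.id k k) (IsScalarTower.toAlgHom R S T)
  let Φ : k ⊗[R] T →ₐ[k] k ⊗[S] T := Algebra.TensorProduct.mapOfCompatibleSMul S R k k T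
  have hΦl : ∀ x, Φ x = TensorProduct.mapOfCompatibleSMul S R S k T x := by
    intro x
    induction x using TensorProduct.induction_on with
    | zero => simp
    | tmul a t => rfl
    | add x y hx hy => rw [map_add, map_add, hx, hy]
  let μ : k ⊗[R] S →ₐ[k] k :=
    Algebra.TensorProduct.lift (AlgHom.id k k) (IsScalarTower.toAlgHom R S k)
      (fun _ _ => Commute.all _ _)
  have hΦι : ∀ z, Φ (ι z) = μ z ⊗ₜ[S] (1 : T) := by
    intro z
    induction z using TensorProduct.induction_on with
    | zero => simp
    | tmul a s =>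
      show a ⊗ₜ[S] (algebraMap S T s) = (a * algebraMap S k s) ⊗ₜ[S] (1 : T)
      rw [Algebra.algebraMap_eq_smul_one s, ← TensorProduct.smul_tmul, Algebra.smul_def, mul_comm]
    | add x y hx hy => rw [map_add, map_add, hx, hy, map_add, TensorProduct.add_tmul]
  refine VNRKernel.isReduced_of_vnr_kernel (ι : k ⊗[R] S →+* k ⊗[R] T) (Φ : k ⊗[R] T →+* k ⊗[S] T)
    (Algebra.TensorProduct.mapOfCompatibleSMul_surjective S R k k T) hZ
    (RingHom.ker (μ : k ⊗[R] S →+* k)) ?_ ?_
  · intro z hz
    have hz' : μ z = 0 := hz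
    show Φ (ι z) = 0
    rw [hΦι, hz', TensorProduct.zero_tmul]
  · have hsmul : ∀ (s : S) (w : k ⊗[R] T), s • w = ((algebraMap S k s) ⊗ₜ[R] (1 : T)) * w := by
      intro s w
      induction w using TensorProduct.induction_on with
      | zero => simp
      | tmul a t =>
        rw [Algebra.TensorProduct.tmul_mul_tmul, one_mul, TensorProduct.smul_tmul', Algebra.smul_def]
      | add x y hx hy => rw [smul_add, mul_add, hx, hy]
    have hspan : ∀ w ∈ Submodule.span S
        {x : k ⊗[R] T | ∃ (a : S) (m : k) (n : T), (a • m) ⊗ₜ[R] n - m ⊗ₜ[R] (a • n) = x},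
        w ∈ (RingHom.ker (μ : k ⊗[R] S →+* k)).map (ι : k ⊗[R] S →+* k ⊗[R] T) := by
      intro w hw
      induction hw using Submodule.span_induction with
      | mem w hw =>
        obtain ⟨s, m, n, rfl⟩ := hw
        have h1 : (s • m) ⊗ₜ[R] n - m ⊗ₜ[R] (s • n)
            = ι ((s • m) ⊗ₜ[R] (1 : S) - m ⊗ₜ[R] s) * ((1 : k) ⊗ₜ[R] n) := by
          rw [map_sub]
          show _ = ((s • m) ⊗ₜ[R] (algebraMap S T 1) - m ⊗ₜ[R] (algebraMap S T s))
            * ((1 : k) ⊗ₜ[R] n)
          rw [sub_mul, Algebra.TensorProduct.tmul_mul_tmul, Algebra.TensorProduct.tmul_mul_tmul,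
            map_one, one_mul, mul_one, mul_one, Algebra.smul_def s n]
        rw [h1]
        refine Ideal.mul_mem_right _ _ (Ideal.mem_map_of_mem _ ?_)
        show μ ((s • m) ⊗ₜ[R] (1 : S) - m ⊗ₜ[R] s) = 0
        rw [map_sub]
        show (s • m) * algebraMap S k 1 - m * algebraMap S k s = 0
        rw [map_one, mul_one, Algebra.smul_def, mul_comm, sub_self]
      | zero => exact Ideal.zero_mem _
      | add w₁ w₂ _ _ h₁ h₂ => exact Ideal.add_mem _ h₁ h₂
      | smul s w _ h =>
        rw [hsmul]
        exact Ideal.mul_mem_left _ _ h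
    intro x hx
    have hx' : Φ x = 0 := hx
    rw [hΦl] at hx'
    have hmem : x ∈ LinearMap.ker (TensorProduct.mapOfCompatibleSMul S R S k T) := hx'
    rw [TensorProduct.AlgebraTensorModule.ker_mapOfCompatibleSMul] at hmem
    exact hspan x hmem


section ResidueField

variable {R S : Type u} [CommRing R] [CommRing S] [Algebra R S]

/-- residue field extensions of an algebra covered by étale algebras are algebraic -/
theorem isIntegral_residueField_map (hS : IsEtaleCoveredFin R S) (p : Ideal R) [p.IsPrime]
    (q : Ideal S) [q.IsPrime] (hpq : p = q.comap (algebraMap R S)) :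
    letI := (Ideal.ResidueField.map p q (algebraMap R S) hpq).toAlgebra
    Algebra.IsIntegral p.ResidueField q.ResidueField := by
  letI a1 : Algebra p.ResidueField q.ResidueField :=
    (Ideal.ResidueField.map p q (algebraMap R S) hpq).toAlgebra
  haveI tower : IsScalarTower R p.ResidueField q.ResidueField := .of_algebraMap_eq (fun r => by
    show algebraMap R q.ResidueField r
      = Ideal.ResidueField.map p q (algebraMap R S) hpq (algebraMap R p.ResidueField r)
    rw [Ideal.ResidueField.map_algebraMap]
    exact IsScalarTower.algebraMap_apply R S q.ResidueField r)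
  haveI hF : Algebra.IsIntegral p.ResidueField (p.ResidueField ⊗[R] S) :=
    (hS.isEtaleCovered_baseChange p.ResidueField).isIntegral_of_field
  let g : p.ResidueField ⊗[R] S →ₐ[p.ResidueField] q.ResidueField :=
    Algebra.TensorProduct.lift (Algebra.ofId p.ResidueField q.ResidueField)
      (IsScalarTower.toAlgHom R S q.ResidueField) (fun _ _ => Commute.all _ _)
  have hs : ∀ s : S, IsIntegral p.ResidueField (algebraMap S q.ResidueField s) := by
    intro s
    have h1 := (hF.isIntegral ((1 : p.ResidueField) ⊗ₜ[R] s)).map g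
    have h2 : g ((1 : p.ResidueField) ⊗ₜ[R] s) = algebraMap S q.ResidueField s := by
      simp [g]
    rwa [h2] at h1
  constructor
  intro x
  obtain ⟨a, b, -, rfl⟩ := IsFractionRing.div_surjective (A := S ⧸ q) x
  obtain ⟨a', rfl⟩ := Ideal.Quotient.mk_surjective a
  obtain ⟨b', rfl⟩ := Ideal.Quotient.mk_surjective b
  have ha : algebraMap (S ⧸ q) q.ResidueField (Ideal.Quotient.mk q a')
      = algebraMap S q.ResidueField a' :=
    (IsScalarTower.algebraMap_apply S (S ⧸ q) q.ResidueField a').symm
  have hb : algebraMap (S ⧸ q) q.ResidueField (Ideal.Quotient.mk q b')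
      = algebraMap S q.ResidueField b' :=
    (IsScalarTower.algebraMap_apply S (S ⧸ q) q.ResidueField b').symm
  rw [ha, hb]
  have hmem : algebraMap S q.ResidueField a' / algebraMap S q.ResidueField b'
      ∈ algebraicClosure p.ResidueField q.ResidueField :=
    div_mem (mem_algebraicClosure_iff.mpr (hs a').isAlgebraic)
      (mem_algebraicClosure_iff.mpr (hs b').isAlgebraic)
  exact (mem_algebraicClosure_iff.mp hmem).isIntegral

end ResidueField

end Groth.Agent.Lib.Helper9.HensNagata
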