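import Mathlib
import Groth.Agent.Lib.Helper9.HensNagata
import Groth.Agent.Lib.Helper9.Hens.Unique
import Groth.Agent.Lib.Helper48.NagataFormalFibres
import Groth.Agent.S0567

/-! Nagata / universally Japanese property and henselization (helper9). -/

set_option autoImplicit false
universe u

namespace Groth.Agent.Lib.Helper9.HensNagata

open TensorProduct Groth.Agent.Lib.Helper9 IsLocalRing

/-- If `S` is covered by étale `R`-algebras and the formal fibres of `R` are geometrically reduced,
then for any `S`-algebra structure on the completion of `R` compatible with the `R`-algebra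
structure, the fibres of `S → R^` are geometrically reduced. -/
theorem isGeometricallyReduced_fiber_cpl {R S : Type u} [CommRing R] [IsLocalRing R] [CommRing S]
    [Algebra R S] (hS : IsEtaleCoveredFin R S) (hR : EGA4.HasGeomReducedFormalFibres R)
    [Algebra S (EGA4.Cpl R)] [IsScalarTower R S (EGA4.Cpl R)] (q : Ideal S) [q.IsPrime] :
    Algebra.IsGeometricallyReduced q.ResidueField (q.Fiber (EGA4.Cpl R)) := by
  rw [Algebra.isGeometricallyReduced_field_iff]
  obtain ⟨p, hp⟩ : ∃ p : Ideal R, p = q.comap (algebraMap R S) := ⟨_, rfl⟩
  haveI : p.IsPrime := hp ▸ Ideal.comap_isPrime _ _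
  letI a1 : Algebra p.ResidueField q.ResidueField :=
    (Ideal.ResidueField.map p q (algebraMap R S) hp).toAlgebra
  haveI tower1 : IsScalarTower R p.ResidueField q.ResidueField := .of_algebraMap_eq (fun r => by
    show algebraMap R q.ResidueField r
      = Ideal.ResidueField.map p q (algebraMap R S) hp (algebraMap R p.ResidueField r)
    rw [Ideal.ResidueField.map_algebraMap]
    exact IsScalarTower.algebraMap_apply R S q.ResidueField r)
  haveI hint : Algebra.IsIntegral p.ResidueField q.ResidueField :=
    isIntegral_residueField_map hS p q hp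
  haveI : Algebra.IsAlgebraic p.ResidueField q.ResidueField := Algebra.IsIntegral.isAlgebraic
  haveI : Algebra.IsAlgebraic p.ResidueField (AlgebraicClosure q.ResidueField) :=
    Algebra.IsAlgebraic.trans p.ResidueField q.ResidueField (AlgebraicClosure q.ResidueField)
  haveI hgr : Algebra.IsGeometricallyReduced p.ResidueField (p.Fiber (EGA4.Cpl R)) := hR p
  haveI hW0 : IsReduced ((AlgebraicClosure q.ResidueField) ⊗[p.ResidueField] (p.Fiber (EGA4.Cpl R))) :=
    inferInstance
  haveI hW : IsReduced ((AlgebraicClosure q.ResidueField) ⊗[R] (EGA4.Cpl R)) :=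
    isReduced_of_injective
      (Algebra.TensorProduct.cancelBaseChange R p.ResidueField p.ResidueField
        (AlgebraicClosure q.ResidueField) (EGA4.Cpl R)).symm (AlgEquiv.injective _)
  haveI hW' : IsReduced ((AlgebraicClosure q.ResidueField) ⊗[S] (EGA4.Cpl R)) :=
    isReduced_tensor_of_isEtaleCoveredFin hS (AlgebraicClosure q.ResidueField)
  exact isReduced_of_injective
    (Algebra.TensorProduct.cancelBaseChange S q.ResidueField q.ResidueField
      (AlgebraicClosure q.ResidueField) (EGA4.Cpl R)) (AlgEquiv.injective _)

/-- The fibres of an algebra covered by étale algebras are geometrically reduced. -/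
theorem isGeometricallyReduced_fiber_of_isEtaleCoveredFin {R S : Type u} [CommRing R] [CommRing S]
    [Algebra R S] (hS : IsEtaleCoveredFin R S) (p : Ideal R) [p.IsPrime] :
    Algebra.IsGeometricallyReduced p.ResidueField (p.Fiber S) := by
  rw [Algebra.isGeometricallyReduced_field_iff]
  haveI h1 : IsReduced ((AlgebraicClosure p.ResidueField) ⊗[R] S) :=
    (hS.isEtaleCovered_baseChange (AlgebraicClosure p.ResidueField)).isReduced_of_field
  exact isReduced_of_injective
    (Algebra.TensorProduct.cancelBaseChange R p.ResidueField p.ResidueField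
      (AlgebraicClosure p.ResidueField) S) (AlgEquiv.injective _)

end Groth.Agent.Lib.Helper9.HensNagata
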