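import Mathlib
import Groth.Prelude.Def_Hens2
import Groth.Agent.Lib.Helper9.Hens.PairUniversal
import Groth.Agent.Lib.Helper9.Hens.PairQuotient
import Groth.Agent.Lib.Helper9.Hens.PairEtale
import Groth.Agent.Lib.Helper9.FlatDescent
import Groth.Agent.S17593
import Groth.Agent.S17594
import Groth.Agent.Lib.Helper71.SmoothAtFiber

/-!
# Flat and smooth Henselian finitely presented maps (helper9)

If `B` is a Henselization of `(R₀, IR₀)` and `B` is flat over `A`, then `R₀` is flat over `A` at
every prime containing `IR₀`; consequently `R₀` may be replaced by a flat (resp. smooth)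
finitely presented `A`-algebra.
-/

set_option autoImplicit false

universe u

namespace Groth.Agent.Lib.Helper9.HfpFlat

open Groth.Agent.Lib.Helper9 Groth.Agent.Lib.Helper9.Hens

section Prime

variable {R₀ : Type u} [CommRing R₀] {J : Ideal R₀} {B : Type u} [CommRing B] [Algebra R₀ B]

/-- A prime of a Henselization of `(R₀, J)` lying over a given prime containing `J`. -/
theorem exists_prime_under_eq (hB : Hens2.IsPairHenselization R₀ J B) (p : Ideal R₀) [p.IsPrime]
    (hp : J ≤ p) : ∃ P : Ideal B, P.IsPrime ∧ P.under R₀ = p := by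
  have hbij : Function.Bijective
      (Ideal.quotientMap (J.map (algebraMap R₀ B)) (algebraMap R₀ B) Ideal.le_comap_map) :=
    (quotientMap_bijective_iff (I := J) (S := B)).mpr
      ⟨exists_sub_mem_map_of_isPairHenselization hB,
        mem_of_algebraMap_mem_map_of_isPairHenselization hB⟩
  let e : R₀ ⧸ J ≃+* B ⧸ J.map (algebraMap R₀ B) := RingEquiv.ofBijective _ hbij
  let φ : B →+* R₀ ⧸ J := (e.symm : (B ⧸ J.map (algebraMap R₀ B)) →+* R₀ ⧸ J).comp
    (Ideal.Quotient.mk (J.map (algebraMap R₀ B)))
  have hφ : ∀ x : R₀, φ (algebraMap R₀ B x) = Ideal.Quotient.mk J x := by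
    intro x
    have h1 : e (Ideal.Quotient.mk J x) =
        Ideal.Quotient.mk (J.map (algebraMap R₀ B)) (algebraMap R₀ B x) := rfl
    show e.symm (Ideal.Quotient.mk (J.map (algebraMap R₀ B)) (algebraMap R₀ B x)) = _
    rw [← h1, e.symm_apply_apply]
  haveI hpbar : (p.map (Ideal.Quotient.mk J)).IsPrime :=
    Ideal.map_isPrime_of_surjective Ideal.Quotient.mk_surjective (by rw [Ideal.mk_ker]; exact hp)
  refine ⟨(p.map (Ideal.Quotient.mk J)).comap φ, inferInstance, ?_⟩
  ext x
  rw [Ideal.under_def, Ideal.mem_comap, Ideal.mem_comap, hφ, Ideal.mem_quotient_iff_mem hp]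

end Prime

section Flat

variable {A : Type u} [CommRing A] (I : Ideal A)
  (R₀ : Type u) [CommRing R₀] [Algebra A R₀]
  (B : Type u) [CommRing B] [Algebra R₀ B] [Algebra A B] [IsScalarTower A R₀ B]

/-- If a Henselization `B` of `(R₀, IR₀)` is flat over `A`, then `R₀` is flat over `A` at all
primes containing `IR₀`. -/
theorem flat_localization_atPrime
    (hB : Hens2.IsPairHenselization R₀ (I.map (algebraMap A R₀)) B) [Module.Flat A B]
    (p : Ideal R₀) [p.IsPrime] (hp : I.map (algebraMap A R₀) ≤ p) :
    Module.Flat A (Localization.AtPrime p) := by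
  haveI hfl : Module.Flat R₀ B := flat_of_isPairHenselization hB
  obtain ⟨P, hP, hPp⟩ := exists_prime_under_eq hB p hp
  subst hPp
  haveI : P.LiesOver (P.under R₀) := ⟨rfl⟩
  letI := Localization.AtPrime.algebraOfLiesOver (P.under R₀) P
  haveI : IsLocalHom (algebraMap (Localization.AtPrime (P.under R₀)) (Localization.AtPrime P)) := by
    rw [RingHom.algebraMap_toAlgebra]
    exact Localization.isLocalHom_localRingHom (P.under R₀) P (algebraMap R₀ B) Ideal.LiesOver.over
  haveI : Module.FaithfullyFlat (Localization.AtPrime (P.under R₀)) (Localization.AtPrime P) :=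
    Module.FaithfullyFlat.of_flat_of_isLocalHom
  haveI : Module.Flat A (Localization.AtPrime P) := Module.Flat.trans A B (Localization.AtPrime P)
  exact flat_of_faithfullyFlat_of_flat_comp A (Localization.AtPrime (P.under R₀))
    (Localization.AtPrime P)

end Flat

end Groth.Agent.Lib.Helper9.HfpFlat

namespace Groth.Agent.Lib.Helper9.HfpFlat

open Groth.Agent.Lib.Helper9 Groth.Agent.Lib.Helper9.Hens

section Main

variable {A : Type u} [CommRing A] (I : Ideal A)
  (R₀ : Type u) [CommRing R₀] [Algebra A R₀]
  (B : Type u) [CommRing B] [Algebra R₀ B] [Algebra A B] [IsScalarTower A R₀ B]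

/-- A Henselization of `(R₀, IR₀)` is a Henselization of `(R', IR')` for every étale
`R₀`-algebra `R'` with `R₀/IR₀ ≅ R'/IR'`, for a suitable compatible algebra structure. -/
theorem exists_algebra_of_etale_bijective
    (hB : Hens2.IsPairHenselization R₀ (I.map (algebraMap A R₀)) B)
    (R' : Type u) [CommRing R'] [Algebra R₀ R'] [Algebra A R'] [IsScalarTower A R₀ R']
    [Algebra.Etale R₀ R']
    (hq : Function.Bijective (Ideal.quotientMap ((I.map (algebraMap A R₀)).map (algebraMap R₀ R'))
      (algebraMap R₀ R') Ideal.le_comap_map)) :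
    ∃ (_ : Algebra R' B) (_ : IsScalarTower A R' B),
      Hens2.IsPairHenselization R' (I.map (algebraMap A R')) B := by
  haveI hhens : HenselianRing B ((I.map (algebraMap A R₀)).map (algebraMap R₀ B)) := hB.1
  obtain ⟨φ⟩ := exists_algHom_of_etale_of_bijective (I.map (algebraMap A R₀))
    ((I.map (algebraMap A R₀)).map (algebraMap R₀ B)) hq le_rfl
  letI algR'B : Algebra R' B := (φ : R' →+* B).toAlgebra
  haveI tow1 : IsScalarTower R₀ R' B := IsScalarTower.of_algebraMap_eq (fun x => (φ.commutes x).symm)
  haveI tow2 : IsScalarTower A R' B := IsScalarTower.of_algebraMap_eq (fun a => by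
    rw [IsScalarTower.algebraMap_apply A R₀ B, IsScalarTower.algebraMap_apply A R₀ R']
    exact (φ.commutes _).symm)
  have h := isPairHenselization_of_etale_of_bijective' hB hq
  have hmap : (I.map (algebraMap A R₀)).map (algebraMap R₀ R') = I.map (algebraMap A R') := by
    rw [Ideal.map_map, ← IsScalarTower.algebraMap_eq]
  rw [hmap] at h
  exact ⟨algR'B, tow2, h⟩

variable [HenselianRing A I] [Algebra.FinitePresentation A R₀]

/-- **S17615.** -/
theorem exists_flat_finitePresentation
    (hB : Hens2.IsPairHenselization R₀ (I.map (algebraMap A R₀)) B) [Module.Flat A B] :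
    ∃ (S : Type u) (_ : CommRing S) (_ : Algebra A S) (_ : Algebra S B) (_ : IsScalarTower A S B),
      Algebra.FinitePresentation A S ∧ Module.Flat A S ∧
      Hens2.IsPairHenselization S (I.map (algebraMap A S)) B := by
  obtain ⟨R', _, _, _, _, hEt, hbij, hflat⟩ := Groth.Agent.S17593.result A I R₀
    (fun p _ hp => flat_localization_atPrime I R₀ B hB p hp)
  obtain ⟨alg, tow, h⟩ := exists_algebra_of_etale_bijective I R₀ B hB R' hbij
  haveI : Algebra.FinitePresentation R₀ R' := Algebra.Etale.finitePresentation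
  exact ⟨R', inferInstance, inferInstance, alg, tow,
    Algebra.FinitePresentation.trans A R₀ R', hflat, h⟩

/-- **S17601.** -/
theorem exists_smooth
    (hB : Hens2.IsPairHenselization R₀ (I.map (algebraMap A R₀)) B) [Module.Flat A B]
    (het : ∀ r : ℕ, 1 ≤ r → Algebra.Smooth (A ⧸ I ^ r) (B ⧸ (I ^ r).map (algebraMap A B))) :
    ∃ (R : Type u) (_ : CommRing R) (_ : Algebra A R) (_ : Algebra R B) (_ : IsScalarTower A R B),
      Algebra.Smooth A R ∧ Hens2.IsPairHenselization R (I.map (algebraMap A R)) B := by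
  have hsmooth : ∀ (q : Ideal R₀) [q.IsPrime], I.map (algebraMap A R₀) ≤ q →
      Algebra.IsSmoothAt A q := by
    intro q _ hq
    have hflat := flat_localization_atPrime I R₀ B hB q hq
    obtain ⟨e⟩ := nonempty_algEquiv_quotient_pow I hB 1
    haveI := het 1 le_rfl
    have hsm : Algebra.FormallySmooth (A ⧸ I ^ 1) (R₀ ⧸ (I ^ 1).map (algebraMap A R₀)) :=
      Algebra.FormallySmooth.of_equiv e.symm
    have hIp : I ^ 1 ≤ q.under A := by
      rw [pow_one]
      intro a ha
      exact hq (Ideal.mem_map_of_mem _ ha)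
    haveI hfib := Groth.Agent.Lib.Helper71.SmoothAtFiber.formallySmooth_fiber_of_quotient
      (B := R₀) (I ^ 1) hsm (q.under A) hIp
    haveI : q.LiesOver (q.under A) := ⟨rfl⟩
    exact Algebra.IsSmoothAt.of_formallySmooth_fiber_of_flat (q.under A) q hflat
  obtain ⟨R', _, _, _, _, hEt, hbij, hsm⟩ := Groth.Agent.S17594.result A I R₀
    (fun p _ hp => hsmooth p hp)
  obtain ⟨alg, tow, h⟩ := exists_algebra_of_etale_bijective I R₀ B hB R' hbij
  exact ⟨R', inferInstance, inferInstance, alg, tow, hsm, h⟩

end Main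

end Groth.Agent.Lib.Helper9.HfpFlat
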