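import Mathlib

/-!
# Kummer extensions of Dedekind domains whose "divisor" is an `n`-th power are étale (helper9)
-/

set_option autoImplicit false

namespace Groth.Agent.Lib.Helper9.KummerDedekind

open scoped nonZeroDivisors
open FractionalIdeal Polynomial

universe u v w

section Exists

variable {A : Type u} {K : Type v} [CommRing A] [IsDedekindDomain A]
  [Field K] [Algebra A K] [IsFractionRing A K]

/-- If `(f) = I ^ n` then for every prime `p` there is `r ≠ 0` with `r ^ n * f ∈ A ∖ p`. -/
theorem exists_scaling (n : ℕ) (hn : n ≠ 0) (f : K) (hf : f ≠ 0)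
    (I : FractionalIdeal A⁰ K) (hI : FractionalIdeal.spanSingleton A⁰ f = I ^ n)
    (p : Ideal A) [hp : p.IsPrime] :
    ∃ (r : K) (c : A), r ≠ 0 ∧ c ∉ p ∧ r ^ n * f = algebraMap A K c := by
  have hI0 : I ≠ 0 := by
    rintro rfl
    rw [zero_pow hn, FractionalIdeal.spanSingleton_eq_zero_iff] at hI
    exact hf hI
  have hnle : ¬ (I⁻¹ ≤ (p : FractionalIdeal A⁰ K) * I⁻¹) := by
    intro hle
    have h1 : (1 : FractionalIdeal A⁰ K) ≤ (p : FractionalIdeal A⁰ K) := by
      calc (1 : FractionalIdeal A⁰ K) = I⁻¹ * I := (inv_mul_cancel₀ hI0).symm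
        _ ≤ (p : FractionalIdeal A⁰ K) * I⁻¹ * I := mul_le_mul_left hle I
        _ = (p : FractionalIdeal A⁰ K) := by rw [mul_assoc, inv_mul_cancel₀ hI0, mul_one]
    have h2 : (1 : K) ∈ (p : FractionalIdeal A⁰ K) := h1 (FractionalIdeal.one_mem_one _)
    rw [FractionalIdeal.mem_coeIdeal] at h2
    obtain ⟨x, hx, hx1⟩ := h2
    have : x = 1 := IsFractionRing.injective A K (by rw [hx1, map_one])
    rw [this] at hx
    exact hp.ne_top ((Ideal.eq_top_iff_one p).mpr hx)
  obtain ⟨r, hrI, hrP⟩ := SetLike.not_le_iff_exists.mp hnle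
  have hr0 : r ≠ 0 := by
    rintro rfl
    exact hrP (zero_mem _)
  have hJ1 : FractionalIdeal.spanSingleton A⁰ r * I ≤ 1 := by
    calc FractionalIdeal.spanSingleton A⁰ r * I ≤ I⁻¹ * I :=
          mul_le_mul_left (FractionalIdeal.spanSingleton_le_iff_mem.mpr hrI) I
      _ = 1 := inv_mul_cancel₀ hI0
  obtain ⟨J₀, hJ₀⟩ := FractionalIdeal.le_one_iff_exists_coeIdeal.mp hJ1
  have hspan : FractionalIdeal.spanSingleton A⁰ (r ^ n * f) =
      ((J₀ ^ n : Ideal A) : FractionalIdeal A⁰ K) := by
    rw [FractionalIdeal.coeIdeal_pow, hJ₀, mul_pow, ← hI,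
      FractionalIdeal.spanSingleton_pow, FractionalIdeal.spanSingleton_mul_spanSingleton]
  have hmem1 : r ^ n * f ∈ (1 : FractionalIdeal A⁰ K) := by
    have h3 : FractionalIdeal.spanSingleton A⁰ (r ^ n * f) ≤ 1 := by
      rw [hspan]; exact FractionalIdeal.coeIdeal_le_one
    exact FractionalIdeal.spanSingleton_le_iff_mem.mp h3
  obtain ⟨c, hc⟩ := (FractionalIdeal.mem_one_iff A⁰).mp hmem1
  refine ⟨r, c, hr0, ?_, hc.symm⟩
  intro hcp
  apply hrP
  have h4 : FractionalIdeal.spanSingleton A⁰ (r ^ n * f) ≤ (p : FractionalIdeal A⁰ K) := by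
    rw [FractionalIdeal.spanSingleton_le_iff_mem, ← hc, FractionalIdeal.mem_coeIdeal]
    exact ⟨c, hcp, rfl⟩
  rw [hspan, FractionalIdeal.coeIdeal_le_coeIdeal] at h4
  have h5 : J₀ ≤ p := hp.le_of_pow_le h4
  have h6 : FractionalIdeal.spanSingleton A⁰ r * I ≤ (p : FractionalIdeal A⁰ K) := by
    rw [← hJ₀, FractionalIdeal.coeIdeal_le_coeIdeal]; exact h5
  have h7 : FractionalIdeal.spanSingleton A⁰ r ≤ (p : FractionalIdeal A⁰ K) * I⁻¹ := by
    calc FractionalIdeal.spanSingleton A⁰ r
        = FractionalIdeal.spanSingleton A⁰ r * I * I⁻¹ := by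
          rw [mul_assoc, mul_inv_cancel₀ hI0, mul_one]
      _ ≤ (p : FractionalIdeal A⁰ K) * I⁻¹ := mul_le_mul_left h6 I⁻¹
  exact FractionalIdeal.spanSingleton_le_iff_mem.mp h7

end Exists

section Main

attribute [local instance] FractionRing.liftAlgebra FractionRing.isScalarTower_liftAlgebra

variable {A : Type u} {K : Type v} {L : Type w} [CommRing A] [IsDedekindDomain A]
  [Field K] [Algebra A K] [IsFractionRing A K]
  [Field L] [Algebra K L] [Algebra A L] [IsScalarTower A K L]

open IntermediateField in
theorem etale_finite (n : ℕ) (hn : IsUnit (n : A)) (f : K) (hf : f ≠ 0)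
    (I : FractionalIdeal A⁰ K) (hI : FractionalIdeal.spanSingleton A⁰ f = I ^ n)
    (α : L) (hα : α ^ n = algebraMap K L f) (hgen : IntermediateField.adjoin K {α} = ⊤) :
    Algebra.Etale A (integralClosure A L) ∧ Module.Finite A (integralClosure A L) := by
  classical
  have hn0 : n ≠ 0 := by
    rintro rfl
    simp at hn
  have hnK : (n : K) ≠ 0 := by
    have h1 := hn.map (algebraMap A K)
    rw [map_natCast] at h1
    exact h1.ne_zero
  have hg0 : aeval α (X ^ n - C f : K[X]) = 0 := by simp [hα]
  have hgsep : (X ^ n - C f : K[X]).Separable := separable_X_pow_sub_C f hnK hf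
  have hαint : IsIntegral K α :=
    ⟨X ^ n - C f, monic_X_pow_sub_C f hn0, by rw [← aeval_def]; exact hg0⟩
  have hαsep : IsSeparable K α := hgsep.of_dvd (minpoly.dvd K α hg0)
  haveI hsepL : Algebra.IsSeparable K L := by
    have h1 : Algebra.IsSeparable K K⟮α⟯ :=
      (IntermediateField.isSeparable_adjoin_simple_iff_isSeparable K L).mpr hαsep
    rw [hgen] at h1
    exact (IntermediateField.isSeparable_top K L).mp h1
  haveI hfinL : FiniteDimensional K L := by
    have h1 : FiniteDimensional K K⟮α⟯ := IntermediateField.adjoin.finiteDimensional hαint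
    rw [hgen] at h1
    exact (IntermediateField.topEquiv (F := K) (E := L)).toLinearEquiv.finiteDimensional
  haveI hfin : Module.Finite A (integralClosure A L) :=
    IsIntegralClosure.finite A K L (integralClosure A L)
  haveI hded : IsDedekindDomain (integralClosure A L) :=
    IsIntegralClosure.isDedekindDomain A K L (integralClosure A L)
  haveI hfrac : IsFractionRing (integralClosure A L) L :=
    IsIntegralClosure.isFractionRing_of_finite_extension A K L (integralClosure A L)
  have hinjAL : Function.Injective (algebraMap A L) := by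
    rw [IsScalarTower.algebraMap_eq A K L]
    exact (algebraMap K L).injective.comp (IsFractionRing.injective A K)
  have hinjAB : Function.Injective (algebraMap A (integralClosure A L)) := by
    intro a b hab
    apply hinjAL
    have := congrArg (algebraMap (integralClosure A L) L) hab
    rwa [← IsScalarTower.algebraMap_apply, ← IsScalarTower.algebraMap_apply] at this
  haveI htf : Module.IsTorsionFree A (integralClosure A L) :=
    Module.isTorsionFree_iff_algebraMap_injective.mpr hinjAB
  haveI hfaith : FaithfulSMul A (integralClosure A L) :=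
    (faithfulSMul_iff_algebraMap_injective A (integralClosure A L)).mpr hinjAB
  haveI hflat : Module.Flat A (integralClosure A L) := inferInstance
  haveI hfp : Algebra.FinitePresentation A (integralClosure A L) :=
    Algebra.FinitePresentation.of_finiteType.mp inferInstance
  have H : RingHom.comp (algebraMap (FractionRing A) (FractionRing (integralClosure A L)))
      ↑(FractionRing.algEquiv A K).symm.toRingEquiv =
        RingHom.comp ↑(FractionRing.algEquiv (integralClosure A L) L).symm.toRingEquiv
          (algebraMap K L) := by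
    apply IsLocalization.ringHom_ext A⁰
    ext
    simp only [RingHom.coe_comp, RingHom.coe_coe,
      AlgEquiv.coe_ringEquiv, Function.comp_apply, AlgEquiv.commutes,
      ← IsScalarTower.algebraMap_apply]
    rw [IsScalarTower.algebraMap_apply A (integralClosure A L) L, AlgEquiv.commutes,
      ← IsScalarTower.algebraMap_apply]
  haveI hsepFrac : Algebra.IsSeparable (FractionRing A) (FractionRing (integralClosure A L)) :=
    Algebra.IsSeparable.of_equiv_equiv _ _ H
  haveI hunr : Algebra.FormallyUnramified A (integralClosure A L) := by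
    rw [Algebra.formallyUnramified_iff_forall]
    intro q
    haveI := q.2
    rw [← not_dvd_differentIdeal_iff, Ideal.dvd_iff_le]
    intro hle
    obtain ⟨r, c, hr0, hcp, hrc⟩ := exists_scaling n hn0 f hf I hI (q.asIdeal.under A)
    have hxn : (algebraMap K L r * α) ^ n = algebraMap A L c := by
      rw [mul_pow, hα, ← map_pow, ← map_mul, hrc, ← IsScalarTower.algebraMap_apply]
    have hxint : IsIntegral A (algebraMap K L r * α) := by
      refine ⟨X ^ n - C c, monic_X_pow_sub_C c hn0, ?_⟩
      rw [← aeval_def]
      simp [hxn]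
    let xB : integralClosure A L := ⟨algebraMap K L r * α, hxint⟩
    have hxB : xB ^ n = algebraMap A (integralClosure A L) c := Subtype.ext (by
      simpa [xB] using hxn)
    have hxBint : IsIntegral A xB := IsIntegralClosure.isIntegral A L xB
    have hadj : Algebra.adjoin K {algebraMap (integralClosure A L) L xB} = ⊤ := by
      have hval : algebraMap (integralClosure A L) L xB = algebraMap K L r * α := rfl
      rw [hval]
      have hxalg : IsAlgebraic K (algebraMap K L r * α) :=
        (Algebra.IsAlgebraic.isAlgebraic _)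
      rw [← IntermediateField.adjoin_simple_toSubalgebra_of_isAlgebraic hxalg]
      have h2 : K⟮algebraMap K L r * α⟯ = ⊤ := by
        rw [eq_top_iff, ← hgen, IntermediateField.adjoin_simple_le_iff]
        have h3 : (algebraMap K L r)⁻¹ * (algebraMap K L r * α) = α := by
          rw [← mul_assoc, inv_mul_cancel₀ ((_root_.map_ne_zero _).mpr hr0), one_mul]
        have h4 : (algebraMap K L r)⁻¹ * (algebraMap K L r * α) ∈ K⟮algebraMap K L r * α⟯ :=
          mul_mem (inv_mem (IntermediateField.algebraMap_mem _ r))
            (IntermediateField.mem_adjoin_simple_self K _)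
        rwa [h3] at h4
      rw [h2]
      rfl
    have hmem := aeval_derivative_mem_differentIdeal A K L xB hadj
    have hroot : aeval xB (X ^ n - C c : A[X]) = 0 := by
      simp [hxB]
    obtain ⟨h₂, hh₂⟩ := minpoly.isIntegrallyClosed_dvd hxBint hroot
    have hder := congrArg (fun P : A[X] => aeval xB (derivative P)) hh₂
    simp only [derivative_sub, derivative_X_pow, derivative_C, sub_zero, derivative_mul, map_add,
      map_mul, minpoly.aeval, zero_mul, add_zero, map_pow, aeval_X, map_natCast] at hder
    have h4 : (n : integralClosure A L) * xB ^ (n - 1) ∈ q.asIdeal := by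
      rw [hder]
      exact Ideal.mul_mem_right _ _ (hle hmem)
    have hnB : IsUnit (n : integralClosure A L) := by
      have := hn.map (algebraMap A (integralClosure A L))
      rwa [map_natCast] at this
    have h5 : xB ^ (n - 1) ∈ q.asIdeal := by
      obtain ⟨v, hv⟩ := hnB
      have : xB ^ (n - 1) = ↑v⁻¹ * ((n : integralClosure A L) * xB ^ (n - 1)) := by
        rw [← hv, ← mul_assoc, Units.inv_mul, one_mul]
      rw [this]
      exact Ideal.mul_mem_left _ _ h4
    have h6 : xB ^ n ∈ q.asIdeal := by
      have : xB ^ n = xB ^ (n - 1) * xB := by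
        rw [← pow_succ, Nat.sub_add_cancel (Nat.one_le_iff_ne_zero.mpr hn0)]
      rw [this]
      exact Ideal.mul_mem_right _ _ h5
    rw [hxB] at h6
    exact hcp h6
  exact ⟨Algebra.Etale.of_formallyUnramified_of_flat, hfin⟩

end Main

end Groth.Agent.Lib.Helper9.KummerDedekind
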