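import Mathlib

/-!
# Finite intersections of valuation rings (helper9)

The classical theorem (Matsumura 12.2 / Bourbaki) that a finite intersection of valuation rings of
a field `K` is a semilocal Prüfer (indeed Bézout) domain with fraction field `K`, in the form of
the key lemma `exists_geom_sum_good`: for `y : K` and finitely many valuation subrings `V i` there
is `k ≥ 2` such that `g = 1 + y + ⋯ + y^(k-1)` is nonzero, `g⁻¹` and `y g⁻¹` lie in all `V i`,
and `g` is a unit of every `V i` containing `y`.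
-/

set_option autoImplicit false

namespace Groth.Agent.Lib.Helper9.Prufer

open Finset

/-- In a local ring, for two distinct primes `k ≠ k'` the geometric sums `∑_{j<k} y^j` and
`∑_{j<k'} y^j` cannot both be non-units. -/
theorem not_isUnit_geom_sum_unique {A : Type*} [CommRing A] [IsLocalRing A] (y : A) {k k' : ℕ}
    (hk : k.Prime) (hk' : k'.Prime) (hne : k ≠ k')
    (h1 : ¬ IsUnit (∑ j ∈ range k, y ^ j)) (h2 : ¬ IsUnit (∑ j ∈ range k', y ^ j)) : False := by
  set z := IsLocalRing.residue A y with hzdef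
  have hz : ∀ n, ¬ IsUnit (∑ j ∈ range n, y ^ j) → ∑ j ∈ range n, z ^ j = 0 := by
    intro n hn
    have h0 : IsLocalRing.residue A (∑ j ∈ range n, y ^ j) = 0 := by
      rwa [IsLocalRing.residue_eq_zero_iff, IsLocalRing.mem_maximalIdeal, mem_nonunits_iff]
    simpa [map_sum, map_pow] using h0
  have e1 := hz k h1
  have e2 := hz k' h2
  have p1 : z ^ k = 1 := by
    have h := geom_sum_mul z k
    rw [e1, zero_mul] at h
    exact sub_eq_zero.mp h.symm
  have p2 : z ^ k' = 1 := by
    have h := geom_sum_mul z k'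
    rw [e2, zero_mul] at h
    exact sub_eq_zero.mp h.symm
  have hcop : Nat.Coprime k k' := (Nat.coprime_primes hk hk').mpr hne
  have hz1 : z = 1 := by
    have hd : orderOf z ∣ Nat.gcd k k' :=
      Nat.dvd_gcd (orderOf_dvd_of_pow_eq_one p1) (orderOf_dvd_of_pow_eq_one p2)
    rw [hcop] at hd
    exact orderOf_eq_one_iff.mp (Nat.dvd_one.mp hd)
  rw [hz1] at e1 e2
  simp only [one_pow, sum_const, card_range, nsmul_eq_mul, mul_one] at e1 e2
  have hcop' : IsCoprime (k : ℤ) (k' : ℤ) := Nat.isCoprime_iff_coprime.mpr hcop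
  obtain ⟨a, b, hab⟩ := hcop'
  have h := congrArg (Int.cast : ℤ → IsLocalRing.ResidueField A) hab
  simp only [Int.cast_add, Int.cast_mul, Int.cast_natCast, e1, e2, mul_zero, add_zero,
    Int.cast_one] at h
  exact zero_ne_one h

variable {K : Type*} [Field K]

/-- valuation of a geometric sum when `v y > 1`. -/
theorem valuation_geom_sum_of_one_lt {Γ : Type*} [LinearOrderedCommGroupWithZero Γ]
    (v : Valuation K Γ) {y : K} (hy : 1 < v y) (k : ℕ) :
    v (∑ j ∈ range (k + 1), y ^ j) = v y ^ k := by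
  induction k with
  | zero => simp
  | succ k ih =>
    rw [sum_range_succ]
    have hlt : v (∑ j ∈ range (k + 1), y ^ j) < v (y ^ (k + 1)) := by
      rw [ih, map_pow]
      exact pow_lt_pow_right₀ hy (Nat.lt_succ_self k)
    rw [Valuation.map_add_eq_of_lt_right v hlt, map_pow]

/-- The set of primes `k` for which `∑_{j<k} y^j` is not a unit of `V` (given `y ∈ V`) has at
most one element. -/
theorem bad_primes_subsingleton (V : ValuationSubring K) (y : K) :
    {k : ℕ | k.Prime ∧ y ∈ V ∧ V.valuation (∑ j ∈ range k, y ^ j) ≠ 1}.Subsingleton := by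
  intro k hk k' hk'
  by_contra hne
  obtain ⟨hkp, hy, h1⟩ := hk
  obtain ⟨hkp', -, h2⟩ := hk'
  have key : ∀ n, V.valuation (∑ j ∈ range n, y ^ j) ≠ 1 →
      ¬ IsUnit (∑ j ∈ range n, (⟨y, hy⟩ : V) ^ j) := by
    intro n hn hu
    apply hn
    have := (V.valuation_eq_one_iff _).mp hu
    simpa using this
  exact not_isUnit_geom_sum_unique (⟨y, hy⟩ : V) hkp hkp' hne (key k h1) (key k' h2)

/-- **Key lemma** for finite intersections of valuation rings. -/
theorem exists_geom_sum_good {ι : Type*} [Finite ι] (V : ι → ValuationSubring K) (y : K) :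
    ∃ k : ℕ, (∑ j ∈ range k, y ^ j) ≠ 0 ∧
      ∀ i, (∑ j ∈ range k, y ^ j)⁻¹ ∈ V i ∧ y * (∑ j ∈ range k, y ^ j)⁻¹ ∈ V i ∧
        (y ∈ V i → (∑ j ∈ range k, y ^ j) ∈ V i) := by
  classical
  -- extended family including the trivial valuation ring
  let W : Option ι → ValuationSubring K := fun o => o.elim ⊤ V
  let Bad : Option ι → Set ℕ := fun o =>
    {k : ℕ | k.Prime ∧ y ∈ W o ∧ (W o).valuation (∑ j ∈ range k, y ^ j) ≠ 1}
  have hBadfin : (⋃ o, Bad o).Finite :=
    Set.finite_iUnion (fun o => (bad_primes_subsingleton (W o) y).finite)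
  obtain ⟨k, hkprime, hkbad⟩ := Nat.infinite_setOf_prime.exists_notMem_finite hBadfin
  have hkprime : k.Prime := hkprime
  have hgood : ∀ o, y ∈ W o → (W o).valuation (∑ j ∈ range k, y ^ j) = 1 := by
    intro o hy
    by_contra hne
    exact hkbad (Set.mem_iUnion.mpr ⟨o, hkprime, hy, hne⟩)
  have hg0 : (∑ j ∈ range k, y ^ j) ≠ 0 := by
    intro h0
    have := hgood none (ValuationSubring.mem_top y)
    rw [h0, map_zero] at this
    exact zero_ne_one this
  refine ⟨k, hg0, fun i => ?_⟩
  have hk2 : 2 ≤ k := hkprime.two_le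
  by_cases hy : y ∈ V i
  · have h1 : (V i).valuation (∑ j ∈ range k, y ^ j) = 1 := hgood (some i) hy
    have hinv : (V i).valuation (∑ j ∈ range k, y ^ j)⁻¹ = 1 := by
      rw [map_inv₀, h1, inv_one]
    refine ⟨(V i).mem_of_valuation_le_one _ hinv.le, ?_, fun _ => ?_⟩
    · apply (V i).mem_of_valuation_le_one
      rw [map_mul, hinv, mul_one]
      exact ((V i).valuation_le_one_iff y).mpr hy
    · exact (V i).mem_of_valuation_le_one _ h1.le
  · have hvy : 1 < (V i).valuation y := by
      rw [← not_le, (V i).valuation_le_one_iff]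
      exact hy
    obtain ⟨m, rfl⟩ : ∃ m, k = m + 1 + 1 := ⟨k - 2, by omega⟩
    have hval := valuation_geom_sum_of_one_lt (V i).valuation hvy (m + 1)
    have hpos : (V i).valuation y ≠ 0 := (lt_trans zero_lt_one hvy).ne'
    refine ⟨?_, ?_, fun h => absurd h hy⟩
    · apply (V i).mem_of_valuation_le_one
      rw [map_inv₀, hval]
      exact inv_le_one_of_one_le₀ (one_le_pow₀ hvy.le)
    · apply (V i).mem_of_valuation_le_one
      rw [map_mul, map_inv₀, hval, pow_succ, mul_inv, mul_comm _ ((V i).valuation y)⁻¹,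
        ← mul_assoc, mul_inv_cancel₀ hpos, one_mul]
      exact inv_le_one_of_one_le₀ (one_le_pow₀ hvy.le)


section Inter

variable {L : Type*} [Field L] {ι : Type*} [Finite ι] [Nonempty ι] (V : ι → ValuationSubring L)
  (K : Subfield L) (T : Subring L) (hT : ∀ x, x ∈ T ↔ (∀ i, x ∈ V i) ∧ x ∈ K)

include hT

/-- Elements of `K` are fractions of elements of `T`, with controlled denominators. -/
theorem exists_frac (y : L) (hy : y ∈ K) :
    ∃ u v : T, (v : L) ≠ 0 ∧ (u : L) = y * v ∧ ∀ i, y ∈ V i → (V i).valuation (v : L) = 1 := by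
  obtain ⟨k, hg0, hk⟩ := exists_geom_sum_good V y
  have hgK : (∑ j ∈ range k, y ^ j) ∈ K := sum_mem (fun j _ => pow_mem hy j)
  refine ⟨⟨y * (∑ j ∈ range k, y ^ j)⁻¹, (hT _).mpr ⟨fun i => (hk i).2.1, mul_mem hy (inv_mem hgK)⟩⟩,
    ⟨(∑ j ∈ range k, y ^ j)⁻¹, (hT _).mpr ⟨fun i => (hk i).1, inv_mem hgK⟩⟩,
    inv_ne_zero hg0, rfl, fun i hyi => ?_⟩
  have h1 : (V i).valuation (∑ j ∈ range k, y ^ j) ≤ 1 :=
    ((V i).valuation_le_one_iff _).mpr ((hk i).2.2 hyi)
  have h2 : (V i).valuation (∑ j ∈ range k, y ^ j)⁻¹ ≤ 1 :=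
    ((V i).valuation_le_one_iff _).mpr (hk i).1
  show (V i).valuation (∑ j ∈ range k, y ^ j)⁻¹ = 1
  apply le_antisymm h2
  rw [map_inv₀]
  have hpos : 0 < (V i).valuation (∑ j ∈ range k, y ^ j) :=
    zero_lt_iff.mpr ((map_ne_zero _).mpr hg0)
  exact (one_le_inv₀ hpos).mpr h1

theorem le_valuationSubring (i : ι) : T ≤ (V i).toSubring := fun x hx => ((hT x).mp hx).1 i

/-- The centre of `V i` on `T`. -/
def centre (i : ι) : Ideal T :=
  (IsLocalRing.maximalIdeal (V i)).comap (Subring.inclusion (le_valuationSubring V K T hT i))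

theorem mem_centre_iff (i : ι) (t : T) :
    t ∈ centre V K T hT i ↔ (V i).valuation (t : L) < 1 := by
  unfold centre
  rw [Ideal.mem_comap, ValuationSubring.valuation_lt_one_iff]
  rfl

instance centre_isPrime (i : ι) : (centre V K T hT i).IsPrime := by
  unfold centre
  infer_instance

theorem centre_ne_top (i : ι) : centre V K T hT i ≠ ⊤ := (centre_isPrime V K T hT i).ne_top

theorem valuation_le_one_of_mem (i : ι) (t : T) : (V i).valuation (t : L) ≤ 1 :=
  ((V i).valuation_le_one_iff _).mpr (((hT _).mp t.2).1 i)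

/-- Every maximal ideal of `T` is one of the centres. -/
theorem exists_eq_centre_of_isMaximal (M : Ideal T) [hM : M.IsMaximal] :
    ∃ i, M = centre V K T hT i := by
  classical
  cases nonempty_fintype ι
  have hsub : (M : Set T) ⊆ ⋃ i ∈ ((Finset.univ : Finset ι) : Set ι), (centre V K T hT i : Set T) := by
    intro t ht
    by_contra hnot
    have hall : ∀ i, (V i).valuation (t : L) = 1 := by
      intro i
      have h1 : ¬ (V i).valuation (t : L) < 1 := by
        intro hlt
        apply hnot
        simp only [Finset.coe_univ, Set.mem_univ, Set.iUnion_true, Set.mem_iUnion, SetLike.mem_coe]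
        exact ⟨i, (mem_centre_iff V K T hT i t).mpr hlt⟩
      exact le_antisymm (valuation_le_one_of_mem V K T hT i t) (not_lt.mp h1)
    have ht0 : (t : L) ≠ 0 := by
      obtain ⟨i⟩ := ‹Nonempty ι›
      intro h0
      have := hall i
      rw [h0, map_zero] at this
      exact zero_ne_one this
    have hinv : (t : L)⁻¹ ∈ T := by
      refine (hT _).mpr ⟨fun i => ?_, inv_mem ((hT _).mp t.2).2⟩
      apply (V i).mem_of_valuation_le_one
      rw [map_inv₀, hall i, inv_one]
    have h1 : (1 : T) ∈ M := by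
      have : (1 : T) = ⟨(t : L)⁻¹, hinv⟩ * t := by
        apply Subtype.ext
        show (1 : L) = (t : L)⁻¹ * (t : L)
        rw [inv_mul_cancel₀ ht0]
      rw [this]
      exact M.mul_mem_left _ ht
    exact hM.ne_top ((Ideal.eq_top_iff_one M).mpr h1)
  obtain ⟨i0⟩ := ‹Nonempty ι›
  obtain ⟨i, -, hi⟩ := (Ideal.subset_union_prime (s := Finset.univ)
    (f := fun i => centre V K T hT i) i0 i0
    (fun i _ _ _ => centre_isPrime V K T hT i)).mp hsub
  exact ⟨i, hM.eq_of_le (centre_ne_top V K T hT i) hi⟩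

theorem finite_maximalSpectrum : Finite (MaximalSpectrum T) := by
  classical
  choose f hf using fun M : MaximalSpectrum T =>
    exists_eq_centre_of_isMaximal V K T hT M.asIdeal (hM := M.isMaximal)
  refine Finite.of_injective f (fun M M' h => ?_)
  apply MaximalSpectrum.ext
  rw [hf M, hf M', h]

omit [Finite ι] [Nonempty ι] hT in
theorem mk'_dvd_mk' (p : Ideal T) [p.IsPrime] {a' b' u v : T} (hv : v ∉ p)
    (h : b' * v = a' * u) (s t : p.primeCompl) :
    IsLocalization.mk' (Localization.AtPrime p) a' s ∣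
      IsLocalization.mk' (Localization.AtPrime p) b' t := by
  refine ⟨IsLocalization.mk' (Localization.AtPrime p) (u * s) (⟨v, hv⟩ * t), ?_⟩
  rw [← IsLocalization.mk'_mul, IsLocalization.mk'_eq_iff_eq]
  congr 1
  simp only [Submonoid.coe_mul]
  calc (s : T) * (v * t) * b' = (s : T) * t * (b' * v) := by ring
    _ = (s : T) * t * (a' * u) := by rw [h]
    _ = t * (a' * (u * s)) := by ring

theorem mk'_dvd_mk'_of_div_mem (p : Ideal T) [p.IsPrime] (i : ι) (hpi : p ≤ centre V K T hT i)
    {a' b' : T} (ha : a' ≠ 0) (hy : (b' : L) / (a' : L) ∈ V i) (s t : p.primeCompl) :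
    IsLocalization.mk' (Localization.AtPrime p) a' s ∣
      IsLocalization.mk' (Localization.AtPrime p) b' t := by
  have haL : (a' : L) ≠ 0 := fun h => ha (Subtype.ext h)
  have hyK : (b' : L) / (a' : L) ∈ K := div_mem ((hT _).mp b'.2).2 ((hT _).mp a'.2).2
  obtain ⟨u, v, -, huv, hval⟩ := exists_frac V K T hT _ hyK
  have hv : v ∉ p := by
    intro hvp
    have := (mem_centre_iff V K T hT i v).mp (hpi hvp)
    rw [hval i hy] at this
    exact lt_irrefl _ this
  refine mk'_dvd_mk' T p (u := u) hv ?_ s t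
  apply Subtype.ext
  show (b' : L) * (v : L) = (a' : L) * (u : L)
  rw [huv]
  field_simp

/-- **Finite intersections of valuation rings are Prüfer**: localizations of `T` at primes are
valuation rings. -/
theorem valuationRing_localization (p : Ideal T) [p.IsPrime] :
    ValuationRing (Localization.AtPrime p) := by
  obtain ⟨M, hM, hpM⟩ := Ideal.exists_le_maximal p (Ideal.IsPrime.ne_top inferInstance)
  obtain ⟨i, rfl⟩ := exists_eq_centre_of_isMaximal V K T hT M
  rw [ValuationRing.iff_dvd_total]
  refine ⟨fun a b => ?_⟩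
  obtain ⟨a', s, rfl⟩ := IsLocalization.exists_mk'_eq p.primeCompl a
  obtain ⟨b', t, rfl⟩ := IsLocalization.exists_mk'_eq p.primeCompl b
  by_cases ha : a' = 0
  · right
    rw [ha, IsLocalization.mk'_zero]
    exact dvd_zero _
  by_cases hb : b' = 0
  · left
    rw [hb, IsLocalization.mk'_zero]
    exact dvd_zero _
  rcases (V i).mem_or_inv_mem ((b' : L) / (a' : L)) with hy | hy
  · left
    exact mk'_dvd_mk'_of_div_mem V K T hT p i hpM ha hy s t
  · right
    rw [inv_div] at hy
    exact mk'_dvd_mk'_of_div_mem V K T hT p i hpM hb hy t s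

theorem exists_eq_div (x : L) (hx : x ∈ K) :
    ∃ a b : L, a ∈ T ∧ b ∈ T ∧ b ≠ 0 ∧ x = a / b := by
  obtain ⟨u, v, hv0, huv, -⟩ := exists_frac V K T hT x hx
  refine ⟨u, v, u.2, v.2, hv0, ?_⟩
  rw [huv, mul_div_assoc, div_self hv0, mul_one]

end Inter


section Prufer

variable (R L : Type*) [CommRing R] [IsDomain R] [Field L] [Algebra R L] [IsFractionRing R L]

theorem mem_ofField_or_inv_mem (p : Ideal R) [p.IsPrime]
    [ValuationRing (Localization.AtPrime p)] (x : L) :
    x ∈ Localization.subalgebra.ofField L p.primeCompl p.primeCompl_le_nonZeroDivisors ∨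
    x⁻¹ ∈ Localization.subalgebra.ofField L p.primeCompl p.primeCompl_le_nonZeroDivisors := by
  obtain ⟨a, b, hb, rfl⟩ := IsFractionRing.div_surjective (A := R) x
  have hinj : Function.Injective (algebraMap R (Localization.AtPrime p)) :=
    IsLocalization.injective _ p.primeCompl_le_nonZeroDivisors
  have hinjL : Function.Injective (algebraMap R L) := IsFractionRing.injective R L
  have hb0 : b ≠ 0 := nonZeroDivisors.ne_zero hb
  have hbL : algebraMap R L b ≠ 0 := fun h => hb0 (hinjL (by rw [h, map_zero]))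
  have key : ∀ a b : R, b ≠ 0 →
      algebraMap R (Localization.AtPrime p) a ∣ algebraMap R (Localization.AtPrime p) b →
      ∃ c' s : R, s ∈ p.primeCompl ∧ algebraMap R L b / algebraMap R L a =
        algebraMap R L c' * (algebraMap R L s)⁻¹ := by
    intro a b hb0 hdvd
    obtain ⟨c, hc⟩ := hdvd
    obtain ⟨c', s, rfl⟩ := IsLocalization.exists_mk'_eq p.primeCompl c
    have h1 : algebraMap R (Localization.AtPrime p) (b * s) =
        algebraMap R (Localization.AtPrime p) (a * c') := by
      rw [map_mul, map_mul, hc, mul_assoc, IsLocalization.mk'_spec]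
    have h2 : b * s = a * c' := hinj h1
    have hs0 : (s : R) ≠ 0 := fun h => s.2 (by rw [h]; exact p.zero_mem)
    have ha0 : a ≠ 0 := by
      intro h
      rw [h, zero_mul] at h2
      exact (mul_ne_zero hb0 hs0) h2
    have haL : algebraMap R L a ≠ 0 := fun h => ha0 (hinjL (by rw [h, map_zero]))
    have hsL : algebraMap R L (s : R) ≠ 0 := fun h => hs0 (hinjL (by rw [h, map_zero]))
    refine ⟨c', s, s.2, ?_⟩
    have h3 : algebraMap R L b * algebraMap R L s = algebraMap R L a * algebraMap R L c' := by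
      rw [← map_mul, ← map_mul, h2]
    field_simp
    rw [h3]
  rcases ValuationRing.dvd_total (algebraMap R (Localization.AtPrime p) a)
    (algebraMap R (Localization.AtPrime p) b) with h | h
  · right
    obtain ⟨c', s, hs, e⟩ := key a b hb0 h
    refine ⟨c', s, hs, ?_⟩
    rw [inv_div]
    exact e
  · left
    by_cases ha0 : a = 0
    · refine ⟨0, 1, p.primeCompl.one_mem, ?_⟩
      rw [ha0, map_zero, zero_div, zero_mul]
    obtain ⟨c', s, hs, e⟩ := key b a ha0 h
    exact ⟨c', s, hs, e⟩

/-- The localization of a Prüfer domain at a prime, as a valuation subring of the fraction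
field. -/
noncomputable def valSub (p : Ideal R) [p.IsPrime] [ValuationRing (Localization.AtPrime p)] :
    ValuationSubring L :=
  ValuationSubring.ofSubring
    (Localization.subalgebra.ofField L p.primeCompl p.primeCompl_le_nonZeroDivisors).toSubring
    (mem_ofField_or_inv_mem R L p)

theorem mem_valSub_iff (p : Ideal R) [p.IsPrime] [ValuationRing (Localization.AtPrime p)] (x : L) :
    x ∈ valSub R L p ↔
      x ∈ Localization.subalgebra.ofField L p.primeCompl p.primeCompl_le_nonZeroDivisors :=
  Iff.rfl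

/-- A semilocal Prüfer domain intersected with a subfield of its fraction field is again a
semilocal Prüfer domain whose fraction field is that subfield. -/
theorem semilocal_prufer_inter_subfield
    (hR : ∀ (p : Ideal R) [p.IsPrime], ValuationRing (Localization.AtPrime p))
    (hfin : Finite (MaximalSpectrum R)) (K : Subfield L) :
    (∀ (p : Ideal ↥((algebraMap R L).range ⊓ K.toSubring)) [p.IsPrime],
        ValuationRing (Localization.AtPrime p)) ∧
      Finite (MaximalSpectrum ↥((algebraMap R L).range ⊓ K.toSubring)) ∧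
      ∀ x : L, x ∈ K → ∃ a b : L, a ∈ (algebraMap R L).range ⊓ K.toSubring ∧
        b ∈ (algebraMap R L).range ⊓ K.toSubring ∧ b ≠ 0 ∧ x = a / b := by
  let V : MaximalSpectrum R → ValuationSubring L := fun m =>
    @valSub R L _ _ _ _ _ m.asIdeal m.isMaximal.isPrime (hR m.asIdeal)
  have hne : Nonempty (MaximalSpectrum R) := by
    obtain ⟨m, hm⟩ := Ideal.exists_maximal R
    exact ⟨⟨m, hm⟩⟩
  have hT : ∀ x, x ∈ (algebraMap R L).range ⊓ K.toSubring ↔ (∀ i, x ∈ V i) ∧ x ∈ K := by
    intro x
    rw [Subring.mem_inf, Subfield.mem_toSubring]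
    refine and_congr ?_ Iff.rfl
    have h1 : x ∈ (algebraMap R L).range ↔ x ∈ (⊥ : Subalgebra R L) := by
      rw [Algebra.mem_bot]
      rfl
    rw [h1, ← MaximalSpectrum.iInf_localization_eq_bot R L, Algebra.mem_iInf]
    rfl
  exact ⟨fun p _ => valuationRing_localization V K _ hT p,
    finite_maximalSpectrum V K _ hT, fun x hx => exists_eq_div V K _ hT x hx⟩

end Prufer

end Groth.Agent.Lib.Helper9.Prufer
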