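import Groth.Agent.Lib.Helper9.DedekindEtale

/-!
# Rational smooth points over a discrete valuation ring (helper9)

* `dvr_localization_of_etale_rational`: for `C` étale over a DVR `B` and a prime `q` of `C` over
  the maximal ideal of `B` with `B → C ⧸ q` surjective, `C_q` is a DVR, unramified over `B` with
  trivial residue field extension.
-/

set_option autoImplicit false

namespace Groth.Agent.Lib.Helper9

universe u

open scoped nonZeroDivisors

theorem dvr_localization_of_etale_rational
    (B C : Type u) [CommRing B] [IsDomain B] [IsDiscreteValuationRing B] [CommRing C]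
    [Algebra B C] [Algebra.Etale B C]
    (q : Ideal C) [q.IsPrime] (hq : q.comap (algebraMap B C) = IsLocalRing.maximalIdeal B)
    (hsurj : ∀ c : C, ∃ b : B, c - algebraMap B C b ∈ q) :
    ∃ (_ : IsDomain (Localization.AtPrime q)), IsDiscreteValuationRing (Localization.AtPrime q) ∧
      Function.Injective (algebraMap B (Localization.AtPrime q)) ∧
      (IsLocalRing.maximalIdeal B).map (algebraMap B (Localization.AtPrime q)) =
        IsLocalRing.maximalIdeal (Localization.AtPrime q) ∧
      Function.Surjective ((IsLocalRing.residue (Localization.AtPrime q)).comp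
        (algebraMap B (Localization.AtPrime q))) := by
  have hdom : IsDomain (Localization.AtPrime q) := isDomain_localization_of_etale B C q
  have hmax : IsLocalRing.maximalIdeal (Localization.AtPrime q) =
      (IsLocalRing.maximalIdeal B).map (algebraMap B (Localization.AtPrime q)) := by
    have h := maximalIdeal_eq_map_under_of_etale B C q
    rw [Ideal.under_def, hq] at h
    exact h
  -- flatness and injectivity
  have hflat1 : Module.Flat B C := inferInstance
  have hflat2 : Module.Flat C (Localization.AtPrime q) := IsLocalization.flat _ q.primeCompl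
  have hflat : Module.Flat B (Localization.AtPrime q) := Module.Flat.trans B C _
  have hinj : Function.Injective (algebraMap B (Localization.AtPrime q)) := by
    rw [injective_iff_map_eq_zero]
    intro b hb
    by_contra hb0
    have hreg : IsSMulRegular (Localization.AtPrime q) b :=
      Module.Flat.isSMulRegular_of_nonZeroDivisors (mem_nonZeroDivisors_of_ne_zero hb0)
    have h1 : b • (1 : Localization.AtPrime q) = b • (0 : Localization.AtPrime q) := by
      rw [smul_zero, Algebra.smul_def, mul_one, hb]
    exact one_ne_zero (hreg h1)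
  -- not a field
  have hnf : ¬ IsField (Localization.AtPrime q) := by
    rw [IsLocalRing.isField_iff_maximalIdeal_eq, hmax]
    intro h
    obtain ⟨ϖ, hϖ⟩ := IsDiscreteValuationRing.exists_irreducible B
    have hmem : algebraMap B (Localization.AtPrime q) ϖ ∈
        (IsLocalRing.maximalIdeal B).map (algebraMap B (Localization.AtPrime q)) :=
      Ideal.mem_map_of_mem _ ((IsDiscreteValuationRing.irreducible_iff_uniformizer ϖ).mp hϖ ▸
        Ideal.mem_span_singleton_self ϖ)
    rw [h, Ideal.mem_bot] at hmem
    exact hϖ.ne_zero (hinj (by rw [hmem, map_zero]))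
  obtain ⟨_, hdvr⟩ := isDiscreteValuationRing_localization_of_etale B C q hnf
  refine ⟨hdom, hdvr, hinj, hmax.symm, ?_⟩
  -- residue field
  intro y
  obtain ⟨y, rfl⟩ := IsLocalRing.residue_surjective y
  obtain ⟨c, s, rfl⟩ := IsLocalization.exists_mk'_eq q.primeCompl y
  obtain ⟨bc, hbc⟩ := hsurj c
  obtain ⟨bs, hbs⟩ := hsurj s
  have hbs_unit : IsUnit bs := by
    rw [← IsLocalRing.notMem_maximalIdeal, ← hq, Ideal.mem_comap]
    intro hmem
    apply s.2
    have : (s : C) = (s - algebraMap B C bs) + algebraMap B C bs := by ring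
    rw [this]
    exact q.add_mem hbs hmem
  obtain ⟨u, rfl⟩ := hbs_unit
  refine ⟨bc * ↑u⁻¹, ?_⟩
  have hres : ∀ x : C, x ∈ q → IsLocalRing.residue (Localization.AtPrime q)
      (algebraMap C (Localization.AtPrime q) x) = 0 := by
    intro x hx
    rw [IsLocalRing.residue_eq_zero_iff]
    exact (IsLocalization.AtPrime.to_map_mem_maximal_iff (Localization.AtPrime q) q x).mpr hx
  have h1 : IsLocalRing.residue (Localization.AtPrime q) (algebraMap C _ c) =
      IsLocalRing.residue (Localization.AtPrime q) (algebraMap B _ bc) := by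
    rw [← sub_eq_zero, ← map_sub, IsScalarTower.algebraMap_apply B C (Localization.AtPrime q),
      ← map_sub]
    exact hres _ hbc
  have h2 : IsLocalRing.residue (Localization.AtPrime q) (algebraMap C _ (s : C)) =
      IsLocalRing.residue (Localization.AtPrime q) (algebraMap B _ (u : B)) := by
    rw [← sub_eq_zero, ← map_sub, IsScalarTower.algebraMap_apply B C (Localization.AtPrime q),
      ← map_sub]
    exact hres _ hbs
  have h3 : IsLocalRing.residue (Localization.AtPrime q)
      (IsLocalization.mk' (Localization.AtPrime q) c s) *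
      IsLocalRing.residue (Localization.AtPrime q) (algebraMap C _ (s : C)) =
      IsLocalRing.residue (Localization.AtPrime q) (algebraMap C _ c) := by
    rw [← map_mul, IsLocalization.mk'_spec]
  have hu : IsUnit (IsLocalRing.residue (Localization.AtPrime q) (algebraMap B _ (u : B))) :=
    (u.isUnit.map (algebraMap B (Localization.AtPrime q))).map _
  show IsLocalRing.residue (Localization.AtPrime q) (algebraMap B _ (bc * ↑u⁻¹)) = _
  apply hu.mul_right_cancel
  rw [← h2, h3, h1, h2, ← map_mul, ← map_mul, mul_assoc, Units.inv_mul, mul_one]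


open TensorProduct in
/-- Cutting an étale algebra over a polynomial ring down to an étale `B`-algebra through a
`B`-rational point. -/
theorem exists_etale_rational_section (B : Type u) [CommRing B] {n : ℕ} (S : Type u) [CommRing S]
    [Algebra B S] [Algebra (MvPolynomial (Fin n) B) S] [IsScalarTower B (MvPolynomial (Fin n) B) S]
    [Algebra.Etale (MvPolynomial (Fin n) B) S] (p' : Ideal S) [p'.IsPrime]
    (hsurj : ∀ x : S, ∃ b : B, x - algebraMap B S b ∈ p') :
    ∃ (C : Type u) (_ : CommRing C) (_ : Algebra B C) (_ : Algebra.Etale B C) (θ : S →+* C)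
      (q : Ideal C) (_ : q.IsPrime),
      θ.comp (algebraMap B S) = algebraMap B C ∧ q.comap θ = p' ∧
        ∀ c : C, ∃ b : B, c - algebraMap B C b ∈ q := by
  classical
  choose b hb using fun i : Fin n => hsurj (algebraMap (MvPolynomial (Fin n) B) S (MvPolynomial.X i))
  let ev : MvPolynomial (Fin n) B →ₐ[B] B := MvPolynomial.aeval b
  letI : Algebra (MvPolynomial (Fin n) B) B := ev.toRingHom.toAlgebra
  have hevdef : ∀ g : MvPolynomial (Fin n) B, algebraMap (MvPolynomial (Fin n) B) B g = ev g :=
    fun g => rfl
  have : IsScalarTower B (MvPolynomial (Fin n) B) B := IsScalarTower.of_algebraMap_eq (fun x => by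
    rw [hevdef, MvPolynomial.algebraMap_eq]
    show x = ev (MvPolynomial.C x)
    simp [ev])
  have hcompat : ∀ g : MvPolynomial (Fin n) B,
      algebraMap B (S ⧸ p') (ev g) = algebraMap (MvPolynomial (Fin n) B) (S ⧸ p') g := by
    intro g
    have h : ((Algebra.ofId B (S ⧸ p')).comp ev) =
        (IsScalarTower.toAlgHom B (MvPolynomial (Fin n) B) (S ⧸ p')) := by
      apply MvPolynomial.algHom_ext
      intro i
      show algebraMap B (S ⧸ p') (ev (MvPolynomial.X i)) =
        algebraMap (MvPolynomial (Fin n) B) (S ⧸ p') (MvPolynomial.X i)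
      have h1 : ev (MvPolynomial.X i) = b i := by simp [ev]
      rw [h1, IsScalarTower.algebraMap_apply B S (S ⧸ p'),
        IsScalarTower.algebraMap_apply (MvPolynomial (Fin n) B) S (S ⧸ p')]
      symm
      exact (Ideal.Quotient.mk_eq_mk_iff_sub_mem _ _).mpr (hb i)
    exact DFunLike.congr_fun h g
  let fB : B →ₐ[MvPolynomial (Fin n) B] (S ⧸ p') :=
    { (algebraMap B (S ⧸ p')) with
      commutes' := fun g => by
        show algebraMap B (S ⧸ p') (algebraMap (MvPolynomial (Fin n) B) B g) = _
        rw [hevdef]
        exact hcompat g }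
  let fS : S →ₐ[MvPolynomial (Fin n) B] (S ⧸ p') :=
    IsScalarTower.toAlgHom (MvPolynomial (Fin n) B) S (S ⧸ p')
  let χ : B ⊗[MvPolynomial (Fin n) B] S →ₐ[MvPolynomial (Fin n) B] (S ⧸ p') :=
    Algebra.TensorProduct.lift fB fS (fun _ _ => Commute.all _ _)
  have hχ : ∀ (x : B) (s : S), χ (x ⊗ₜ s) = algebraMap B (S ⧸ p') x * Ideal.Quotient.mk p' s := by
    intro x s
    exact Algebra.TensorProduct.lift_tmul _ _ _ _ _
  let θ : S →+* B ⊗[MvPolynomial (Fin n) B] S :=
    (Algebra.TensorProduct.includeRight :
      S →ₐ[MvPolynomial (Fin n) B] B ⊗[MvPolynomial (Fin n) B] S).toRingHom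
  have hθ : ∀ s : S, θ s = (1 : B) ⊗ₜ[MvPolynomial (Fin n) B] s := fun s => rfl
  have hqprime : (RingHom.ker χ.toRingHom).IsPrime := RingHom.ker_isPrime _
  refine ⟨B ⊗[MvPolynomial (Fin n) B] S, inferInstance, inferInstance, inferInstance, θ,
    RingHom.ker χ.toRingHom, hqprime, ?_, ?_, ?_⟩
  · ext x
    show θ (algebraMap B S x) = algebraMap B (B ⊗[MvPolynomial (Fin n) B] S) x
    rw [hθ, Algebra.TensorProduct.algebraMap_apply,
      IsScalarTower.algebraMap_apply B (MvPolynomial (Fin n) B) S, Algebra.algebraMap_eq_smul_one,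
      ← TensorProduct.smul_tmul, Algebra.smul_def, mul_one, hevdef, MvPolynomial.algebraMap_eq]
    congr 1
    simp [ev]
  · ext s
    rw [Ideal.mem_comap, RingHom.mem_ker]
    show χ (θ s) = 0 ↔ s ∈ p'
    rw [hθ, hχ, map_one, one_mul, Ideal.Quotient.eq_zero_iff_mem]
  · intro c
    obtain ⟨s, hs⟩ := Ideal.Quotient.mk_surjective (χ c)
    obtain ⟨b₀, hb₀⟩ := hsurj s
    refine ⟨b₀, ?_⟩
    rw [RingHom.mem_ker]
    show χ (c - algebraMap B (B ⊗[MvPolynomial (Fin n) B] S) b₀) = 0
    rw [map_sub, Algebra.TensorProduct.algebraMap_apply, hχ, map_one, mul_one, ← hs,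
      Algebra.algebraMap_self, RingHom.id_apply,
      IsScalarTower.algebraMap_apply B S (S ⧸ p'), sub_eq_zero]
    exact (Ideal.Quotient.mk_eq_mk_iff_sub_mem _ _).mpr hb₀


/-- A smooth rational point of the special fibre of a finite type algebra over a DVR lifts to a
DVR-valued point which is unramified over the base with trivial residue field extension. -/
theorem exists_dvr_point_of_isSmoothAt
    (B : Type u) [CommRing B] [IsDomain B] [IsDiscreteValuationRing B]
    (A : Type u) [CommRing A] [Algebra B A] [Algebra.FiniteType B A]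
    (p : Ideal A) [p.IsPrime] (hp : p.comap (algebraMap B A) = IsLocalRing.maximalIdeal B)
    [Algebra.IsSmoothAt B p]
    (hres : Function.Surjective ((algebraMap A p.ResidueField).comp (algebraMap B A))) :
    ∃ (B' : Type u) (_ : CommRing B') (_ : IsDomain B') (_ : IsDiscreteValuationRing B')
      (ψ : A →+* B'),
      Ideal.comap ψ (IsLocalRing.maximalIdeal B') = p ∧
      Function.Injective (ψ.comp (algebraMap B A)) ∧
      Ideal.map (ψ.comp (algebraMap B A)) (IsLocalRing.maximalIdeal B) =
        IsLocalRing.maximalIdeal B' ∧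
      Function.Surjective ((IsLocalRing.residue B').comp (ψ.comp (algebraMap B A))) := by
  have hfp : Algebra.FinitePresentation B A := Algebra.FinitePresentation.of_finiteType.mp inferInstance
  have hresA : ∀ a : A, ∃ b : B, a - algebraMap B A b ∈ p := by
    intro a
    obtain ⟨b, hb⟩ := hres (algebraMap A p.ResidueField a)
    refine ⟨b, ?_⟩
    rw [← Ideal.algebraMap_residueField_eq_zero, map_sub, sub_eq_zero]
    exact hb.symm
  obtain ⟨f, hfp', n, _, _, hstd⟩ :=
    Algebra.IsSmoothAt.exists_isStandardEtale_mvPolynomial (R := B) (S := A) (p := p)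
  have hdisj : Disjoint (Submonoid.powers f : Set A) (p : Set A) :=
    (Ideal.disjoint_powers_iff_notMem_of_isPrime _).mpr hfp'
  have hp'prime : (p.map (algebraMap A (Localization.Away f))).IsPrime :=
    IsLocalization.isPrime_of_isPrime_disjoint (.powers f) _ _ ‹_› hdisj
  have hcomap : (p.map (algebraMap A (Localization.Away f))).comap
      (algebraMap A (Localization.Away f)) = p :=
    IsLocalization.comap_map_of_isPrime_disjoint (.powers f) _ ‹_› hdisj
  -- every element of `A_f` is congruent to an element of `B`
  have hsurj' : ∀ x : Localization.Away f, ∃ b : B,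
      x - algebraMap B (Localization.Away f) b ∈ p.map (algebraMap A (Localization.Away f)) := by
    intro x
    obtain ⟨a, ⟨_, m, rfl⟩, rfl⟩ := IsLocalization.exists_mk'_eq (Submonoid.powers f) x
    obtain ⟨ba, hba⟩ := hresA a
    obtain ⟨bf, hbf⟩ := hresA f
    have hbf_unit : IsUnit bf := by
      rw [← IsLocalRing.notMem_maximalIdeal, ← hp, Ideal.mem_comap]
      intro hmem
      apply hfp'
      have : f = (f - algebraMap B A bf) + algebraMap B A bf := by ring
      rw [this]
      exact p.add_mem hbf hmem
    obtain ⟨u, rfl⟩ := hbf_unit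
    refine ⟨ba * ↑(u⁻¹ ^ m), ?_⟩
    set p' := p.map (algebraMap A (Localization.Away f)) with hp'def
    rw [← Ideal.Quotient.mk_eq_mk_iff_sub_mem]
    have hmk : ∀ a₁ a₂ : A, a₁ - a₂ ∈ p → Ideal.Quotient.mk p' (algebraMap A _ a₁) =
        Ideal.Quotient.mk p' (algebraMap A _ a₂) := by
      intro a₁ a₂ h
      rw [Ideal.Quotient.mk_eq_mk_iff_sub_mem, ← map_sub]
      exact Ideal.mem_map_of_mem _ h
    have h1 := hmk _ _ hba
    have h2 := hmk _ _ hbf
    rw [← IsScalarTower.algebraMap_apply B A (Localization.Away f)] at h1 h2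
    have h3 : Ideal.Quotient.mk p' (IsLocalization.mk' (Localization.Away f) a
        (⟨f ^ m, m, rfl⟩ : Submonoid.powers f)) *
        Ideal.Quotient.mk p' (algebraMap A _ f) ^ m = Ideal.Quotient.mk p' (algebraMap A _ a) := by
      rw [← map_pow, ← map_pow, ← map_mul]
      congr 1
      exact IsLocalization.mk'_spec _ a (⟨f ^ m, m, rfl⟩ : Submonoid.powers f)
    have hu : IsUnit (Ideal.Quotient.mk p' (algebraMap B (Localization.Away f) (u : B)) ^ m) :=
      ((u.isUnit.map (algebraMap B (Localization.Away f))).map (Ideal.Quotient.mk p')).pow m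
    apply hu.mul_right_cancel
    rw [← h2, h3, h1, h2, ← map_pow, ← map_pow, ← map_mul, ← map_mul, mul_assoc,
      ← Units.val_pow_eq_pow_val, ← Units.val_mul, inv_pow, inv_mul_cancel, Units.val_one, mul_one]
  obtain ⟨C, _, _, _, θ, q, _, hθ, hqθ, hsurjC⟩ :=
    exists_etale_rational_section B (n := n) (Localization.Away f)
      (p.map (algebraMap A (Localization.Away f))) hsurj'
  have hq : q.comap (algebraMap B C) = IsLocalRing.maximalIdeal B := by
    rw [← hθ, ← Ideal.comap_comap, hqθ, IsScalarTower.algebraMap_eq B A (Localization.Away f),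
      ← Ideal.comap_comap, hcomap, hp]
  obtain ⟨hdom, hdvr, hinj, hmax, hressurj⟩ := dvr_localization_of_etale_rational B C q hq hsurjC
  let ψ : A →+* Localization.AtPrime q :=
    (algebraMap C (Localization.AtPrime q)).comp (θ.comp (algebraMap A (Localization.Away f)))
  have hψ : ψ.comp (algebraMap B A) = algebraMap B (Localization.AtPrime q) := by
    ext x
    show algebraMap C (Localization.AtPrime q) (θ (algebraMap A (Localization.Away f)
      (algebraMap B A x))) = _
    rw [← IsScalarTower.algebraMap_apply B A (Localization.Away f),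
      IsScalarTower.algebraMap_apply B C (Localization.AtPrime q), ← hθ]
    rfl
  refine ⟨Localization.AtPrime q, inferInstance, hdom, hdvr, ψ, ?_, ?_, ?_, ?_⟩
  · show Ideal.comap ((algebraMap C (Localization.AtPrime q)).comp
      (θ.comp (algebraMap A (Localization.Away f)))) _ = p
    have hm : Ideal.comap (algebraMap C (Localization.AtPrime q))
        (IsLocalRing.maximalIdeal (Localization.AtPrime q)) = q :=
      IsLocalization.AtPrime.comap_maximalIdeal (Localization.AtPrime q) q
    rw [← Ideal.comap_comap, ← Ideal.comap_comap, hm, hqθ, hcomap]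
  · rw [hψ]; exact hinj
  · rw [hψ]; exact hmax
  · rw [hψ]; exact hressurj

end Groth.Agent.Lib.Helper9
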