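import Mathlib
import Groth.Prelude.Def_EtRam
import Groth.Agent.Lib.Helper9.TameBC

/-!
# Composita of unramified / tamely ramified extensions
-/

universe u

namespace Groth.Agent.Lib.Helper9.TameTrans

open Polynomial IsLocalRing EtRam TensorProduct Groth.Agent.Lib.Helper9
  Groth.Agent.Lib.Helper9.DVRExt Groth.Agent.Lib.Helper9.TameBase
  Groth.Agent.Lib.Helper9.AbhyankarCore

section Compositum

variable (A K L₁ L₂ M : Type u) [CommRing A] [IsDomain A] [IsDiscreteValuationRing A]
  [Field K] [Algebra A K] [IsFractionRing A K] [Field L₁] [Field L₂] [Field M]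
  [Algebra K L₁] [Algebra K L₂] [Algebra K M]
  [FiniteDimensional K L₁] [Algebra.IsSeparable K L₁] [FiniteDimensional K L₂]
  [Algebra.IsSeparable K L₂] [FiniteDimensional K M] [Algebra.IsSeparable K M]
  [Algebra A L₁] [IsScalarTower A K L₁] [Algebra A L₂] [IsScalarTower A K L₂] [Algebra A M]
  [IsScalarTower A K M]

set_option maxHeartbeats 2000000 in
/-- The compositum of two unramified extensions is unramified. -/
theorem unramified_compositum (i₁ : L₁ →ₐ[K] M) (i₂ : L₂ →ₐ[K] M)
    (hgen : ∀ E : Subfield M, Set.range i₂ ⊆ E → Set.range i₁ ⊆ E → E = ⊤)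
    (h₁ : IsUnramifiedExt A (algebraMap A L₁)) (h₂ : IsUnramifiedExt A (algebraMap A L₂)) :
    IsUnramifiedExt A (algebraMap A M) := by
  classical
  intro W hdomW hlocW
  letI algAW : Algebra A W := (RingHom.codRestrict (algebraMap A M) W hdomW.1).toAlgebra
  show IsWeaklyUnramified A W ∧ Algebra.IsSeparable (ResidueField A) (ResidueField W)
  have hi₁A : ∀ a : A, i₁ (algebraMap A L₁ a) = algebraMap A M a := by
    intro a
    rw [IsScalarTower.algebraMap_apply A K L₁, i₁.commutes, ← IsScalarTower.algebraMap_apply]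
  set V₁ : ValuationSubring L₁ := W.comap i₁.toRingHom with hV₁
  have hdomV₁ : Dominates A (algebraMap A L₁) V₁ := by
    refine ⟨fun a => ?_, fun a ha => ?_⟩
    · show i₁ (algebraMap A L₁ a) ∈ W
      rw [hi₁A]
      exact hdomW.1 a
    · rw [valuation_comap_lt_one_iff]
      show W.valuation (i₁ (algebraMap A L₁ a)) < 1
      rw [hi₁A]
      exact hdomW.2 a ha
  haveI hdvrV₁ : IsDiscreteValuationRing V₁ := isDiscreteValuationRing_of_dominates A K V₁ hdomV₁
  letI algAV₁ : Algebra A V₁ := (RingHom.codRestrict (algebraMap A L₁) V₁ hdomV₁.1).toAlgebra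
  haveI hlocAV₁ : IsLocalHom (algebraMap A V₁) := isLocalHom_of_dominates _ V₁ hdomV₁
  obtain ⟨hwu₁, hsep₁⟩ := @h₁ V₁ hdomV₁ hlocAV₁
  haveI towAV₁L₁ : IsScalarTower A V₁ L₁ := IsScalarTower.of_algebraMap_eq (fun _ => rfl)
  have hcompat : i₂.toRingHom.comp (algebraMap K L₂) = i₁.toRingHom.comp (algebraMap K L₁) := by
    ext k
    show i₂ (algebraMap K L₂ k) = i₁ (algebraMap K L₁ k)
    rw [i₁.commutes, i₂.commutes]
  have hcore := Groth.Agent.S9306.core A V₁ K L₁ L₂ M h₂ i₂.toRingHom i₁.toRingHom hcompat hgen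
  have hdomW' : Dominates V₁ (i₁.toRingHom.comp (algebraMap V₁ L₁)) W := by
    refine ⟨fun w => w.2, fun w hw => ?_⟩
    exact (valuation_comap_lt_one_iff W _ _).mp
      ((ValuationSubring.valuation_lt_one_iff _ w).mp hw)
  letI algV₁W : Algebra V₁ W :=
    (RingHom.codRestrict (i₁.toRingHom.comp (algebraMap V₁ L₁)) W hdomW'.1).toAlgebra
  haveI hlocV₁W : IsLocalHom (algebraMap V₁ W) := isLocalHom_of_dominates _ W hdomW'
  obtain ⟨hwu₂, hsep₂⟩ := @hcore W hdomW' hlocV₁W
  haveI towAV₁W : IsScalarTower A V₁ W :=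
    IsScalarTower.of_algebraMap_eq (fun a => Subtype.ext (hi₁A a).symm)
  constructor
  · show (maximalIdeal A).map (algebraMap A W) = maximalIdeal W
    have h1 : (maximalIdeal A).map (algebraMap A V₁) = maximalIdeal V₁ := hwu₁
    have h2 : (maximalIdeal V₁).map (algebraMap V₁ W) = maximalIdeal W := hwu₂
    rw [IsScalarTower.algebraMap_eq A V₁ W, ← Ideal.map_map, h1, h2]
  · rw [← SepRes.iff_isSeparable] at hsep₁ hsep₂ ⊢
    have h3 : SepRes ((algebraMap V₁ W).comp (algebraMap A V₁)) := hsep₁.comp _ _ hsep₂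
    exact Kummer.SepRes.congr (IsScalarTower.algebraMap_eq A V₁ W).symm h3

set_option maxHeartbeats 2000000 in
/-- The compositum of two tamely ramified extensions is tamely ramified. -/
theorem tame_compositum (i₁ : L₁ →ₐ[K] M) (i₂ : L₂ →ₐ[K] M)
    (hgen : ∀ E : Subfield M, Set.range i₂ ⊆ E → Set.range i₁ ⊆ E → E = ⊤)
    (h₁ : IsTamelyRamified A (algebraMap A L₁)) (h₂ : IsTamelyRamified A (algebraMap A L₂)) :
    IsTamelyRamified A (algebraMap A M) := by
  classical
  intro W hdomW hlocW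
  letI algAW : Algebra A W := (RingHom.codRestrict (algebraMap A M) W hdomW.1).toAlgebra
  show Algebra.IsSeparable (ResidueField A) (ResidueField W) ∧
    ∀ p : ℕ, p.Prime → CharP (ResidueField A) p →
      ¬ p ∣ Ideal.ramificationIdx' (maximalIdeal A) (maximalIdeal W)
  have hi₁A : ∀ a : A, i₁ (algebraMap A L₁ a) = algebraMap A M a := by
    intro a
    rw [IsScalarTower.algebraMap_apply A K L₁, i₁.commutes, ← IsScalarTower.algebraMap_apply]
  set V₁ : ValuationSubring L₁ := W.comap i₁.toRingHom with hV₁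
  have hdomV₁ : Dominates A (algebraMap A L₁) V₁ := by
    refine ⟨fun a => ?_, fun a ha => ?_⟩
    · show i₁ (algebraMap A L₁ a) ∈ W
      rw [hi₁A]
      exact hdomW.1 a
    · rw [valuation_comap_lt_one_iff]
      show W.valuation (i₁ (algebraMap A L₁ a)) < 1
      rw [hi₁A]
      exact hdomW.2 a ha
  haveI hdvrV₁ : IsDiscreteValuationRing V₁ := isDiscreteValuationRing_of_dominates A K V₁ hdomV₁
  haveI hdvrW : IsDiscreteValuationRing W := isDiscreteValuationRing_of_dominates A K W hdomW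
  letI algAV₁ : Algebra A V₁ := (RingHom.codRestrict (algebraMap A L₁) V₁ hdomV₁.1).toAlgebra
  haveI hlocAV₁ : IsLocalHom (algebraMap A V₁) := isLocalHom_of_dominates _ V₁ hdomV₁
  obtain ⟨hsep₁, hram₁⟩ := @h₁ V₁ hdomV₁ hlocAV₁
  haveI towAV₁L₁ : IsScalarTower A V₁ L₁ := IsScalarTower.of_algebraMap_eq (fun _ => rfl)
  have hinjAV₁ : Function.Injective (algebraMap A V₁) := by
    intro a b hab
    apply algebraMap_injective_of_tower A K (L := L₁)
    exact congrArg (fun v : V₁ => (v : L₁)) hab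
  letI algL₁M : Algebra L₁ M := i₁.toRingHom.toAlgebra
  haveI towKL₁M : IsScalarTower K L₁ M :=
    IsScalarTower.of_algebraMap_eq (fun k => (i₁.commutes k).symm)
  haveI : FiniteDimensional L₁ M := Module.Finite.of_restrictScalars_finite K L₁ M
  haveI : Algebra.IsSeparable L₁ M := Algebra.isSeparable_tower_top_of_isSeparable K L₁ M
  letI algV₁M : Algebra V₁ M := ((algebraMap L₁ M).comp (algebraMap V₁ L₁)).toAlgebra
  haveI towV₁L₁M : IsScalarTower V₁ L₁ M := IsScalarTower.of_algebraMap_eq (fun _ => rfl)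
  have hcompat : i₂.toRingHom.comp (algebraMap K L₂) =
      (algebraMap L₁ M).comp (algebraMap K L₁) := by
    ext k
    show i₂ (algebraMap K L₂ k) = i₁ (algebraMap K L₁ k)
    rw [i₁.commutes, i₂.commutes]
  have hgen' : ∀ E : Subfield M, Set.range i₂.toRingHom ⊆ E →
      Set.range (algebraMap L₁ M) ⊆ E → E = ⊤ := hgen
  have htbc := TameBC.tame_base_change A V₁ K L₁ L₂ M hinjAV₁ h₂ i₂.toRingHom hcompat hgen'
  have hdomW' : Dominates V₁ (algebraMap V₁ M) W := by
    refine ⟨fun w => w.2, fun w hw => ?_⟩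
    exact (valuation_comap_lt_one_iff W _ _).mp
      ((ValuationSubring.valuation_lt_one_iff _ w).mp hw)
  letI algV₁W : Algebra V₁ W :=
    (RingHom.codRestrict (algebraMap V₁ M) W hdomW'.1).toAlgebra
  haveI hlocV₁W : IsLocalHom (algebraMap V₁ W) := isLocalHom_of_dominates _ W hdomW'
  obtain ⟨hsep₂, hram₂⟩ := @htbc W hdomW' hlocV₁W
  haveI towAV₁W : IsScalarTower A V₁ W :=
    IsScalarTower.of_algebraMap_eq (fun a => Subtype.ext (hi₁A a).symm)
  have hinjV₁W : Function.Injective (algebraMap V₁ W) := by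
    intro a b hab
    have := congrArg (fun v : W => (v : M)) hab
    exact Subtype.ext (i₁.toRingHom.injective this)
  have hinjAW : Function.Injective (algebraMap A W) := by
    rw [IsScalarTower.algebraMap_eq A V₁ W]
    exact hinjV₁W.comp hinjAV₁
  have hmul : Ideal.ramificationIdx' (maximalIdeal A) (maximalIdeal W) =
      Ideal.ramificationIdx' (maximalIdeal A) (maximalIdeal V₁) *
        Ideal.ramificationIdx' (maximalIdeal V₁) (maximalIdeal W) := by
    apply Ideal.ramificationIdx'_algebra_tower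
    · rw [Ne, Ideal.map_eq_bot_iff_of_injective hinjV₁W]
      exact IsDiscreteValuationRing.not_a_field V₁
    · rw [Ne, Ideal.map_eq_bot_iff_of_injective hinjAW]
      exact IsDiscreteValuationRing.not_a_field A
    · exact ((local_hom_TFAE (algebraMap V₁ W)).out 0 2).mp hlocV₁W
  constructor
  · rw [← SepRes.iff_isSeparable] at hsep₁ hsep₂ ⊢
    have h3 : SepRes ((algebraMap V₁ W).comp (algebraMap A V₁)) := hsep₁.comp _ _ hsep₂
    exact Kummer.SepRes.congr (IsScalarTower.algebraMap_eq A V₁ W).symm h3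
  · intro p hp hchar hdvd
    rw [hmul] at hdvd
    rcases (Nat.Prime.dvd_mul hp).mp hdvd with h | h
    · exact hram₁ p hp hchar h
    · haveI := hchar
      have hchar' : CharP (ResidueField V₁) p :=
        charP_of_injective_algebraMap (algebraMap (ResidueField A) (ResidueField V₁)).injective p
      exact hram₂ p hp hchar' h

end Compositum

section GaloisClosure

variable (A K : Type u) [CommRing A] [IsDomain A] [IsDiscreteValuationRing A]
  [Field K] [Algebra A K] [IsFractionRing A K]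

/-- The two inclusions `E₁, E₂ → E₁ ⊔ E₂` generate. -/
theorem sup_generated {Ω : Type u} [Field Ω] [Algebra K Ω] (E₁ E₂ : IntermediateField K Ω)
    (E : Subfield ↥(E₁ ⊔ E₂))
    (h2 : Set.range (IntermediateField.inclusion (le_sup_right : E₂ ≤ E₁ ⊔ E₂)) ⊆ E)
    (h1 : Set.range (IntermediateField.inclusion (le_sup_left : E₁ ≤ E₁ ⊔ E₂)) ⊆ E) : E = ⊤ := by
  let E' : IntermediateField K Ω :=
    Subfield.toIntermediateField (E.map (E₁ ⊔ E₂).val.toRingHom)
      (fun k => ⟨algebraMap K _ k, h1 ⟨algebraMap K E₁ k, rfl⟩, rfl⟩)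
  have hle₁ : E₁ ≤ E' := fun x hx =>
    ⟨⟨x, (le_sup_left : E₁ ≤ E₁ ⊔ E₂) hx⟩, h1 ⟨⟨x, hx⟩, rfl⟩, rfl⟩
  have hle₂ : E₂ ≤ E' := fun x hx =>
    ⟨⟨x, (le_sup_right : E₂ ≤ E₁ ⊔ E₂) hx⟩, h2 ⟨⟨x, hx⟩, rfl⟩, rfl⟩
  have hle : E₁ ⊔ E₂ ≤ E' := sup_le hle₁ hle₂
  rw [eq_top_iff]
  intro x _
  obtain ⟨y, hy, hyx⟩ := hle x.2
  have : y = x := Subtype.ext hyx
  rw [← this]
  exact hy

set_option maxHeartbeats 2000000 in
/-- Galois closure for a property stable under composita. -/
theorem galois_closure (P : ∀ (M : Type u) [Field M], (A →+* M) → Prop)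
    (hP : ∀ (L₁ L₂ M : Type u) [Field L₁] [Field L₂] [Field M] [Algebra K L₁] [Algebra K L₂]
      [Algebra K M] [FiniteDimensional K L₁] [Algebra.IsSeparable K L₁] [FiniteDimensional K L₂]
      [Algebra.IsSeparable K L₂] [FiniteDimensional K M] [Algebra.IsSeparable K M]
      (i₁ : L₁ →ₐ[K] M) (i₂ : L₂ →ₐ[K] M),
      (∀ E : Subfield M, Set.range i₂ ⊆ E → Set.range i₁ ⊆ E → E = ⊤) →
      P L₁ ((algebraMap K L₁).comp (algebraMap A K)) →
      P L₂ ((algebraMap K L₂).comp (algebraMap A K)) →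
      P M ((algebraMap K M).comp (algebraMap A K)))
    (L : Type u) [Field L] [Algebra K L] [FiniteDimensional K L] [Algebra.IsSeparable K L]
    (h : P L ((algebraMap K L).comp (algebraMap A K))) :
    ∃ (M : Type u) (_ : Field M) (_ : Algebra K M) (_ : FiniteDimensional K M) (_ : IsGalois K M)
      (_ : L →ₐ[K] M), P M ((algebraMap K M).comp (algebraMap A K)) := by
  classical
  let p : IntermediateField K (AlgebraicClosure K) → Prop := fun E =>
    FiniteDimensional K E ∧ Algebra.IsSeparable K E ∧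
      P E ((algebraMap K E).comp (algebraMap A K))
  have hbase : ∀ f : L →ₐ[K] AlgebraicClosure K, p f.fieldRange := by
    intro f
    have hfd : FiniteDimensional K f.fieldRange := f.toLinearMap.finiteDimensional_range
    have hsep : Algebra.IsSeparable K f.fieldRange :=
      AlgEquiv.Algebra.isSeparable (AlgEquiv.ofInjectiveField f)
    refine ⟨hfd, hsep, ?_⟩
    haveI := hfd
    haveI := hsep
    let i : L →ₐ[K] f.fieldRange := (AlgEquiv.ofInjectiveField f).toAlgHom
    refine hP L L f.fieldRange i i (fun E h1 _ => ?_) h h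
    rw [eq_top_iff]
    intro x _
    obtain ⟨l, hl⟩ := (AlgEquiv.ofInjectiveField f).surjective x
    exact h1 ⟨l, hl⟩
  have hsup : ∀ E₁, p E₁ → ∀ E₂, p E₂ → p (E₁ ⊔ E₂) := by
    rintro E₁ ⟨hfd₁, hsep₁, hP₁⟩ E₂ ⟨hfd₂, hsep₂, hP₂⟩
    haveI := hfd₁
    haveI := hsep₁
    haveI := hfd₂
    haveI := hsep₂
    have hfd : FiniteDimensional K ↥(E₁ ⊔ E₂) := IntermediateField.finiteDimensional_sup E₁ E₂
    have hsep : Algebra.IsSeparable K ↥(E₁ ⊔ E₂) := inferInstance
    refine ⟨hfd, hsep, ?_⟩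
    haveI := hfd
    haveI := hsep
    exact hP (↥E₁) (↥E₂) (↥(E₁ ⊔ E₂)) (IntermediateField.inclusion le_sup_left)
      (IntermediateField.inclusion le_sup_right) (sup_generated K E₁ E₂) hP₁ hP₂
  have f₀ : L →ₐ[K] AlgebraicClosure K := IsAlgClosed.lift
  have hM : p (IntermediateField.normalClosure K L (AlgebraicClosure K)) := by
    rw [normalClosure_def, ← Finset.sup_univ_eq_iSup,
      ← Finset.sup'_eq_sup ⟨f₀, Finset.mem_univ _⟩]
    exact Finset.sup'_induction _ _ hsup (fun f _ => hbase f)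
  obtain ⟨hfd, hsep, hPM⟩ := hM
  haveI := hsep
  exact ⟨IntermediateField.normalClosure K L (AlgebraicClosure K), inferInstance, inferInstance,
    hfd, ⟨⟩, (normalClosure.algHomEquiv K L (AlgebraicClosure K)).symm f₀, hPM⟩

end GaloisClosure

end Groth.Agent.Lib.Helper9.TameTrans
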